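import Mathlib
import Cfsg.Agent.S4337

/-!
Finite simple groups acting with at most four fixed points: the setting and first facts
(`notes/s3365_plan.md`).
-/

set_option autoImplicit false
set_option linter.style.haveILetI false
set_option linter.unusedSectionVars false

namespace CfsgLib.FixityFour

open MulAction

variable (G Ω : Type*) [Group G] [MulAction G Ω]

/-- The hypotheses: non-abelian, transitive, at most four fixed points. -/
structure Fixity : Prop where
  nonab : ¬ IsMulCommutative G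
  trans : IsPretransitive G Ω
  le_four : ∀ g : G, g ≠ 1 → Nat.card (fixedBy Ω g) ≤ 4

variable {G Ω}

/-- The setwise stabiliser. -/
def setStab (F : Set Ω) : Subgroup G where
  carrier := {g | ∀ x, g • x ∈ F ↔ x ∈ F}
  one_mem' := fun x => by rw [one_smul]
  mul_mem' := fun {a b} ha hb x => by rw [mul_smul, ha, hb]
  inv_mem' := fun {a} ha x => by rw [← ha (a⁻¹ • x), smul_inv_smul]

/-- The pointwise stabiliser. -/
def ptStab (F : Set Ω) : Subgroup G where
  carrier := {g | ∀ x ∈ F, g • x = x}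
  one_mem' := fun x _ => one_smul _ x
  mul_mem' := fun {a b} ha hb x hx => by rw [mul_smul, hb x hx, ha x hx]
  inv_mem' := fun {a} ha x hx => by rw [inv_smul_eq_iff, ha x hx]

theorem mem_setStab {F : Set Ω} {g : G} : g ∈ setStab F ↔ ∀ x, g • x ∈ F ↔ x ∈ F := Iff.rfl

theorem mem_ptStab {F : Set Ω} {g : G} : g ∈ ptStab F ↔ ∀ x ∈ F, g • x = x := Iff.rfl

theorem mem_ptStab_iff_subset {F : Set Ω} {g : G} : g ∈ ptStab F ↔ F ⊆ fixedBy Ω g := Iff.rfl

theorem ptStab_le_setStab (F : Set Ω) : ptStab (G := G) F ≤ setStab F := fun g hg x => by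
  refine ⟨fun h => ?_, fun h => by rw [hg x h]; exact h⟩
  have h2 := hg _ h
  rw [smul_left_cancel_iff] at h2
  rwa [h2] at h

theorem conj_mem_ptStab {F : Set Ω} {g k : G} (hg : g ∈ setStab F) (hk : k ∈ ptStab F) :
    g * k * g⁻¹ ∈ ptStab F := fun x hx => by
  rw [mul_smul, mul_smul, hk _ ((inv_mem hg x).mpr hx), smul_inv_smul]

theorem fixedBy_conj (g h : G) : fixedBy Ω (g * h * g⁻¹) = (fun x => g • x) '' fixedBy Ω h := by
  ext x
  constructor
  · intro h'
    refine ⟨g⁻¹ • x, ?_, smul_inv_smul g x⟩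
    rw [mem_fixedBy, mul_smul, mul_smul, smul_eq_iff_eq_inv_smul] at h'
    exact h'
  · rintro ⟨y, hy, rfl⟩
    rw [mem_fixedBy, mul_smul, mul_smul, inv_smul_smul, (hy : h • y = y)]

theorem card_fixedBy_conj (g h : G) :
    Nat.card (fixedBy Ω (g * h * g⁻¹)) = Nat.card (fixedBy Ω h) := by
  rw [fixedBy_conj, Nat.card_image_of_injective (MulAction.injective g)]

theorem mem_setStab_fixedBy {g h : G} (hc : Commute g h) : g ∈ setStab (fixedBy Ω h) := fun x => by
  simp only [mem_fixedBy, ← mul_smul, ← hc.eq]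
  rw [mul_smul, smul_left_cancel_iff]

theorem fixedBy_subset_pow (g : G) (n : ℕ) : fixedBy Ω g ⊆ fixedBy Ω (g ^ n) := fun x hx => by
  induction n with
  | zero => simp
  | succ n ih =>
    simp only [mem_fixedBy] at hx ih ⊢
    rw [pow_succ, mul_smul, hx, ih]

theorem mem_stabilizer_of_fixed {g : G} {x : Ω} (h : x ∈ fixedBy Ω g) : g ∈ stabilizer G x := h

/-- For an element of prime power order the fixed points are counted modulo the prime. -/
theorem card_fixedBy_modEq [Finite Ω] {p : ℕ} [Fact p.Prime] {g : G}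
    (hg : ∃ k : ℕ, g ^ p ^ k = 1) : Nat.card (fixedBy Ω g) ≡ Nat.card Ω [MOD p] := by
  obtain ⟨k, hk⟩ := hg
  have hp : IsPGroup p (Subgroup.zpowers g) := by
    rintro ⟨_, n, rfl⟩
    exact ⟨k, Subtype.ext (by
      rw [Subgroup.coe_pow, ← zpow_natCast, ← zpow_mul, mul_comm, zpow_mul, zpow_natCast, hk, one_zpow,
        Subgroup.coe_one])⟩
  have h := hp.card_modEq_card_fixedPoints Ω
  have e : fixedPoints (Subgroup.zpowers g) Ω = fixedBy Ω g := by
    ext x
    refine ⟨fun hx => hx ⟨g, Subgroup.mem_zpowers g⟩, fun hx => ?_⟩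
    rintro ⟨_, n, rfl⟩
    exact (Subgroup.zpowers_le.mpr (mem_stabilizer_of_fixed hx) : _ ≤ stabilizer G x)
      (Subgroup.zpow_mem_zpowers g n)
  rw [← e]
  exact h.symm

section Simple

variable [Finite G] [IsSimpleGroup G] [FaithfulSMul G Ω] [Finite Ω] (B : Fixity G Ω)

include B

theorem hom_trivial {A : Type*} [CommGroup A] (f : G →* A) : f = 1 := by
  rcases (inferInstance : f.ker.Normal).eq_bot_or_eq_top with h | h
  · exact absurd ⟨⟨fun a b => (MonoidHom.ker_eq_bot_iff f).mp h (by rw [map_mul, map_mul, mul_comm])⟩⟩ B.nonab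
  · exact MonoidHom.ext fun x => (h ▸ Subgroup.mem_top x : x ∈ f.ker)

theorem five_le : 5 ≤ Nat.card Ω := by
  by_contra h
  push Not at h
  let ι : Equiv.Perm Ω →* Equiv.Perm (Fin 4) :=
    Equiv.Perm.viaEmbeddingHom ((Finite.equivFin Ω).toEmbedding.trans (Fin.castLEEmb (by omega)))
  have hι : Function.Injective ι := Equiv.Perm.viaEmbeddingHom_injective _
  have hf : Function.Injective (MulAction.toPermHom G Ω) := fun a b e =>
    eq_of_smul_eq_smul fun x => Equiv.congr_fun e x
  let ψ : G →* alternatingGroup (Fin 4) := (ι.comp (MulAction.toPermHom G Ω)).codRestrict _ fun g =>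
    Equiv.Perm.mem_alternatingGroup.mpr
      (DFunLike.congr_fun (hom_trivial B (Equiv.Perm.sign.comp (ι.comp (MulAction.toPermHom G Ω)))) g)
  have hψ : Function.Injective ψ := fun a b e => hf (hι (congrArg Subtype.val e))
  haveI := CfsgLib.SmallPerm.isSolvable_perm_fin_four
  haveI : Group.IsSolvable G := Group.isSolvable_of_isSolvable_injective hψ
  exact B.nonab ⟨⟨fun a b => IsSimpleGroup.comm_iff_isSolvable.mpr inferInstance a b⟩⟩

omit [IsSimpleGroup G] [FaithfulSMul G Ω] in
theorem card_mul_stab (a : Ω) : Nat.card Ω * Nat.card (stabilizer G a) = Nat.card G := by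
  haveI := B.trans
  rw [← (stabilizer G a).card_mul_index, MulAction.index_stabilizer_of_transitive G a, mul_comm]

/-- Involutions act as even permutations. -/
theorem four_dvd_moved {g : G} (hg : orderOf g = 2) :
    4 ∣ Nat.card Ω - Nat.card (fixedBy Ω g) := by
  classical
  haveI : Fintype Ω := Fintype.ofFinite Ω
  set σ := MulAction.toPermHom G Ω g with hσ
  have hf : Function.Injective (MulAction.toPermHom G Ω) := fun a b e =>
    eq_of_smul_eq_smul fun x => Equiv.congr_fun e x
  have ho : orderOf σ = 2 := by rw [hσ, orderOf_injective _ hf, hg]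
  obtain ⟨j, hj⟩ := Equiv.Perm.cycleType_prime_order (ho ▸ Nat.prime_two)
  have hs : Equiv.Perm.sign σ = 1 :=
    DFunLike.congr_fun (hom_trivial B (Equiv.Perm.sign.comp (MulAction.toPermHom G Ω))) g
  rw [Equiv.Perm.sign_of_cycleType, hj, ho, Multiset.sum_replicate, Multiset.card_replicate,
    smul_eq_mul] at hs
  have hev : Even ((j + 1) * 2 + (j + 1)) := by
    rcases Nat.even_or_odd ((j + 1) * 2 + (j + 1)) with h | h
    · exact h
    · rw [h.neg_one_pow] at hs; exact absurd hs (by decide)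
  have hsum : σ.support.card = (j + 1) * 2 := by
    rw [← Equiv.Perm.sum_cycleType, hj, ho, Multiset.sum_replicate, smul_eq_mul]
  have hcompl : Nat.card (fixedBy Ω g) + σ.support.card = Nat.card Ω := by
    have e : fixedBy Ω g = ↑(σ.supportᶜ) := by
      ext x
      simp [hσ, mem_fixedBy]
    rw [e, Nat.card_coe_set_eq, Set.ncard_coe_finset, Finset.card_compl_add_card,
      Nat.card_eq_fintype_card]
  obtain ⟨q, hq⟩ := hev
  omega

omit [IsSimpleGroup G] [FaithfulSMul G Ω] in
/-- A nontrivial element of the pointwise stabiliser of four points fixes exactly these. -/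
theorem fixedBy_eq_four {F : Set Ω} (hF : Nat.card F = 4) {g : G} (hg : g ∈ ptStab F) (h1 : g ≠ 1) :
    fixedBy Ω g = F := by
  refine (Set.eq_of_subset_of_ncard_le (mem_ptStab_iff_subset.mp hg) ?_ (Set.toFinite _)).symm
  rw [← Nat.card_coe_set_eq, ← Nat.card_coe_set_eq, hF]
  exact B.le_four g h1

omit [IsSimpleGroup G] [FaithfulSMul G Ω] in
/-- An element whose fixed set has four points fixed by another element fixes exactly the same. -/
theorem fixedBy_eq_of_subset {g h : G} (hh : h ≠ 1) (h4 : Nat.card (fixedBy Ω g) = 4)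
    (hsub : fixedBy Ω g ⊆ fixedBy Ω h) : fixedBy Ω h = fixedBy Ω g :=
  fixedBy_eq_four B h4 (mem_ptStab_iff_subset.mpr hsub) hh

omit [IsSimpleGroup G] [FaithfulSMul G Ω] in
theorem ptStab_inf_ptStab {F F' : Set Ω} (hF : Nat.card F = 4) (hF' : Nat.card F' = 4)
    (hne : F ≠ F') : ptStab (G := G) F ⊓ ptStab F' = ⊥ := by
  rw [Subgroup.eq_bot_iff_forall]
  intro x hx
  by_contra h1
  exact hne ((fixedBy_eq_four B hF hx.1 h1).symm.trans (fixedBy_eq_four B hF' hx.2 h1))

/-- The setwise stabiliser of a small nonempty set is proper. -/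
theorem setStab_ne_top {F : Set Ω} (h0 : F.Nonempty) (h4 : Nat.card F ≤ 4) :
    setStab (G := G) F ≠ ⊤ := by
  intro h
  obtain ⟨a, ha⟩ := h0
  haveI := B.trans
  have hu : F = Set.univ := Set.eq_univ_of_forall fun x => by
    obtain ⟨g, rfl⟩ := exists_smul_eq G a x
    exact ((h ▸ Subgroup.mem_top g : g ∈ setStab F) a).mpr ha
  have := five_le B
  rw [hu, Nat.card_congr (Equiv.Set.univ Ω)] at h4
  omega

end Simple

end CfsgLib.FixityFour
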