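import Cfsg.Agent.Lib.FixityFour.Base
import Cfsg.Agent.Lib.Invol.Dihedral
import Cfsg.Prelude.Def_EvenType

/-!
Fixity four: the involutions with fixed points lie in the kernel of one four-point set.
-/

set_option autoImplicit false
set_option linter.style.haveILetI false
set_option linter.unusedSectionVars false

namespace CfsgLib.FixityFour

open MulAction CfsgLib.Invol

variable {G Ω : Type*} [Group G] [MulAction G Ω]

/-- An involution with fixed points. -/
def Fixer (Ω : Type*) [MulAction G Ω] (k : G) : Prop :=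
  orderOf k = 2 ∧ (fixedBy Ω k).Nonempty

/-- An involution without fixed points. -/
def Free (Ω : Type*) [MulAction G Ω] (c : G) : Prop :=
  orderOf c = 2 ∧ fixedBy Ω c = ∅

/-- A free involution preserving two of the four-point sets. -/
def Bad (Ω : Type*) [MulAction G Ω] (c : G) : Prop :=
  ∃ k k' : G, Fixer Ω k ∧ Fixer Ω k' ∧ fixedBy Ω k ≠ fixedBy Ω k' ∧
    c ∈ setStab (fixedBy Ω k) ∧ c ∈ setStab (fixedBy Ω k')

theorem fixer_or_free {c : G} (hc : orderOf c = 2) : Fixer Ω c ∨ Free Ω c := by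
  rcases (fixedBy Ω c).eq_empty_or_nonempty with h | h
  · exact Or.inr ⟨hc, h⟩
  · exact Or.inl ⟨hc, h⟩

theorem Free.not_fixer {c : G} (hc : Free Ω c) : ¬ Fixer Ω c := fun h => by
  have h1 := h.2
  rw [hc.2] at h1
  exact Set.not_nonempty_empty h1

theorem Fixer.conj {k : G} (hk : Fixer Ω k) (g : G) : Fixer Ω (g * k * g⁻¹) :=
  ⟨conj_orderOf_two hk.1 g, by rw [fixedBy_conj]; exact hk.2.image _⟩

theorem mem_setStab_image {F : Set Ω} {g c : G} :
    c ∈ setStab ((fun x => g • x) '' F) ↔ g⁻¹ * c * g ∈ setStab F := by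
  have hmem : ∀ x, x ∈ (fun y => g • y) '' F ↔ g⁻¹ • x ∈ F := fun x => by
    constructor
    · rintro ⟨y, hy, rfl⟩
      rwa [inv_smul_smul]
    · exact fun h => ⟨_, h, smul_inv_smul g x⟩
  simp only [mem_setStab, hmem]
  constructor
  · intro h x
    have h1 := h (g • x)
    rwa [inv_smul_smul, ← mul_smul, ← mul_smul] at h1
  · intro h x
    have h1 := h (g⁻¹ • x)
    rw [mul_smul, mul_smul, smul_inv_smul] at h1
    exact h1

theorem fixedBy_conj_eq_of_setStab {k h : G} (hh : h ∈ setStab (fixedBy Ω k)) :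
    fixedBy Ω (h * k * h⁻¹) = fixedBy Ω k := by
  rw [fixedBy_conj]
  ext x
  constructor
  · rintro ⟨y, hy, rfl⟩
    exact (hh y).2 hy
  · intro hx
    exact ⟨h⁻¹ • x, ((inv_mem hh) x).2 hx, smul_inv_smul h x⟩

/-- A permutation of odd order of four points commuting with a free involution is trivial. -/
theorem perm_four_commute : ∀ σ τ : Equiv.Perm (Fin 4), τ * τ = 1 → (∀ i, τ i ≠ i) →
    σ * τ = τ * σ → σ * σ * σ * σ = 1 := by
  decide +kernel

theorem mem_ptStab_of_commute {F : Set Ω} (hF : Nat.card F = 4) {x c : G}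
    (hxo : Odd (orderOf x)) (hx : x ∈ setStab F) (hc : c ∈ setStab F) (hc2 : c * c = 1)
    (hfree : ∀ a ∈ F, c • a ≠ a) (hcomm : Commute x c) : x ∈ ptStab F := by
  haveI : Finite F := Nat.finite_of_card_ne_zero (by omega)
  let e : F ≃ Fin 4 := Finite.equivFinOfCardEq hF
  let ρ : setStab (G := G) F →* Equiv.Perm F := MonoidHom.mk'
    (fun g =>
      { toFun := fun a => ⟨(g : G) • (a : Ω), (g.2 a).2 a.2⟩
        invFun := fun a => ⟨(g : G)⁻¹ • (a : Ω), ((inv_mem g.2) a).2 a.2⟩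
        left_inv := fun a => Subtype.ext (inv_smul_smul _ _)
        right_inv := fun a => Subtype.ext (smul_inv_smul _ _) })
    fun g g' => Equiv.ext fun a => Subtype.ext (mul_smul _ _ _)
  let f : setStab (G := G) F →* Equiv.Perm (Fin 4) := e.permCongrHom.toMonoidHom.comp ρ
  have h4 : f ⟨x, hx⟩ * f ⟨x, hx⟩ * f ⟨x, hx⟩ * f ⟨x, hx⟩ = 1 := by
    refine perm_four_commute _ (f ⟨c, hc⟩) ?_ ?_ ?_
    · rw [← map_mul, show (⟨c, hc⟩ : setStab (G := G) F) * ⟨c, hc⟩ = 1 from Subtype.ext hc2,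
        map_one]
    · intro i hi
      refine hfree _ (e.symm i).2 (congrArg Subtype.val (?_ : ρ ⟨c, hc⟩ (e.symm i) = e.symm i))
      apply e.injective
      rw [e.apply_symm_apply]
      exact hi
    · rw [← map_mul, ← map_mul]
      exact congrArg f (Subtype.ext hcomm.eq)
  have h1 : f ⟨x, hx⟩ = 1 := by
    refine orderOf_eq_one_iff.1 (Nat.eq_one_of_dvd_coprimes (k := orderOf (f ⟨x, hx⟩))
      (?_ : Nat.Coprime (orderOf x) 4) ?_ (orderOf_dvd_of_pow_eq_one ?_))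
    · rw [show (4 : ℕ) = 2 ^ 2 from rfl]
      exact (Nat.coprime_two_right.2 hxo).pow_right 2
    · exact (orderOf_map_dvd f _).trans (dvd_of_eq (by rw [← Subgroup.orderOf_coe]))
    · rw [← h4]; simp [pow_succ]
  have h2 : ρ ⟨x, hx⟩ = 1 := e.permCongrHom.map_eq_one_iff.1 h1
  intro a ha
  exact congrArg Subtype.val (Equiv.congr_fun h2 ⟨a, ha⟩)

section Main

variable [Finite G] [IsSimpleGroup G] [FaithfulSMul G Ω] [Finite Ω] (B : Fixity G Ω)
  {F : Set Ω} (hF : Nat.card F = 4) (S : Sylow 2 G) (hS : (S : Subgroup G) ≤ setStab F)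
  (hclosed : ∀ x ∈ S, orderOf x = 2 → (fixedBy Ω x).Nonempty → fixedBy Ω x = F)

include hclosed in
theorem exists_translate {k : G} (hk : Fixer Ω k) :
    ∃ g : G, fixedBy Ω k = (fun x => g • x) '' F := by
  obtain ⟨T, hT⟩ := (IsPGroup.of_card (p := 2) (n := 1)
    (by rw [Nat.card_zpowers, hk.1, pow_one] : Nat.card (Subgroup.zpowers k) = 2 ^ 1)).exists_le_sylow
  obtain ⟨g, hg⟩ := MulAction.exists_smul_eq G T S
  have hmem : g * k * g⁻¹ ∈ S := by
    rw [← hg]
    exact ⟨k, hT (Subgroup.mem_zpowers k), rfl⟩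
  refine ⟨g⁻¹, ?_⟩
  rw [← hclosed _ hmem (hk.conj g).1 (hk.conj g).2, ← fixedBy_conj]
  congr 1
  group

include hS hclosed in
theorem fixedBy_eq_of_fixer {k : G} (hk : Fixer Ω k) (hkH : k ∈ setStab F) : fixedBy Ω k = F := by
  set T := S.subtype hS with hT
  obtain ⟨R, hR⟩ := (IsPGroup.of_card (p := 2) (n := 1) (by
    rw [Nat.card_zpowers, ← Subgroup.orderOf_coe, hk.1, pow_one] :
      Nat.card (Subgroup.zpowers (⟨k, hkH⟩ : setStab (G := G) F)) = 2 ^ 1)).exists_le_sylow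
  obtain ⟨h, hh⟩ := MulAction.exists_smul_eq (setStab (G := G) F) R T
  have hmem : (h : G) * k * (h : G)⁻¹ ∈ S := by
    have h1 : h * ⟨k, hkH⟩ * h⁻¹ ∈ (T : Subgroup (setStab (G := G) F)) := by
      rw [← hh]
      exact ⟨_, hR (Subgroup.mem_zpowers _), rfl⟩
    exact h1
  have h2 := hclosed _ hmem (hk.conj _).1 (hk.conj _).2
  rw [fixedBy_conj] at h2
  ext x
  constructor
  · intro hx
    have h3 : (h : G) • x ∈ (fun x => (h : G) • x) '' fixedBy Ω k := ⟨x, hx, rfl⟩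
    rw [h2] at h3
    exact (h.2 x).1 h3
  · intro hx
    have h3 : (h : G) • x ∈ (fun x => (h : G) • x) '' fixedBy Ω k := h2.symm ▸ (h.2 x).2 hx
    obtain ⟨y, hy, hxy⟩ := h3
    rwa [← smul_left_cancel _ hxy]

include hS hclosed in
theorem unique_set {k k' : G} (hk : Fixer Ω k) (hk' : Fixer Ω k')
    (h : k' ∈ setStab (fixedBy Ω k)) : fixedBy Ω k' = fixedBy Ω k := by
  obtain ⟨g, hg⟩ := exists_translate S hclosed hk
  rw [hg, mem_setStab_image] at h
  have h1 := fixedBy_eq_of_fixer S hS hclosed (by simpa using hk'.conj g⁻¹) h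
  rw [hg, ← h1, ← fixedBy_conj]
  congr 1
  group

include hF hclosed in
theorem card_fixer {k : G} (hk : Fixer Ω k) : Nat.card (fixedBy Ω k) = 4 := by
  obtain ⟨g, hg⟩ := exists_translate S hclosed hk
  rw [hg, Nat.card_image_of_injective (MulAction.injective g), hF]

include B hF hclosed in
/-- An involution of a kernel has exactly that fixed set. -/
theorem fixer_of_ptStab {k c : G} (hk : Fixer Ω k) (hc : c ∈ ptStab (fixedBy Ω k))
    (hc2 : orderOf c = 2) : Fixer Ω c ∧ fixedBy Ω c = fixedBy Ω k := by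
  have h := fixedBy_eq_four B (card_fixer hF S hclosed hk) hc (ne_one_of_orderOf_two hc2)
  exact ⟨⟨hc2, h ▸ hk.2⟩, h⟩

include B hF hS hclosed in
/-- If `k c` is a fixer, a commuting involution `c` preserving the set of `k` is one too. -/
theorem fixer_of_mul {k c : G} (hk : Fixer Ω k) (hc : orderOf c = 2) (hkc : Commute k c)
    (hc' : c ∈ setStab (fixedBy Ω k)) (hf : Fixer Ω (k * c)) :
    Fixer Ω c ∧ fixedBy Ω c = fixedBy Ω k := by
  have h1 := unique_set S hS hclosed hk hf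
    (mul_mem (mem_setStab_fixedBy (Commute.refl k)) hc')
  refine fixer_of_ptStab B hF S hclosed hk (fun x hx => ?_) hc
  have h2 : (k * c) • x = x := (h1.symm ▸ hx : x ∈ fixedBy Ω (k * c))
  rw [mul_smul, smul_eq_iff_eq_inv_smul] at h2
  rw [h2, inv_smul_eq_iff]
  exact ((hx : k • x = x)).symm

include B hF hS hclosed in
/-- Fixers of different sets have a product of odd order. -/
theorem odd_orderOf {k k' : G} (hk : Fixer Ω k) (hk' : Fixer Ω k')
    (hne : fixedBy Ω k ≠ fixedBy Ω k') : Odd (orderOf (k * k')) := by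
  by_contra hev
  rw [Nat.not_odd_iff_even] at hev
  set c := centralInvol k k' with hc
  have hc2 : orderOf c = 2 := orderOf_centralInvol k k' hev
  have hck : Commute c k := centralInvol_comm_left hk.1 hk'.1 hev
  have hck' : Commute c k' := centralInvol_comm_right hk.1 hk'.1 hev
  have hkc : Fixer Ω (k * c) := by
    rcases left_mul_centralInvol_isConj hk.1 hk'.1 hev with h | h
    · obtain ⟨g, hg⟩ := isConj_iff.1 h
      exact hg ▸ hk.conj g
    · obtain ⟨g, hg⟩ := isConj_iff.1 h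
      exact hg ▸ hk'.conj g
  obtain ⟨hcf, e⟩ := fixer_of_mul B hF S hS hclosed hk hc2 hck.symm (mem_setStab_fixedBy hck) hkc
  exact hne (e.symm.trans (unique_set S hS hclosed hk' hcf (mem_setStab_fixedBy hck')))

theorem exists_fixer_commute_aux (K : Subgroup G) (h2 : 2 ∣ Nat.card K) {c : G} (hc : c * c = 1)
    (hn : ∀ x ∈ K, c * x * c⁻¹ ∈ K) : ∃ k ∈ K, orderOf k = 2 ∧ Commute k c := by
  classical
  haveI : Fintype K := Fintype.ofFinite K
  haveI : Fact (Nat.Prime 2) := ⟨Nat.prime_two⟩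
  let σ : Equiv.Perm K := Function.Involutive.toPerm (fun x => ⟨c * x * c⁻¹, hn x x.2⟩) fun x => by
    refine Subtype.ext ?_
    show c * (c * x * c⁻¹) * c⁻¹ = x
    calc c * (c * (x : G) * c⁻¹) * c⁻¹ = (c * c) * x * (c * c)⁻¹ := by group
      _ = x := by rw [hc]; group
  have hσ : σ ^ 2 ^ 1 = 1 := by
    refine Equiv.ext fun x => ?_
    rw [pow_one, pow_two, Equiv.Perm.mul_apply]
    exact σ.symm_apply_apply x
  have hmod := Equiv.Perm.card_compl_support_modEq (p := 2) (n := 1) hσ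
  let C : Subgroup K := (Subgroup.centralizer ({c} : Set G)).subgroupOf K
  have hC : Nat.card C = σ.supportᶜ.card := by
    rw [← Fintype.card_coe, Nat.card_eq_fintype_card]
    refine Fintype.card_congr (Equiv.subtypeEquivRight fun x => ?_)
    simp only [C, Subgroup.mem_subgroupOf, Subgroup.mem_centralizer_singleton_iff, Finset.mem_compl,
      Equiv.Perm.mem_support, not_not]
    show (x : G) * c = c * (x : G) ↔ σ x = x
    rw [Subtype.ext_iff]
    show _ ↔ c * (x : G) * c⁻¹ = x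
    rw [mul_inv_eq_iff_eq_mul, eq_comm]
  have h2C : 2 ∣ Nat.card C := by
    rw [hC]
    rw [← Nat.card_eq_fintype_card] at hmod
    exact Nat.modEq_zero_iff_dvd.1 (hmod.trans (Nat.modEq_zero_iff_dvd.2 h2))
  obtain ⟨k, hk⟩ := exists_prime_orderOf_dvd_card' 2 h2C
  refine ⟨k.1.1, k.1.2, by rw [Subgroup.orderOf_coe, Subgroup.orderOf_coe, hk], ?_⟩
  exact Subgroup.mem_centralizer_singleton_iff.1 k.2

include B hF hS hclosed in
/-- Fixers of one kernel centralised by a bad involution are equal. -/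
theorem eq_of_bad {c k₀ k₁ k₂ : G} (hc : Free Ω c) (h₀ : Fixer Ω k₀) (h₁ : Fixer Ω k₁)
    (hc₀ : Commute k₀ c) (hc₁ : Commute k₁ c) (h01 : fixedBy Ω k₀ = fixedBy Ω k₁)
    (h₂ : Fixer Ω k₂) (hne : fixedBy Ω k₀ ≠ fixedBy Ω k₂) (hc₂ : c ∈ setStab (fixedBy Ω k₂)) :
    k₀ = k₁ := by
  set F₀ := fixedBy Ω k₀ with hF₀
  set F₂ := fixedBy Ω k₂ with hF₂
  have hcc : c * c = 1 := mul_self_of_orderOf_two hc.1
  have hk2pt : k₂ ∈ ptStab F₂ := fun x hx => hx
  obtain ⟨k', hk'pt, hk'2, hk'c⟩ := exists_fixer_commute_aux (ptStab (G := G) F₂) (by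
    rw [← h₂.1, ← Subgroup.orderOf_mk k₂ hk2pt]
    exact orderOf_dvd_natCard _) hcc fun x hx => conj_mem_ptStab hc₂ hx
  obtain ⟨hk'f, hk'F⟩ := fixer_of_ptStab B hF S hclosed h₂ hk'pt hk'2
  have hswap : ∀ k : G, Fixer Ω k → fixedBy Ω k = F₀ → Commute k c →
      ∃ u, Fixer Ω u ∧ u * k * u⁻¹ = k' ∧ Commute u c := by
    intro k hk hkF hkc
    have hodd := odd_orderOf B hF S hS hclosed hk hk'f (by rw [hkF, hk'F]; exact hne)
    obtain ⟨j, hj⟩ := exists_zpow_conj_of_odd hk.1 hk'f.1 hodd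
    obtain ⟨i, hi⟩ : ∃ i : ℤ, (orderOf (k * k') : ℤ) ∣ (-(2 * i)) - (-j) := by
      obtain ⟨m, hm⟩ := hodd
      exact ⟨-((m : ℤ) * j), j, by rw [hm]; push_cast; ring⟩
    refine ⟨(k * k') ^ j * k, ?_, ?_, ?_⟩
    · have e : (k * k') ^ i * k * ((k * k') ^ i)⁻¹ = (k * k') ^ j * k := by
        rw [conj_left hk.1 hk'f.1, zpow_mul_left hk.1 hk'f.1]
        congr 1
        rw [← sub_add_cancel (-(2 * i)) (-j), zpow_add, orderOf_dvd_iff_zpow_eq_one.1 hi, one_mul]
      exact e ▸ hk.conj _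
    · calc (k * k') ^ j * k * k * ((k * k') ^ j * k)⁻¹
          = (k * k') ^ j * (k * k) * k⁻¹ * ((k * k') ^ j)⁻¹ := by group
        _ = k' := by
          rw [mul_self_of_orderOf_two hk.1, mul_one, inv_of_orderOf_two hk.1, hj]
    · exact (((hkc.mul_left hk'c).zpow_left j).mul_left hkc)
  obtain ⟨u₀, hu₀, hu₀k, hu₀c⟩ := hswap k₀ h₀ rfl hc₀
  obtain ⟨u₁, hu₁, hu₁k, hu₁c⟩ := hswap k₁ h₁ h01.symm hc₁
  set x := u₁ * u₀ with hx
  have hswap' : ∀ u k : G, Fixer Ω u → fixedBy Ω k = F₀ → u * k * u⁻¹ = k' →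
      (∀ a, u • a ∈ F₂ ↔ a ∈ F₀) ∧ ∀ a, u • a ∈ F₀ ↔ a ∈ F₂ := by
    intro u k hu hkF huk
    have hm : ∀ a, u • a ∈ F₂ ↔ a ∈ F₀ := fun a => by
      rw [hF₂, ← hk'F, ← huk, fixedBy_conj, hkF]
      exact ⟨fun ⟨b, hb, e⟩ => smul_left_cancel _ e ▸ hb, fun h => ⟨a, h, rfl⟩⟩
    refine ⟨hm, fun a => ?_⟩
    rw [← hm (u • a), ← mul_smul, mul_self_of_orderOf_two hu.1, one_smul]
  obtain ⟨ha0, hb0⟩ := hswap' u₀ k₀ hu₀ rfl hu₀k
  obtain ⟨ha1, hb1⟩ := hswap' u₁ k₁ hu₁ h01.symm hu₁k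
  have hxF0 : x ∈ setStab F₀ := fun a => by rw [hx, mul_smul, hb1, ha0]
  have hxF2 : x ∈ setStab F₂ := fun a => by rw [hx, mul_smul, ha1, hb0]
  have hxc : Commute x c := hu₁c.mul_left hu₀c
  have hxodd : Odd (orderOf x) := by
    by_cases h : fixedBy Ω u₁ = fixedBy Ω u₀
    · by_contra hev
      rw [Nat.not_odd_iff_even] at hev
      have hi2 : orderOf (centralInvol u₁ u₀) = 2 := orderOf_centralInvol u₁ u₀ hev
      have hipt : centralInvol u₁ u₀ ∈ ptStab (fixedBy Ω u₁) :=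
        Subgroup.pow_mem _ (Subgroup.mul_mem _
          (show u₁ ∈ ptStab (fixedBy Ω u₁) from fun a ha => ha)
          (show u₀ ∈ ptStab (fixedBy Ω u₁) by rw [h]; exact fun a ha => ha)) _
      obtain ⟨hif, hiF⟩ := fixer_of_ptStab B hF S hclosed hu₁ hipt hi2
      have hiH : centralInvol u₁ u₀ ∈ setStab F₀ := pow_mem hxF0 _
      have e : fixedBy Ω u₁ = F₀ := hiF.symm.trans (unique_set S hS hclosed h₀ hif hiH)
      refine hne (Set.ext fun a => ?_)
      have h3 : u₁ ∈ setStab F₀ := e ▸ mem_setStab_fixedBy (Commute.refl u₁)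
      rw [← h3 a]
      exact hb1 a
    · exact odd_orderOf B hF S hS hclosed hu₁ hu₀ h
  have hfree : ∀ a, c • a ≠ a := fun a ha => by
    have h : a ∈ fixedBy Ω c := ha
    rwa [hc.2] at h
  have hcF0 : c ∈ setStab F₀ := mem_setStab_fixedBy hc₀.symm
  have hx1 : x ∈ ptStab F₀ ⊓ ptStab F₂ :=
    ⟨mem_ptStab_of_commute (card_fixer hF S hclosed h₀) hxodd hxF0 hcF0 hcc
      (fun a _ => hfree a) hxc,
    mem_ptStab_of_commute (card_fixer hF S hclosed h₂) hxodd hxF2 hc₂ hcc (fun a _ => hfree a) hxc⟩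
  rw [ptStab_inf_ptStab B (card_fixer hF S hclosed h₀) (card_fixer hF S hclosed h₂) hne,
    Subgroup.mem_bot, hx] at hx1
  have hu : u₁ = u₀ := by
    rw [← inv_of_orderOf_two hu₀.1]
    exact eq_inv_of_mul_eq_one_left hx1
  subst hu
  exact mul_left_cancel (mul_right_cancel (hu₀k.trans hu₁k.symm))

include B hF hS hclosed in
/-- A good involution has an associated fixer `z₀` with `z₀ b` bad. -/
theorem exists_assoc {b e : G} (hb : Free Ω b) (hbH : b ∈ setStab F) (hgood : ¬ Bad Ω b)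
    (he : Fixer Ω e) (heF : fixedBy Ω e = F) :
    ∃ z₀ : G, Fixer Ω z₀ ∧ fixedBy Ω z₀ = F ∧ Commute z₀ b ∧ Free Ω (z₀ * b) ∧
      ∃ k : G, Fixer Ω k ∧ F ≠ fixedBy Ω k ∧ z₀ * b ∈ setStab (fixedBy Ω k) := by
  have huniq : ∀ k : G, Fixer Ω k → b ∈ setStab (fixedBy Ω k) → fixedBy Ω k = F := fun k hk hbk =>
    by_contra fun hne => hgood ⟨k, e, hk, he, heF.symm ▸ hne, hbk, heF.symm ▸ hbH⟩
  obtain ⟨g, hg⟩ : ∃ g, g * b * g⁻¹ ∉ setStab F := by
    by_contra hall
    push Not at hall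
    have hle : Subgroup.normalClosure ({b} : Set G) ≤ setStab F := by
      refine (Subgroup.closure_le _).2 fun y hy => ?_
      obtain ⟨a, ha, hay⟩ := Group.mem_conjugatesOfSet_iff.1 hy
      rw [Set.mem_singleton_iff] at ha
      subst ha
      obtain ⟨c, rfl⟩ := isConj_iff.1 hay
      exact hall c
    rcases (Subgroup.normalClosure_normal (s := ({b} : Set G))).eq_bot_or_eq_top with h | h
    · exact ne_one_of_orderOf_two hb.1 (Subgroup.mem_bot.1
        (h ▸ Subgroup.subset_normalClosure (Set.mem_singleton b)))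
    · exact setStab_ne_top B (heF ▸ he.2) hF.le (top_le_iff.1 (h ▸ hle))
  set b' := g * b * g⁻¹ with hb'
  set k := g * e * g⁻¹ with hk
  have hkf : Fixer Ω k := he.conj g
  have hb'k : b' ∈ setStab (fixedBy Ω k) := by
    rw [hk, fixedBy_conj, heF, mem_setStab_image, hb']
    simpa [mul_assoc] using hbH
  have hkF : fixedBy Ω k ≠ F := fun h => hg (h ▸ hb'k)
  have hb'2 : orderOf b' = 2 := conj_orderOf_two hb.1 g
  have hb'free : ¬ Fixer Ω b' := fun h => hb.not_fixer (by simpa [hb', mul_assoc] using h.conj g⁻¹)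
  have hev : Even (orderOf (e * b')) := by
    rw [← Nat.not_odd_iff_even]
    intro hodd
    obtain ⟨i, hi⟩ := exists_zpow_conj_of_odd he.1 hb'2 hodd
    exact hb'free (hi ▸ he.conj _)
  set c := centralInvol e b' with hc
  have hc2 : orderOf c = 2 := orderOf_centralInvol e b' hev
  have hce : Commute c e := centralInvol_comm_left he.1 hb'2 hev
  have hcb : Commute c b' := centralInvol_comm_right he.1 hb'2 hev
  have hcH : c ∈ setStab F := heF ▸ mem_setStab_fixedBy hce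
  -- `c` preserves the set of `b'`
  have hck : c ∈ setStab (fixedBy Ω k) := by
    have h1 : b' ∈ setStab (fixedBy Ω (c * k * c⁻¹)) := by
      rw [fixedBy_conj, mem_setStab_image]
      have e1 : c⁻¹ * b' * c = b' := by rw [mul_assoc, hcb.symm.eq, inv_mul_cancel_left]
      rwa [e1]
    rw [hb', show c * k * c⁻¹ = g * ((g⁻¹ * c * g) * e * (g⁻¹ * c * g)⁻¹) * g⁻¹ by
      rw [hk]; group, fixedBy_conj, mem_setStab_image] at h1
    have h2 := huniq _ (he.conj (g⁻¹ * c * g)) (by simpa [mul_assoc] using h1)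
    rw [hk, fixedBy_conj, heF, mem_setStab_image]
    rw [fixedBy_conj, heF] at h2
    intro a
    constructor
    · intro ha
      rw [← h2] at ha
      obtain ⟨y, hy, hy'⟩ := ha
      rwa [← smul_left_cancel _ hy']
    · intro ha
      have h3 : (g⁻¹ * c * g) • a ∈ (fun x => (g⁻¹ * c * g) • x) '' F := ⟨a, ha, rfl⟩
      rwa [h2] at h3
  have hcfree : Free Ω c := by
    rcases fixer_or_free (Ω := Ω) hc2 with h | h
    · exact absurd ((unique_set S hS hclosed hkf h hck).symm.trans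
        ((unique_set S hS hclosed he h (heF.symm ▸ hcH)).trans heF)) hkF
    · exact h
  have hconj : ∃ a, a * b * a⁻¹ = e * c := by
    rcases left_mul_centralInvol_isConj he.1 hb'2 hev with h | h
    · obtain ⟨a, ha⟩ := isConj_iff.1 h
      exact absurd (fixer_of_mul B hF S hS hclosed he hc2 hce.symm (heF.symm ▸ hcH)
        (ha ▸ he.conj a)).1 hcfree.not_fixer
    · obtain ⟨a, ha⟩ := isConj_iff.1 h
      exact ⟨a * g, by rw [← ha, hb']; group⟩
  obtain ⟨a, ha⟩ := hconj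
  have hba : b = a⁻¹ * (e * c) * a := by rw [← ha]; group
  set z₀ := a⁻¹ * e * a with hz₀
  have hz₀f : Fixer Ω z₀ := by simpa [hz₀] using he.conj a⁻¹
  have hz₀F : fixedBy Ω z₀ = F := by
    refine huniq z₀ hz₀f ?_
    rw [show z₀ = a⁻¹ * e * a⁻¹⁻¹ by rw [hz₀, inv_inv], fixedBy_conj, heF, mem_setStab_image,
      inv_inv, show a * b * a⁻¹ = e * c from ha]
    exact mul_mem (heF ▸ mem_setStab_fixedBy (Commute.refl e)) hcH
  have hee : e * e = 1 := mul_self_of_orderOf_two he.1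
  have hzb : z₀ * b = a⁻¹ * c * a := by
    rw [hz₀, hba]
    calc a⁻¹ * e * a * (a⁻¹ * (e * c) * a) = a⁻¹ * (e * e) * c * a := by group
      _ = a⁻¹ * c * a := by rw [hee, mul_one]
  have hfree0 : Free Ω (z₀ * b) := by
    have h : orderOf (z₀ * b) = 2 := by
      rw [hzb]; simpa using conj_orderOf_two hc2 a⁻¹
    rcases fixer_or_free (Ω := Ω) h with h1 | h1
    · exact absurd (by simpa [hzb, mul_assoc] using h1.conj a) hcfree.not_fixer
    · exact h1
  refine ⟨z₀, hz₀f, hz₀F, ?_, hfree0, ?_⟩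
  · rw [hz₀, hba]
    show a⁻¹ * e * a * (a⁻¹ * (e * c) * a) = a⁻¹ * (e * c) * a * (a⁻¹ * e * a)
    calc a⁻¹ * e * a * (a⁻¹ * (e * c) * a) = a⁻¹ * e * (e * c) * a := by group
      _ = a⁻¹ * e * (c * e) * a := by rw [hce.eq]
      _ = a⁻¹ * (e * c) * a * (a⁻¹ * e * a) := by group
  · -- the translate of the set of `b'`
    refine ⟨a⁻¹ * k * a, by simpa using hkf.conj a⁻¹, fun h => hkF ?_, ?_⟩
    · have h1 : fixedBy Ω (a⁻¹ * k * a) = fixedBy Ω z₀ := h.symm.trans hz₀F.symm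
      rw [hz₀, show a⁻¹ * k * a = a⁻¹ * k * a⁻¹⁻¹ by rw [inv_inv],
        show a⁻¹ * e * a = a⁻¹ * e * a⁻¹⁻¹ by rw [inv_inv], fixedBy_conj a⁻¹ k,
        fixedBy_conj a⁻¹ e] at h1
      exact (Set.image_injective.2 (MulAction.injective a⁻¹) h1).trans heF
    · rw [hzb, show a⁻¹ * k * a = a⁻¹ * k * a⁻¹⁻¹ by rw [inv_inv], fixedBy_conj, mem_setStab_image,
        inv_inv, show a * (a⁻¹ * c * a) * a⁻¹ = c by group]
      exact hck

include B hF hS hclosed in
/-- A free involution of the set stabiliser centralises no two commuting involutions of the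
kernel. -/
theorem eq_of_free {s e w₁ w₂ : G} (he : Fixer Ω e) (heF : fixedBy Ω e = F) (hs : Free Ω s)
    (hsH : s ∈ setStab F) (h₁ : w₁ ∈ ptStab F) (h₂ : w₂ ∈ ptStab F) (ho₁ : orderOf w₁ = 2)
    (ho₂ : orderOf w₂ = 2) (hs₁ : Commute w₁ s) (hs₂ : Commute w₂ s) (h12 : Commute w₁ w₂) :
    w₁ = w₂ := by
  have hfix : ∀ w, w ∈ ptStab F → orderOf w = 2 → Fixer Ω w ∧ fixedBy Ω w = F := fun w hw hw2 => by
    rw [← heF] at hw ⊢
    exact fixer_of_ptStab B hF S hclosed he hw hw2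
  obtain ⟨hf₁, hF₁⟩ := hfix w₁ h₁ ho₁
  obtain ⟨hf₂, hF₂⟩ := hfix w₂ h₂ ho₂
  by_cases hbad : Bad Ω s
  · obtain ⟨k, k', hk, hk', hne, hsk, hsk'⟩ := hbad
    by_cases hkF : fixedBy Ω k = F
    · exact eq_of_bad B hF S hS hclosed hs hf₁ hf₂ hs₁ hs₂ (hF₁.trans hF₂.symm) hk'
        (by rw [hF₁, ← hkF]; exact hne) hsk'
    · exact eq_of_bad B hF S hS hclosed hs hf₁ hf₂ hs₁ hs₂ (hF₁.trans hF₂.symm) hk
        (by rw [hF₁]; exact Ne.symm hkF) hsk
  obtain ⟨z₀, hz₀, hz₀F, hz₀s, hfree0, k, hk, hkne, hck⟩ :=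
    exists_assoc B hF S hS hclosed hs hsH hbad he heF
  haveI : Fact (Nat.Prime 2) := ⟨Nat.prime_two⟩
  set C : Subgroup G := Subgroup.centralizer ({s} : Set G) ⊓ ptStab F with hC
  -- every involution of `C` commuting with `z₀` is `z₀`
  have hkey : ∀ w ∈ C, orderOf w = 2 → Commute w z₀ → w = z₀ := by
    rintro w ⟨hws, hwK⟩ hw2 hwz
    obtain ⟨hwf, hwF⟩ := hfix w hwK hw2
    exact eq_of_bad B hF S hS hclosed hfree0 hwf hz₀
      (hwz.mul_right (Subgroup.mem_centralizer_singleton_iff.1 hws))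
      ((Commute.refl z₀).mul_right hz₀s) (hwF.trans hz₀F.symm) hk (by rw [hwF]; exact hkne) hck
  have hz₀C : z₀ ∈ C :=
    ⟨Subgroup.mem_centralizer_singleton_iff.2 hz₀s.eq, hz₀F ▸ fun a ha => ha⟩
  obtain ⟨T, hT⟩ := (IsPGroup.of_card (p := 2) (n := 1) (by
    rw [Nat.card_zpowers, ← Subgroup.orderOf_coe, hz₀.1, pow_one] :
      Nat.card (Subgroup.zpowers (⟨z₀, hz₀C⟩ : C)) = 2 ^ 1)).exists_le_sylow
  have hzT : (⟨z₀, hz₀C⟩ : C) ∈ (T : Subgroup C) := hT (Subgroup.mem_zpowers _)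
  haveI : Nontrivial (T : Subgroup C) :=
    ⟨⟨⟨_, hzT⟩, 1, fun h => ne_one_of_orderOf_two hz₀.1 (congrArg (fun t : (T : Subgroup C) =>
      ((t : C) : G)) h)⟩⟩
  haveI := T.isPGroup'.center_nontrivial
  obtain ⟨v, hv⟩ := exists_prime_orderOf_dvd_card' (G := Subgroup.center (T : Subgroup C)) 2
    (((T.isPGroup'.to_subgroup _).card_eq_or_dvd).resolve_left (Finite.one_lt_card).ne')
  have hvC : ∀ t ∈ (T : Subgroup C), Commute (t : G) ((v.1 : C) : G) := fun t ht =>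
    congrArg (fun t : (T : Subgroup C) => ((t : C) : G))
      (Subgroup.mem_center_iff.1 v.2 ⟨t, ht⟩)
  have hvz : ((v.1 : C) : G) = z₀ := hkey _ (v.1 : C).2
    (by rw [Subgroup.orderOf_coe, Subgroup.orderOf_coe, Subgroup.orderOf_coe, hv]) (hvC _ hzT).symm
  have hT1 : ∀ t ∈ (T : Subgroup C), orderOf t = 2 → (t : G) = z₀ := fun t ht ht2 =>
    hkey _ t.2 (by rw [Subgroup.orderOf_coe, ht2]) (hvz ▸ hvC t ht)
  have hw₁C : w₁ ∈ C := ⟨Subgroup.mem_centralizer_singleton_iff.2 hs₁.eq, h₁⟩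
  have hw₂C : w₂ ∈ C := ⟨Subgroup.mem_centralizer_singleton_iff.2 hs₂.eq, h₂⟩
  set W : Subgroup C := Subgroup.closure {⟨w₁, hw₁C⟩, ⟨w₂, hw₂C⟩} with hW
  haveI hWc : IsMulCommutative W := Subgroup.isMulCommutative_closure (by
    rintro a (rfl | rfl) b (rfl | rfl)
    exacts [rfl, Subtype.ext h12.eq, Subtype.ext h12.symm.eq, rfl])
  have hW2 : IsPGroup 2 W := by
    intro x
    refine ⟨1, Subtype.ext ?_⟩
    rw [pow_one, Subgroup.coe_pow, Subgroup.coe_one]
    obtain ⟨x, hx⟩ := x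
    show x ^ 2 = 1
    induction hx using Subgroup.closure_induction with
    | mem a ha =>
      rcases ha with rfl | rfl <;> exact Subtype.ext (by
        rw [Subgroup.coe_pow, pow_two, mul_self_of_orderOf_two ‹_›]; rfl)
    | one => exact one_pow 2
    | mul a b ha hb iha ihb =>
      rw [(show Commute a b from congrArg Subtype.val
        (mul_comm' (⟨a, ha⟩ : W) ⟨b, hb⟩)).mul_pow, iha, ihb, one_mul]
    | inv a _ ih => rw [inv_pow, ih, inv_one]
  obtain ⟨R, hR⟩ := hW2.exists_le_sylow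
  obtain ⟨h, hh⟩ := MulAction.exists_smul_eq C R T
  have hto : ∀ (w : G) (hwC : w ∈ C), orderOf w = 2 → (⟨w, hwC⟩ : C) ∈ (R : Subgroup C) →
      (h : G) * w * (h : G)⁻¹ = z₀ := by
    intro w hwC hw2 hwR
    refine hT1 (h * ⟨w, hwC⟩ * h⁻¹) (hh ▸ ⟨_, hwR, rfl⟩) ?_
    rw [← Subgroup.orderOf_coe]
    exact conj_orderOf_two hw2 _
  exact mul_left_cancel (mul_right_cancel
    ((hto w₁ hw₁C ho₁ (hR (Subgroup.subset_closure (Or.inl rfl)))).trans
      (hto w₂ hw₂C ho₂ (hR (Subgroup.subset_closure (Or.inr rfl)))).symm))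

include B hF hS hclosed in
/-- Either the set stabiliser is strongly embedded, or the Sylow subgroup has a free involution. -/
theorem stronglyEmbedded_or_free {e : G} (he : Fixer Ω e) (heF : fixedBy Ω e = F) :
    Cfsg.IsStronglyEmbedded (setStab (G := G) F) ∨ ∃ s ∈ S, Free Ω s := by
  haveI : Fact (Nat.Prime 2) := ⟨Nat.prime_two⟩
  by_cases hse : ∀ g : G, g ∉ setStab (G := G) F →
      Odd (Nat.card ↥(setStab (G := G) F ⊓ (setStab F).map (MulAut.conj g).toMonoidHom))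
  · refine Or.inl ⟨setStab_ne_top B (heF ▸ he.2) hF.le, ?_, hse⟩
    have heH : e ∈ setStab F := heF ▸ mem_setStab_fixedBy (Commute.refl e)
    exact even_iff_two_dvd.2 (he.1 ▸ Subgroup.orderOf_mk e heH ▸ orderOf_dvd_natCard _)
  refine Or.inr ?_
  push Not at hse
  obtain ⟨g, hg, hev⟩ := hse
  rw [Nat.not_odd_iff_even, even_iff_two_dvd] at hev
  obtain ⟨i, hi⟩ := exists_prime_orderOf_dvd_card' 2 hev
  rw [← Subgroup.orderOf_coe] at hi
  obtain ⟨hiH, j, hj, hji⟩ := i.2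
  have hifree : Free Ω (i : G) := by
    rcases fixer_or_free (Ω := Ω) hi with h | h
    · have h1 := fixedBy_eq_of_fixer S hS hclosed h hiH
      change g * j * g⁻¹ = i at hji
      have hjf : Fixer Ω j := by
        have := h.conj g⁻¹
        rw [← hji] at this
        simpa [mul_assoc] using this
      have h2 := fixedBy_eq_of_fixer S hS hclosed hjf hj
      rw [← hji, fixedBy_conj, h2] at h1
      refine absurd (fun a => ?_) hg
      constructor
      · intro ha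
        rw [← h1] at ha
        obtain ⟨y, hy, e'⟩ := ha
        rwa [← smul_left_cancel _ e']
      · intro ha
        have h3 : g • a ∈ (fun x => g • x) '' F := ⟨a, ha, rfl⟩
        rwa [h1] at h3
    · exact h
  obtain ⟨R, hR⟩ := (IsPGroup.of_card (p := 2) (n := 1) (by
    rw [Nat.card_zpowers, ← Subgroup.orderOf_coe, hi, pow_one] :
      Nat.card (Subgroup.zpowers (⟨i, hiH⟩ : setStab (G := G) F)) = 2 ^ 1)).exists_le_sylow
  obtain ⟨h, hh⟩ := MulAction.exists_smul_eq (setStab (G := G) F) R (S.subtype hS)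
  have h1 : h * ⟨i, hiH⟩ * h⁻¹ ∈ ((S.subtype hS : Sylow 2 _) : Subgroup _) :=
    hh ▸ ⟨_, hR (Subgroup.mem_zpowers _), rfl⟩
  refine ⟨(h : G) * i * (h : G)⁻¹, h1, conj_orderOf_two hi _, ?_⟩
  rw [fixedBy_conj, hifree.2, Set.image_empty]

include B hF hS hclosed in
/-- The kernel has at most one involution unless a subgroup is strongly embedded. -/
theorem closed_kernel_aux {E : Subgroup G} (hES : E ≤ S) (hEn : (S : Subgroup G) ≤ Subgroup.normalizer (E : Set G))
    (hE8 : Nat.card E = 8) (hE2 : ∀ x ∈ E, x ^ 2 = 1) {e : G} (he : e ∈ E) (he1 : e ≠ 1)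
    (heF : fixedBy Ω e = F) :
    (∃ H : Subgroup G, Cfsg.IsStronglyEmbedded H) ∨
      ∀ x y : G, x ∈ (S : Subgroup G) ⊓ ptStab F → y ∈ (S : Subgroup G) ⊓ ptStab F →
        orderOf x = 2 → orderOf y = 2 → x = y := by
  classical
  have hFne : F.Nonempty := Set.nonempty_of_ncard_ne_zero (by
    rw [← Nat.card_coe_set_eq, hF]; omega)
  have h2of : ∀ x ∈ E, x ≠ 1 → orderOf x = 2 := fun x hx hx1 => orderOf_eq_prime (hE2 x hx) hx1
  have he' : Fixer Ω e := ⟨h2of e he he1, heF ▸ hFne⟩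
  rcases stronglyEmbedded_or_free B hF S hS hclosed he' heF with h | ⟨s, hsS, hs⟩
  · exact Or.inl ⟨_, h⟩
  refine Or.inr ?_
  set K : Subgroup G := (S : Subgroup G) ⊓ ptStab F with hK
  have hEcomm : ∀ a ∈ E, ∀ b ∈ E, Commute a b := fun a ha b hb => by
    have h1 := hE2 _ (mul_mem ha hb)
    rw [pow_two] at h1
    have h2 : a * a = 1 := by rw [← pow_two]; exact hE2 a ha
    have h3 : b * b = 1 := by rw [← pow_two]; exact hE2 b hb
    show a * b = b * a
    rw [← inv_eq_of_mul_eq_one_right h1, mul_inv_rev, inv_eq_of_mul_eq_one_right h2,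
      inv_eq_of_mul_eq_one_right h3]
  have hout : ∀ w ∈ E, w ∉ K → Free Ω w := fun w hw hwK => by
    have hw1 : w ≠ 1 := fun h => hwK (h ▸ one_mem K)
    rcases fixer_or_free (Ω := Ω) (h2of w hw hw1) with h | h
    · refine absurd ⟨hES hw, ?_⟩ hwK
      rw [← hclosed w (hES hw) h.1 h.2]
      exact fun a ha => ha
    · exact h
  have heK : e ∈ K := ⟨hES he, heF ▸ fun a ha => ha⟩
  have htwo : ∀ s ∈ S, Free Ω s → ∀ a ∈ E ⊓ K, a ≠ 1 → ∀ b ∈ E ⊓ K, b ≠ 1 → Commute a s →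
      Commute b s → a = b := fun t htS ht a ha ha1 b hb hb1 hat hbt =>
    eq_of_free B hF S hS hclosed he' heF ht (hS htS) ha.2.2 hb.2.2 (h2of a ha.1 ha1)
      (h2of b hb.1 hb1) hat hbt (hEcomm a ha.1 b hb.1)
  -- `E` is not contained in the kernel
  obtain ⟨w₁, hw₁, hw₁K⟩ : ∃ w ∈ E, w ∉ K := by
    by_contra hall
    push Not at hall
    have hss : s * s = 1 := mul_self_of_orderOf_two hs.1
    have hsn : ∀ a ∈ E, s * a * s⁻¹ ∈ E := fun a ha =>
      (Subgroup.mem_normalizer_iff.1 (hEn hsS) a).1 ha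
    let φ : E →* E := MonoidHom.mk' (fun a => ⟨(a : G) * (s * a * s⁻¹), mul_mem a.2 (hsn a a.2)⟩)
      fun a b => Subtype.ext (by
        show (a : G) * b * (s * ((a : G) * b) * s⁻¹) = _
        rw [show s * ((a : G) * b) * s⁻¹ = (s * a * s⁻¹) * (s * b * s⁻¹) by group]
        exact (hEcomm b b.2 _ (hsn a a.2)).mul_mul_mul_comm _ _)
    have hrange : ∀ y ∈ φ.range, Commute (y : G) s := by
      rintro _ ⟨a, rfl⟩
      refine (mul_inv_eq_iff_eq_mul.1 (?_ : s * ((a : G) * (s * a * s⁻¹)) * s⁻¹ = _)).symm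
      calc s * ((a : G) * (s * a * s⁻¹)) * s⁻¹ = (s * a * s⁻¹) * ((s * s) * a * (s * s)⁻¹) := by
            group
        _ = (s * a * s⁻¹) * a := by rw [hss]; group
        _ = (a : G) * (s * a * s⁻¹) := (hEcomm _ (hsn a a.2) a a.2).eq
    have hker : ∀ y ∈ φ.ker, Commute (y : G) s := by
      intro y hy
      have h1 : (y : G) * (s * y * s⁻¹) = 1 := congrArg Subtype.val (MonoidHom.mem_ker.1 hy)
      have h2 : (y : G)⁻¹ = y := inv_eq_of_mul_eq_one_right (by rw [← pow_two]; exact hE2 y y.2)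
      rw [mul_eq_one_iff_inv_eq, h2] at h1
      exact (mul_inv_eq_iff_eq_mul.1 h1.symm).symm
    have hle : ∀ R : Subgroup E, (∀ y ∈ R, Commute (y : G) s) → Nat.card R ≤ 2 := by
      intro R hR
      by_contra hR3
      push Not at hR3
      haveI : Fintype R := Fintype.ofFinite R
      rw [Nat.card_eq_fintype_card, Fintype.two_lt_card_iff] at hR3
      obtain ⟨a, b, c, hab, hac, hbc⟩ := hR3
      have key : ∀ u v : R, u ≠ 1 → v ≠ 1 → u = v := fun u v hu hv =>
        Subtype.ext (Subtype.ext (htwo s hsS hs _ ⟨u.1.2, hall _ u.1.2⟩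
          (fun h => hu (Subtype.ext (Subtype.ext h))) _ ⟨v.1.2, hall _ v.1.2⟩
          (fun h => hv (Subtype.ext (Subtype.ext h))) (hR u u.2) (hR v v.2)))
      by_cases ha : a = 1
      · exact hbc (key b c (fun h => hab (ha.trans h.symm)) (fun h => hac (ha.trans h.symm)))
      · by_cases hb : b = 1
        · exact hac (key a c ha (fun h => hbc (hb.trans h.symm)))
        · exact hab (key a b ha hb)
    have h1 := φ.ker.card_mul_index
    rw [Subgroup.index_ker, hE8] at h1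
    have := Nat.mul_le_mul (hle _ hker) (hle _ hrange)
    omega
  have hw₁S : w₁ ∈ S := hES hw₁
  have hWe : ∀ a ∈ E ⊓ K, a = 1 ∨ a = e := by
    intro a ha
    by_contra h
    push Not at h
    exact h.2 (htwo w₁ hw₁S (hout w₁ hw₁ hw₁K) a ha h.1 e ⟨he, heK⟩ he1
      (hEcomm a ha.1 w₁ hw₁) (hEcomm e he w₁ hw₁))
  obtain ⟨w₂, hw₂, hw₂K, hw₁₂⟩ : ∃ w ∈ E, w ∉ K ∧ w₁ * w ∉ K := by
    by_contra hall
    push Not at hall
    have hsub : (E : Set G) ⊆ {1, e, w₁, w₁ * e} := by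
      intro w hw
      by_cases hwK : w ∈ K
      · rcases hWe w ⟨hw, hwK⟩ with rfl | rfl <;> simp
      · have h2 : w₁ * w₁ = 1 := by rw [← pow_two]; exact hE2 w₁ hw₁
        have e' : w = w₁ * (w₁ * w) := by rw [← mul_assoc, h2, one_mul]
        rcases hWe _ ⟨mul_mem hw₁ hw, hall w hw hwK⟩ with h | h <;> rw [h] at e' <;> simp [e']
    have h1 : Nat.card (E : Set G) ≤ 4 := by
      refine (Nat.card_mono (Set.toFinite _) hsub).trans ?_
      rw [Nat.card_coe_set_eq]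
      exact (Set.ncard_insert_le _ _).trans (Nat.succ_le_succ ((Set.ncard_insert_le _ _).trans
        (Nat.succ_le_succ ((Set.ncard_insert_le _ _).trans (by rw [Set.ncard_singleton])))))
    change Nat.card E ≤ 4 at h1
    omega
  have hkey : ∀ k ∈ K, orderOf k = 2 → k = e := by
    intro k hk hk2
    have hkH : k ∈ setStab F := ptStab_le_setStab F hk.2
    have hcm : ∀ w ∈ E, k * w * k⁻¹ * w⁻¹ ∈ E ⊓ K := fun w hw =>
      ⟨mul_mem ((Subgroup.mem_normalizer_iff.1 (hEn hk.1) w).1 hw) (E.inv_mem hw),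
        mul_mem (mul_mem (mul_mem hk.1 (hES hw)) ((S : Subgroup G).inv_mem hk.1)) ((S : Subgroup G).inv_mem (hES hw)), by
        rw [show k * w * k⁻¹ * w⁻¹ = k * (w * k⁻¹ * w⁻¹) by group]
        exact mul_mem hk.2 (conj_mem_ptStab (hS (hES hw)) ((ptStab (G := G) F).inv_mem hk.2))⟩
    have hke : Commute k e := by
      rcases hWe (k * e * k⁻¹) ⟨(Subgroup.mem_normalizer_iff.1 (hEn hk.1) e).1 he,
        mul_mem (mul_mem hk.1 (hES he)) ((S : Subgroup G).inv_mem hk.1),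
        mul_mem (mul_mem hk.2 heK.2) ((ptStab (G := G) F).inv_mem hk.2)⟩ with h | h
      · exact absurd (conj_eq_one_iff.1 h) he1
      · exact mul_inv_eq_iff_eq_mul.1 h
    have hfin : ∀ w ∈ E, w ∉ K → Commute k w → k = e := fun w hw hwK hkw =>
      eq_of_free B hF S hS hclosed he' heF (hout w hw hwK) (hS (hES hw)) hk.2 heK.2 hk2
        (h2of e he he1) hkw (hEcomm e he w hw) hke
    rcases hWe _ (hcm w₁ hw₁) with h1 | h1
    · exact hfin w₁ hw₁ hw₁K (mul_inv_eq_iff_eq_mul.1 (mul_inv_eq_one.1 h1))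
    rcases hWe _ (hcm w₂ hw₂) with h2 | h2
    · exact hfin w₂ hw₂ hw₂K (mul_inv_eq_iff_eq_mul.1 (mul_inv_eq_one.1 h2))
    refine hfin (w₁ * w₂) (mul_mem hw₁ hw₂) hw₁₂ ?_
    have e1 : k * w₁ * k⁻¹ = e * w₁ := mul_inv_eq_iff_eq_mul.1 h1
    have e2 : k * w₂ * k⁻¹ = e * w₂ := mul_inv_eq_iff_eq_mul.1 h2
    refine mul_inv_eq_iff_eq_mul.1 ?_
    calc k * (w₁ * w₂) * k⁻¹ = (k * w₁ * k⁻¹) * (k * w₂ * k⁻¹) := by group
      _ = e * w₁ * (e * w₂) := by rw [e1, e2]
      _ = e * e * (w₁ * w₂) := by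
          rw [← mul_assoc, mul_assoc e w₁ e, (hEcomm w₁ hw₁ e he).eq]; group
      _ = w₁ * w₂ := by rw [show e * e = 1 by rw [← pow_two]; exact hE2 e he, one_mul]
  intro x y hx hy hx2 hy2
  exact (hkey x hx hx2).trans (hkey y hy hy2).symm

end Main

/-- A closed kernel has at most one involution unless a subgroup is strongly embedded. -/
theorem closed_kernel [Finite G] [IsSimpleGroup G] [FaithfulSMul G Ω] [Finite Ω] (B : Fixity G Ω)
    (_h04 : ∀ g : G, orderOf g = 2 → (MulAction.fixedBy Ω g).Nonempty →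
      Nat.card (MulAction.fixedBy Ω g) = 4)
    {F : Set Ω} (hF : Nat.card F = 4) (S : Sylow 2 G) (hS : (S : Subgroup G) ≤ setStab F)
    (hclosed : ∀ x ∈ S, orderOf x = 2 → (MulAction.fixedBy Ω x).Nonempty →
      MulAction.fixedBy Ω x = F)
    {E : Subgroup G} (hES : E ≤ S) (hEn : (S : Subgroup G) ≤ Subgroup.normalizer (E : Set G))
    (hE8 : Nat.card E = 8) (hE2 : ∀ x ∈ E, x ^ 2 = 1) {e : G} (he : e ∈ E) (he1 : e ≠ 1)
    (heF : MulAction.fixedBy Ω e = F) :
    (∃ H : Subgroup G, Cfsg.IsStronglyEmbedded H) ∨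
      (∀ x y : G, x ∈ (S : Subgroup G) ⊓ ptStab F → y ∈ (S : Subgroup G) ⊓ ptStab F →
        orderOf x = 2 → orderOf y = 2 → x = y) :=
  closed_kernel_aux B hF S hS hclosed hES hEn hE8 hE2 he he1 heF

end CfsgLib.FixityFour
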