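import Cfsg.Agent.Lib.FixityFour.FourMoved
import Cfsg.Agent.Lib.FixityFour.Closed
import Cfsg.Agent.Lib.PGroup.NormalSub
import Cfsg.Agent.Lib.Transfer.Sylow
import Cfsg.Prelude.Def_Involutions
import Cfsg.Agent.S0501

/-!
Fixity four, involutions fixing four points: assembly of the cases (`notes/s3365_plan.md`).
-/

set_option autoImplicit false
set_option linter.style.haveILetI false
set_option linter.unusedSectionVars false

namespace CfsgLib.FixityFour

open MulAction

variable {G Ω : Type*} [Group G] [MulAction G Ω]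

/-- The action of a subgroup on an invariant set. -/
def restrictPerm (F : Set Ω) (H : Subgroup G) (h : H ≤ setStab F) : H →* Equiv.Perm F where
  toFun s :=
    { toFun := fun x => ⟨(s : G) • (x : Ω), ((h s.2) x).mpr x.2⟩
      invFun := fun x => ⟨(s : G)⁻¹ • (x : Ω), ((inv_mem (h s.2)) x).mpr x.2⟩
      left_inv := fun x => Subtype.ext (inv_smul_smul (s : G) (x : Ω))
      right_inv := fun x => Subtype.ext (smul_inv_smul (s : G) (x : Ω)) }
  map_one' := Equiv.ext fun x => Subtype.ext (one_smul G (x : Ω))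
  map_mul' s t := Equiv.ext fun x => Subtype.ext (mul_smul (s : G) (t : G) (x : Ω))

theorem mem_ker_restrictPerm {F : Set Ω} {H : Subgroup G} {h : H ≤ setStab F} {s : H}
    (hs : s ∈ (restrictPerm F H h).ker) : (s : G) ∈ ptStab F := fun x hx =>
  congrArg Subtype.val (Equiv.congr_fun hs ⟨x, hx⟩)

/-- In a `2`-group an involution other than the only nontrivial element has centraliser of order at
least four. -/
theorem card_centralizer_four {T : Type*} [Group T] [Finite T] (hT : IsPGroup 2 T) {t y : T}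
    (ht : orderOf t = 2) (hy1 : y ≠ 1) (hyt : y ≠ t)
    (h4 : Nat.card ↥(Subgroup.centralizer ({t} : Set T)) ≤ 4) :
    Nat.card ↥(Subgroup.centralizer ({t} : Set T)) = 4 := by
  haveI : Fact (Nat.Prime 2) := ⟨Nat.prime_two⟩
  set C := Subgroup.centralizer ({t} : Set T) with hC
  have htC : t ∈ C := Subgroup.mem_centralizer_singleton_iff.mpr rfl
  have hdvd := Subgroup.orderOf_dvd_natCard C htC
  rw [ht] at hdvd
  obtain ⟨k, hk⟩ := (hT.to_subgroup C).exists_card_eq
  rw [hk] at h4 hdvd ⊢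
  have hk2 : k ≤ 2 := (Nat.pow_le_pow_iff_right (show 1 < 2 by norm_num)).mp h4
  interval_cases k
  · norm_num at hdvd
  · exfalso
    have hCz : Subgroup.zpowers t = C := Subgroup.eq_of_le_of_card_ge
      (Subgroup.zpowers_le.mpr htC) (by rw [Nat.card_zpowers, ht, hk]; norm_num)
    have hle : Subgroup.center T ≤ Subgroup.zpowers t := hCz ▸ fun z hz =>
      Subgroup.mem_centralizer_singleton_iff.mpr ((Subgroup.mem_center_iff.mp hz t).symm)
    haveI : Nontrivial T := ⟨⟨y, 1, hy1⟩⟩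
    obtain ⟨z, hz1⟩ := @exists_ne _ hT.center_nontrivial 1
    have hz2 : 2 ≤ Nat.card (Subgroup.center T) := by
      by_contra h
      push Not at h
      have hpos : 0 < Nat.card (Subgroup.center T) := Nat.card_pos
      haveI := (Nat.card_eq_one_iff_unique.mp (show Nat.card (Subgroup.center T) = 1 by omega)).1
      exact hz1 (Subsingleton.elim _ _)
    have heq := Subgroup.eq_of_le_of_card_ge hle (by rw [Nat.card_zpowers, ht]; exact hz2)
    have hyC : y ∈ C := Subgroup.mem_centralizer_singleton_iff.mpr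
      (Subgroup.mem_center_iff.mp (heq ▸ Subgroup.mem_zpowers t : t ∈ Subgroup.center T) y)
    rw [← hCz] at hyC
    obtain ⟨i, hi⟩ := hyC
    simp only at hi
    rw [zpow_mod_orderOf t i |>.symm, ht] at hi
    rcases Int.emod_two_eq_zero_or_one i with e | e <;> simp [e] at hi
    · exact hy1 hi.symm
    · exact hyt hi.symm
  · rfl

section Simple

variable [Finite G] [IsSimpleGroup G] [FaithfulSMul G Ω] [Finite Ω] (B : Fixity G Ω)
variable (S : Sylow 2 G)

include B

omit [IsSimpleGroup G] [FaithfulSMul G Ω] B in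
/-- An invariant four-set with kernel of sectional rank at most two. -/
theorem sectional_of_kernel {F : Set Ω} (hF : Nat.card F = 4) (hFS : (S : Subgroup G) ≤ setStab F)
    (h : Cfsg.SectionalPRankLE 2 2 ↥((S : Subgroup G) ⊓ ptStab F)) :
    Cfsg.SectionalPRankLE 2 4 (S : Subgroup G) := by
  haveI : Fact (Nat.Prime 2) := ⟨Nat.prime_two⟩
  set f := restrictPerm F (S : Subgroup G) hFS with hf
  let ι : f.ker →* ↥((S : Subgroup G) ⊓ ptStab F) := MonoidHom.mk'
    (fun s => ⟨((s : (S : Subgroup G)) : G), (s : (S : Subgroup G)).2, mem_ker_restrictPerm s.2⟩)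
    fun _ _ => rfl
  have hι : Function.Injective ι := fun a b e =>
    Subtype.ext (Subtype.ext (congrArg (fun z : ↥((S : Subgroup G) ⊓ ptStab F) => (z : G)) e))
  exact sectional_add S.isPGroup' f.ker (sectional_of_injective ι hι h)
    (sectional_perm_four (S.isPGroup'.to_quotient _) hF (QuotientGroup.kerLift f)
      (QuotientGroup.kerLift_injective f))

omit [IsSimpleGroup G] [FaithfulSMul G Ω] in
/-- Case (ii): two invariant fixed sets. -/
theorem case_two (h4n : 4 ∣ Nat.card Ω) {F F' : Set Ω} (hF : Nat.card F = 4) (hF' : Nat.card F' = 4)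
    (hFS : (S : Subgroup G) ≤ setStab F) (hF'S : (S : Subgroup G) ≤ setStab F') (hne : F ≠ F') :
    Cfsg.SectionalPRankLE 2 4 (S : Subgroup G) := by
  have hdisj : ∀ x ∈ F, x ∉ F' := fun x hx hx' => hne (Set.eq_of_subset_of_ncard_le
    (fun y hy => by
      obtain ⟨s, hs, rfl⟩ := transitive_on B S h4n hF hFS hx y hy
      exact (hF'S hs x).mpr hx')
    (by rw [← Nat.card_coe_set_eq, ← Nat.card_coe_set_eq, hF, hF']) (Set.toFinite _))
  refine sectional_of_kernel S hF hFS (sectional_of_card ?_)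
  obtain ⟨q, hq⟩ := Set.nonempty_of_ncard_ne_zero (s := F') (by rw [← Nat.card_coe_set_eq, hF']; omega)
  have h := card_le_mul_of_subset (H := (S : Subgroup G) ⊓ ptStab F) (K := ⊥) (d := q) (X := F')
    (fun k hk => (hF'S hk.1 q).mpr hq) fun k hk e0 => by
      by_contra h1
      refine hdisj q ?_ hq
      rw [← fixedBy_eq_four B hF hk.2 (fun h => h1 (Subgroup.mem_bot.mpr h))]
      exact e0
  rw [hF', Subgroup.card_bot, mul_one] at h
  simpa using h

omit [IsSimpleGroup G] [FaithfulSMul G Ω] in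
/-- Case (iii), an involution inducing a transposition. -/
theorem case_transposition {F : Set Ω} (hF : Nat.card F = 4) (hFS : (S : Subgroup G) ≤ setStab F)
    {e : G} (heS : e ∈ (S : Subgroup G)) (he1 : e ≠ 1) (heF : e ∈ ptStab F) {t : G}
    (htS : t ∈ (S : Subgroup G)) (ht : orderOf t = 2) (h4 : Nat.card (fixedBy Ω t) = 4)
    (hne : fixedBy Ω t ≠ F) {p : Ω} (hp : p ∈ F) (htp : t • p = p) :
    Cfsg.SectionalPRankLE 2 4 (S : Subgroup G) := by
  classical
  haveI : Fact (Nat.Prime 2) := ⟨Nat.prime_two⟩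
  have ht1 : t ≠ 1 := fun h => by rw [h, orderOf_one] at ht; omega
  have htF : t ∉ ptStab F := fun h => hne (fixedBy_eq_four B hF h ht1)
  obtain ⟨r, hr, htr⟩ : ∃ r ∈ F, t • r ≠ r := by
    by_contra h
    push Not at h
    exact htF h
  obtain ⟨q, hq, hqp, htq, hr', hall⟩ :=
    fix_two hF (by rw [← ht]; exact pow_orderOf_eq_one t) (hFS htS) hp htp hr htr
  obtain ⟨d, hd, hdF⟩ : ∃ d ∈ fixedBy Ω t, d ∉ F := by
    by_contra h
    push Not at h
    exact hne (Set.eq_of_subset_of_ncard_le h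
      (by rw [← Nat.card_coe_set_eq, ← Nat.card_coe_set_eq, hF, h4]) (Set.toFinite _))
  set K := (S : Subgroup G) ⊓ ptStab F with hK
  have hCK : Nat.card ↥(K ⊓ Subgroup.centralizer ({t} : Set G)) ≤ 2 := by
    have hsub : ({p, q} : Set Ω) ⊆ fixedBy Ω t := by rintro x (rfl | rfl) <;> assumption
    have hle : fixedBy Ω t \ F ⊆ fixedBy Ω t \ {p, q} :=
      Set.sdiff_subset_sdiff_right (by rintro x (rfl | rfl) <;> assumption)
    have hout : (fixedBy Ω t \ F).ncard ≤ 2 := by
      refine (Set.ncard_le_ncard hle (Set.toFinite _)).trans ?_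
      rw [Set.ncard_sdiff hsub, Set.ncard_pair hqp.symm, ← Nat.card_coe_set_eq, h4]
    have h := card_le_mul_of_subset (H := K ⊓ Subgroup.centralizer ({t} : Set G)) (K := ⊥) (d := d)
      (X := fixedBy Ω t \ F)
      (fun k hk => ⟨(mem_setStab_fixedBy (Subgroup.mem_centralizer_singleton_iff.mp hk.2) d).mpr hd,
        fun h => hdF ((ptStab_le_setStab F hk.1.2 d).mp h)⟩)
      (fun k hk e0 => by
        by_contra h1
        refine hdF ?_
        rw [← fixedBy_eq_four B hF hk.1.2 (fun h => h1 (Subgroup.mem_bot.mpr h))]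
        exact e0)
    rw [Subgroup.card_bot, mul_one, Nat.card_coe_set_eq] at h
    exact h.trans hout
  have hzK : Subgroup.zpowers t ≤ Subgroup.normalizer (K : Set G) := Subgroup.zpowers_le.mpr
    (Subgroup.mem_normalizer_fintype fun k hk =>
      ⟨(S : Subgroup G).mul_mem ((S : Subgroup G).mul_mem htS hk.1) ((S : Subgroup G).inv_mem htS), conj_mem_ptStab (hFS htS) hk.2⟩)
  set T := K ⊔ Subgroup.zpowers t with hT
  have hTS : T ≤ (S : Subgroup G) := sup_le inf_le_left (Subgroup.zpowers_le.mpr htS)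
  have hTp : IsPGroup 2 T := S.isPGroup'.to_le hTS
  haveI hN : (K.subgroupOf T).Normal := ⟨fun k hk x => Subgroup.mem_subgroupOf.mpr
    ⟨hTS (x * k * x⁻¹).2, by
      simpa using conj_mem_ptStab (hFS (hTS x.2)) (Subgroup.mem_subgroupOf.mp hk).2⟩⟩
  have hTK : (K.subgroupOf T).index ≤ 2 := by
    have hs : Function.Surjective (fun z : K × Subgroup.zpowers t =>
        (⟨(z.1 : G) * z.2, mul_mem (Subgroup.mem_sup_left z.1.2) (Subgroup.mem_sup_right z.2.2)⟩ : T)) := by
      rintro ⟨x, hx⟩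
      have hx' : x ∈ ((K ⊔ Subgroup.zpowers t : Subgroup G) : Set G) := hx
      rw [Subgroup.coe_mul_of_right_le_normalizer_left _ _ hzK] at hx'
      obtain ⟨a, ha, b, hb, rfl⟩ := hx'
      exact ⟨(⟨a, ha⟩, ⟨b, hb⟩), rfl⟩
    have h := Nat.card_le_card_of_surjective _ hs
    rw [Nat.card_prod, Nat.card_zpowers, ht, ← (K.subgroupOf T).card_mul_index,
      Nat.card_congr (Subgroup.subgroupOfEquivOfLe (le_sup_left : K ≤ T)).toEquiv] at h
    exact Nat.le_of_mul_le_mul_left h Nat.card_pos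
  set t' : T := ⟨t, Subgroup.mem_sup_right (Subgroup.mem_zpowers t)⟩ with ht'
  have ht'2 : orderOf t' = 2 := by rw [ht', Subgroup.orderOf_mk, ht]
  have heK : e ∈ K := ⟨heS, heF⟩
  have hC4 : Nat.card ↥(Subgroup.centralizer ({t'} : Set T)) ≤ 4 := by
    rw [CfsgLib.TwoRank.card_split (QuotientGroup.mk' (K.subgroupOf T))
      (Subgroup.centralizer ({t'} : Set T)), QuotientGroup.ker_mk']
    refine (Nat.mul_le_mul (le_trans ?_ hCK) ((Subgroup.card_le_card_group _).trans hTK)).trans (by norm_num)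
    refine Nat.card_le_card_of_injective
      (fun c => (⟨((c : T) : G), c.2.2, Subgroup.mem_centralizer_singleton_iff.mpr
        (congrArg (Subgroup.subtype T) (Subgroup.mem_centralizer_singleton_iff.mp c.2.1))⟩ :
          ↥(K ⊓ Subgroup.centralizer ({t} : Set G)))) fun a b e0 => ?_
    exact Subtype.ext (Subtype.ext (congrArg
      (fun z : ↥(K ⊓ Subgroup.centralizer ({t} : Set G)) => (z : G)) e0))
  have hC := card_centralizer_four hTp ht'2 (y := ⟨e, Subgroup.mem_sup_left heK⟩)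
    (fun h => he1 (congrArg Subtype.val h)) (fun h => htF (by have h' : e = t := congrArg Subtype.val h; rw [← h']; exact heF)) hC4
  refine sectional_of_kernel S hF hFS ?_
  exact sectional_of_injective (Subgroup.inclusion (le_sup_left : K ≤ T))
    (Subgroup.inclusion_injective _) (sectional_of_invol_four hTp ht'2 hC)

/-- Involutions fixing four points. -/
theorem four_cases (hf : ∀ g : G, orderOf g = 2 → Nat.card (fixedBy Ω g) ≤ 4)
    (hf' : ∃ g : G, orderOf g = 2 ∧ Nat.card (fixedBy Ω g) = 4) :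
    (∃ H : Subgroup G, Cfsg.IsStronglyEmbedded H) ∨
      Cfsg.SectionalPRankLE 2 4 (S : Subgroup G) := by
  classical
  haveI : Fact (Nat.Prime 2) := ⟨Nat.prime_two⟩
  obtain ⟨g₀, hg₀, hg₀4⟩ := hf'
  have h4n : 4 ∣ Nat.card Ω := by
    have h1 := four_dvd_moved B hg₀
    have h2 := five_le B
    omega
  have h04 : ∀ g : G, orderOf g = 2 → (fixedBy Ω g).Nonempty → Nat.card (fixedBy Ω g) = 4 := by
    intro g hg hne
    have h1 := four_dvd_moved B hg
    have h2 := hf g hg
    have h3 : 0 < Nat.card (fixedBy Ω g) := by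
      rw [Nat.card_coe_set_eq, Set.ncard_pos]
      exact hne
    have h5 : Nat.card (fixedBy Ω g) ≤ Nat.card Ω := Finite.card_subtype_le _
    omega
  by_cases h0 : ∀ A : Subgroup (S : Subgroup G), A.Normal → IsMulCommutative A →
      (∀ a ∈ A, a ^ 2 = 1) → Nat.card A ≤ 4
  · exact Or.inr (Cfsg.Agent.S0501.result S.isPGroup' h0)
  push Not at h0
  obtain ⟨A, hAn, -, hA2, hA5⟩ := h0
  obtain ⟨m, hm⟩ := (S.isPGroup'.to_subgroup A).exists_card_eq
  have hm3 : 3 ≤ m := by
    by_contra h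
    push Not at h
    rw [hm] at hA5
    interval_cases m <;> omega
  obtain ⟨E₀, hE₀n, hE₀A, hE₀c⟩ := CfsgLib.CyclicMax.exists_normal_le_card_pow S.isPGroup' (m - 3)
    (j := 3) A hAn (by rw [hm]; congr 1; omega)
  set E := E₀.map (Subgroup.subtype (S : Subgroup G)) with hE
  have hES : E ≤ (S : Subgroup G) := Subgroup.map_subtype_le _
  have hE8 : Nat.card E = 8 := by
    rw [hE, Subgroup.card_map_of_injective (Subgroup.subtype_injective _), hE₀c]
    norm_num
  have hEn : ∀ s ∈ (S : Subgroup G), ∀ x ∈ E, s * x * s⁻¹ ∈ E := by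
    rintro s hs _ ⟨x, hx, rfl⟩
    exact ⟨⟨s, hs⟩ * x * (⟨s, hs⟩ : (S : Subgroup G))⁻¹, hE₀n.conj_mem x hx _, rfl⟩
  have hE2 : ∀ x ∈ E, x ^ 2 = 1 := by
    rintro _ ⟨x, hx, rfl⟩
    rw [← map_pow, hA2 x (hE₀A hx), map_one]
  have hfixer : ∀ x ∈ E, x ≠ 1 → (fixedBy Ω x).Nonempty → Nat.card (fixedBy Ω x) = 4 :=
    fun x hx h1 => h04 x (orderOf_eq_prime (hE2 x hx) h1)
  by_cases hmov : ∃ e ∈ E, e ≠ 1 ∧ (fixedBy Ω e).Nonempty ∧ ∃ s ∈ (S : Subgroup G), s ∉ setStab (fixedBy Ω e)
  · obtain ⟨e, he, he1, hne, s, hs, hsF⟩ := hmov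
    exact Or.inr (case_moved B S h04 hES hEn hE8 hE2 he he1 hne hs hsF)
  push Not at hmov
  by_cases hL : ∃ t ∈ (S : Subgroup G), orderOf t = 2 ∧ (fixedBy Ω t).Nonempty ∧
      ∀ x ∈ E, ∀ p ∈ fixedBy Ω t, x • p = p → x = 1
  · obtain ⟨t, htS, ht, htne, hfree⟩ := hL
    exact Or.inr (case_disjoint B S h04 hES hEn hE8 hE2 htS ht htne hfree)
  push Not at hL
  obtain ⟨c, hc⟩ := CfsgLib.Transfer.exists_map_conj_le_sylow (p := 2)
    (IsPGroup.of_card (n := 1) (by rw [Nat.card_zpowers, hg₀, pow_one]) :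
      IsPGroup 2 (Subgroup.zpowers g₀)) S
  have htS : c * g₀ * c⁻¹ ∈ (S : Subgroup G) :=
    hc (Subgroup.mem_map_of_mem _ (Subgroup.mem_zpowers g₀))
  have ht : orderOf (c * g₀ * c⁻¹) = 2 := (CfsgLib.Transfer.orderOf_conj c g₀).trans hg₀
  have htne : (fixedBy Ω (c * g₀ * c⁻¹)).Nonempty := by
    apply Set.nonempty_of_ncard_ne_zero
    rw [← Nat.card_coe_set_eq, card_fixedBy_conj, hg₀4]
    omega
  obtain ⟨e, he, p, -, hep, he1⟩ := hL _ htS ht htne
  set F := fixedBy Ω e with hFdef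
  have hF : Nat.card F = 4 := hfixer e he he1 ⟨p, hep⟩
  have hFS : (S : Subgroup G) ≤ setStab F := fun s hs => hmov e he he1 ⟨p, hep⟩ s hs
  by_cases hout : ∃ t ∈ (S : Subgroup G), orderOf t = 2 ∧ (fixedBy Ω t).Nonempty ∧ fixedBy Ω t ≠ F
  · obtain ⟨t, htS', ht', htne', hneF⟩ := hout
    obtain ⟨x, hx, q, hqt, hxq, hx1⟩ := hL t htS' ht' htne'
    have hxF4 : Nat.card (fixedBy Ω x) = 4 := hfixer x hx hx1 ⟨q, hxq⟩
    by_cases hxF : fixedBy Ω x = F
    · exact Or.inr (case_transposition B S hF hFS (hES he) he1 (fun y hy => hy) htS' ht'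
        (h04 t ht' htne') hneF (hxF ▸ hxq : q ∈ F) hqt)
    · exact Or.inr (case_two B S h4n hxF4 hF (fun s hs => hmov x hx hx1 ⟨q, hxq⟩ s hs) hFS hxF)
  push Not at hout
  rcases closed_kernel B h04 hF S hFS hout hES
    (fun s hs => Subgroup.mem_normalizer_fintype fun x hx => hEn s hs x hx) hE8 hE2 he he1 rfl with h | h
  · exact Or.inl h
  · refine Or.inr (sectional_of_kernel S hF hFS (sectional_unique_invol
      (S.isPGroup'.to_le inf_le_left) fun a b ha hb => Subtype.ext (h a b a.2 b.2 ?_ ?_)))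
    · rwa [Subgroup.orderOf_coe]
    · rwa [Subgroup.orderOf_coe]

end Simple

end CfsgLib.FixityFour
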