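import Cfsg.Agent.Lib.TwoRank.DEightWreath
import Cfsg.Agent.Lib.TwoRank.FourCent.Basic
import Cfsg.Agent.Lib.ZStar.UniqueInvol
import Cfsg.Agent.S3224

/-!
Bounds for the sectional rank of a 2-group (S3365, `notes/s3365_plan.md`).
-/

set_option autoImplicit false
set_option linter.unusedSectionVars false
set_option linter.unusedVariables false
set_option linter.style.haveILetI false

namespace CfsgLib.FixityFour

open CfsgLib.TwoRank

variable {S : Type*} [Group S] [Finite S]

/-- Sectional ranks add along an extension. -/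
theorem sectional_add (hS : IsPGroup 2 S) {a b : ℕ} (N : Subgroup S) [N.Normal]
    (hN : Cfsg.SectionalPRankLE 2 a ↥N) (hq : Cfsg.SectionalPRankLE 2 b (S ⧸ N)) :
    Cfsg.SectionalPRankLE 2 (a + b) S := by
  refine sectional_of_sqLE fun X K h => ?_
  rw [pow_add]
  refine card_le_split (QuotientGroup.mk' N) ?_
    (CfsgLib.DEightWreath.card_le_of_sectional hq (h.map (QuotientGroup.mk' N)))
  rw [QuotientGroup.ker_mk']
  have h' : SqLE (X.subgroupOf N) (K.subgroupOf N) := ⟨fun x hx => h.1 hx, fun x hx => h.2 x.1 hx⟩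
  have := CfsgLib.DEightWreath.card_le_of_sectional hN h'
  rwa [← Subgroup.card_map_of_injective N.subtype_injective (K := X.subgroupOf N),
    ← Subgroup.card_map_of_injective N.subtype_injective (K := K.subgroupOf N),
    Subgroup.subgroupOf_map_subtype, Subgroup.subgroupOf_map_subtype] at this

/-- The sectional rank of a subgroup. -/
theorem sectional_of_injective {k : ℕ} {T : Type*} [Group T] [Finite T] (f : T →* S)
    (hf : Function.Injective f) (h : Cfsg.SectionalPRankLE 2 k S) : Cfsg.SectionalPRankLE 2 k T := by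
  refine sectional_of_sqLE fun X K hXK => ?_
  have := CfsgLib.DEightWreath.card_le_of_sectional h (hXK.map f)
  rwa [Subgroup.card_map_of_injective hf, Subgroup.card_map_of_injective hf] at this

/-- A small group. -/
theorem sectional_of_card {k : ℕ} (h : Nat.card S ≤ 2 ^ k) : Cfsg.SectionalPRankLE 2 k S :=
  sectional_of_sqLE fun X K _ =>
    ((Subgroup.card_le_card_group X).trans h).trans (Nat.le_mul_of_pos_right _ Nat.card_pos)

set_option maxRecDepth 100000 in
theorem perm_four_comm_bound : ∀ a : Equiv.Perm (Fin 4), a ≠ 1 → a * a = 1 →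
    (Finset.univ.filter fun b : Equiv.Perm (Fin 4) => b * b = 1 ∧ a * b = b * a).card ≤ 6 := by
  decide +kernel

/-- A 2-group acting faithfully on four points. -/
theorem sectional_perm_four (hS : IsPGroup 2 S) {X : Type*} [Finite X] (hX : Nat.card X = 4)
    (f : S →* Equiv.Perm X) (hf : Function.Injective f) : Cfsg.SectionalPRankLE 2 2 S := by
  classical
  haveI := Fintype.ofFinite X
  let e : X ≃ Fin 4 := (Finite.equivFin X).trans (finCongr hX)
  let g : S →* Equiv.Perm (Fin 4) := e.permCongrHom.toMonoidHom.comp f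
  have hg : Function.Injective g := e.permCongrHom.injective.comp hf
  have hdvd : Nat.card S ∣ 24 := by
    have := Subgroup.card_dvd_of_injective g hg
    rwa [Nat.card_perm, Nat.card_eq_fintype_card (α := Fin 4), Fintype.card_fin] at this
  obtain ⟨n, hn⟩ := IsPGroup.iff_card.1 hS
  have hn3 : n ≤ 3 := by
    by_contra hc
    exact absurd ((pow_dvd_pow 2 (show 4 ≤ n by omega)).trans (hn ▸ hdvd)) (by norm_num)
  refine sectional_of_sqLE fun Y K h => ?_
  have hY : Nat.card Y ≤ 8 := (Subgroup.card_le_card_group Y).trans (by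
    rw [hn]; exact (Nat.pow_le_pow_right (by norm_num) hn3).trans (by norm_num))
  by_cases hK : K = ⊥
  · subst hK
    rw [Subgroup.card_bot]
    by_contra hgt
    obtain ⟨m, hm⟩ := exists_two_pow hS Y
    have h8 : 6 < Nat.card Y := by
      rw [hm] at hgt hY ⊢
      rcases Nat.lt_or_ge m 3 with hm' | hm'
      · interval_cases m <;> simp at hgt
      · exact lt_of_lt_of_le (by norm_num) (Nat.pow_le_pow_right (by norm_num) hm')
    obtain ⟨a, ha⟩ : ∃ a : Y, a ≠ 1 := by
      haveI : Nontrivial Y := Finite.one_lt_card_iff_nontrivial.1 (by omega)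
      exact exists_ne 1
    have hsq : ∀ y : Y, (y : S) * y = 1 := fun y => Subgroup.mem_bot.1 (h.2 y y.2)
    have hga : g a ≠ 1 := fun e1 => ha (Subtype.ext (hg (by rw [e1, Subgroup.coe_one, map_one])))
    have hb := perm_four_comm_bound (g a) hga (by rw [← map_mul, hsq, map_one])
    have hle : Nat.card Y ≤ (Finset.univ.filter fun b : Equiv.Perm (Fin 4) =>
        b * b = 1 ∧ g a * b = b * g a).card := by
      rw [← Nat.card_eq_finsetCard]
      refine Nat.card_le_card_of_injective (fun y => ⟨g y, ?_⟩) fun y y' e' => Subtype.ext (hg ?_)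
      · rw [Finset.mem_filter]
        refine ⟨Finset.mem_univ _, by rw [← map_mul, hsq, map_one], ?_⟩
        rw [← map_mul, ← map_mul]
        congr 1
        have h1 := hsq a; have h2 := hsq y; have h3 := hsq (a * y)
        rw [Subgroup.coe_mul] at h3
        calc (a : S) * y = (y * y) * (a * y) * (a * a) := by rw [h1, h2, one_mul, mul_one]
          _ = (y : S) * ((y * a * y * a) * a) := by simp only [mul_assoc]
          _ = (y : S) * a := by
            rw [show (y : S) * a * y * a = y * (a * y * (a * y)) * (y : S)⁻¹ by group, h3]; group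
      · exact congrArg Subtype.val e'
    omega
  · have : 1 < Nat.card K := K.one_lt_card_iff_ne_bot.2 hK
    omega

/-- A cyclic subgroup of index at most two. -/
theorem sectional_cyclic_index_two (hS : IsPGroup 2 S) (c : S) (hidx : (Subgroup.zpowers c).index ≤ 2) :
    Cfsg.SectionalPRankLE 2 2 S := by
  have hne : (Subgroup.zpowers c).index ≠ 0 := Subgroup.index_ne_zero_of_finite
  haveI : (Subgroup.zpowers c).Normal := by
    rcases (by omega : (Subgroup.zpowers c).index = 1 ∨ (Subgroup.zpowers c).index = 2) with h1 | h1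
    · rw [Subgroup.index_eq_one.1 h1]; infer_instance
    · exact Subgroup.normal_of_index_eq_two h1
  refine sectional_of_sqLE fun X K h => ?_
  rw [show (2 : ℕ) ^ 2 = 2 * 2 from rfl]
  refine card_le_split (QuotientGroup.mk' (Subgroup.zpowers c)) ?_ ?_
  · rw [QuotientGroup.ker_mk']
    haveI : IsCyclic (X ⊓ Subgroup.zpowers c : Subgroup S) :=
      isCyclic_of_injective (Subgroup.inclusion (inf_le_right : X ⊓ Subgroup.zpowers c ≤ _))
        (Subgroup.inclusion_injective _)
    obtain ⟨⟨d, hd⟩, hgen⟩ := IsCyclic.exists_generator (α := (X ⊓ Subgroup.zpowers c : Subgroup S))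
    set D := (K ⊓ Subgroup.zpowers c).subgroupOf (X ⊓ Subgroup.zpowers c) with hD
    have hi : D.index ≤ 2 := by
      haveI : D.Normal := inferInstance
      rw [Subgroup.index_eq_card]
      let q := QuotientGroup.mk' D
      have hq : q ⟨d, hd⟩ ^ 2 = 1 := by
        rw [← map_pow, QuotientGroup.mk'_apply, QuotientGroup.eq_one_iff]
        show d ^ 2 ∈ K ⊓ Subgroup.zpowers c
        exact ⟨by rw [pow_two]; exact h.2 d hd.1, pow_mem hd.2 2⟩
      have htop : Subgroup.zpowers (q ⟨d, hd⟩) = ⊤ := by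
        rw [← MonoidHom.map_zpowers, (Subgroup.eq_top_iff' _).2 hgen,
          Subgroup.map_top_of_surjective _ (QuotientGroup.mk'_surjective _)]
      rw [← Subgroup.card_top, ← htop, Nat.card_zpowers]
      exact Nat.le_of_dvd (by norm_num) (orderOf_dvd_of_pow_eq_one hq)
    rw [← D.card_mul_index, Nat.card_congr (Subgroup.subgroupOfEquivOfLe
      (inf_le_inf_right _ h.1)).toEquiv, mul_comm]
    exact Nat.mul_le_mul_right _ hi
  · have hq : Nat.card (S ⧸ Subgroup.zpowers c) ≤ 2 := by rwa [← Subgroup.index_eq_card]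
    exact ((Subgroup.card_le_card_group _).trans hq).trans (Nat.le_mul_of_pos_right _ Nat.card_pos)

/-- At most one involution. -/
theorem sectional_unique_invol (hS : IsPGroup 2 S)
    (h : ∀ x y : S, orderOf x = 2 → orderOf y = 2 → x = y) : Cfsg.SectionalPRankLE 2 2 S := by
  rcases CfsgLib.ZStar.unique_involution_structure hS h with hc | ⟨a, n, -, -, -, hidx, -⟩
  · obtain ⟨c, hc⟩ := hc.exists_generator
    refine sectional_cyclic_index_two hS c ?_
    rw [(Subgroup.eq_top_iff' _).2 hc, Subgroup.index_top]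
    norm_num
  · exact sectional_cyclic_index_two hS a hidx.le

/-- An involution with centraliser of order four. -/
theorem sectional_of_invol_four (hS : IsPGroup 2 S) {x : S} (hx : orderOf x = 2)
    (hC : Nat.card ↥(Subgroup.centralizer ({x} : Set S)) = 4) : Cfsg.SectionalPRankLE 2 2 S := by
  rcases Cfsg.Agent.S3224.result hS x hx hC with ⟨n, ⟨e⟩⟩ | ⟨n, -, hn, y, z, hy, -, -⟩ | h4
  · have hcard : Nat.card S = 2 * n := (Nat.card_congr e.toEquiv).trans DihedralGroup.nat_card
    have hn0 : n ≠ 0 := by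
      have : Nat.card S ≠ 0 := Nat.card_pos.ne'
      omega
    refine sectional_cyclic_index_two hS (e.symm (DihedralGroup.r 1)) ?_
    have h1 := (Subgroup.zpowers (e.symm (DihedralGroup.r 1))).card_mul_index
    rw [Nat.card_zpowers, MulEquiv.orderOf_eq, DihedralGroup.orderOf_r_one, hcard] at h1
    nlinarith [Nat.pos_of_ne_zero hn0]
  · refine sectional_cyclic_index_two hS y ?_
    have h1 := (Subgroup.zpowers y).card_mul_index
    rw [Nat.card_zpowers, hy, hn, pow_succ] at h1
    exact (Nat.eq_of_mul_eq_mul_left (pow_pos (by norm_num) n) h1).le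
  · exact sectional_of_card (by rw [h4]; norm_num)

/-- A normal `2^4` with small centralisers outside. -/
theorem sectional_sixteen (hS : IsPGroup 2 S) (W : Subgroup S) [W.Normal] (hW : Nat.card W = 16)
    (hW2 : ∀ w ∈ W, w ^ 2 = 1) (hidx : W.index ≤ 8)
    (hnab : W.index = 8 → ∃ x y : S, x * y * x⁻¹ * y⁻¹ ∉ W)
    (hfix : ∀ x : S, x ∉ W → Nat.card ↥(W ⊓ Subgroup.centralizer ({x} : Set S)) ≤ 4) :
    Cfsg.SectionalPRankLE 2 4 S := by
  refine sectional_of_sqLE fun X K h => ?_
  set f := QuotientGroup.mk' W with hf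
  have hker : f.ker = W := QuotientGroup.ker_mk' W
  set B := X ⊓ W with hB
  set I := Nat.card (X.map f) with hI
  have hX : Nat.card X = Nat.card B * I := by rw [card_split f X, hker]
  have hI8 : I ≤ 8 := (Subgroup.card_le_card_group _).trans (by rwa [← Subgroup.index_eq_card])
  have hb16 : Nat.card B ≤ 16 := hW ▸ Subgroup.card_le_of_le inf_le_right
  have hKs : Nat.card K = Nat.card (K ⊓ W : Subgroup S) * Nat.card (K.map f) := by
    rw [card_split f K, hker]
  have hKW : 0 < Nat.card (K ⊓ W : Subgroup S) := Nat.card_pos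
  have hKI : 0 < Nat.card (K.map f) := Nat.card_pos
  show Nat.card X ≤ 2 ^ 4 * Nat.card K
  rw [hX, hKs]
  have hI1 : ¬ I ≤ 1 → ∃ x ∈ X, x ∉ W := fun hI1 => by
    by_contra hc
    simp only [not_exists, not_and, not_not] at hc
    have : X.map f = ⊥ := by
      rw [Subgroup.map_eq_bot_iff, hker]; exact hc
    rw [hI, this, Subgroup.card_bot] at hI1
    exact hI1 le_rfl
  have hfull : I = 8 → 2 ≤ Nat.card (K.map f) := fun h8 => by
    have hi : W.index = 8 := le_antisymm hidx (by
      rw [Subgroup.index_eq_card]; exact h8 ▸ Subgroup.card_le_card_group _)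
    have htop : X.map f = ⊤ := Subgroup.eq_top_of_card_eq _ (by
      rw [← hI, h8, ← hi, Subgroup.index_eq_card])
    obtain ⟨x, y, hxy⟩ := hnab hi
    obtain ⟨x', hx', ex⟩ := htop.ge (Subgroup.mem_top (f x))
    obtain ⟨y', hy', ey⟩ := htop.ge (Subgroup.mem_top (f y))
    refine Nat.succ_le_of_lt ((K.map f).one_lt_card_iff_ne_bot.2 fun hb => hxy ?_)
    have h0 := (Subgroup.eq_bot_iff_forall _).1 hb _ ⟨_, h.comm_mem hx' hy', rfl⟩
    rw [← hker, MonoidHom.mem_ker]
    simpa [map_mul, map_inv, ex, ey] using h0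
  -- an element outside `W` moves `B`
  have hmove : ∀ x ∈ X, x ∉ W → Nat.card B ≤ 4 * Nat.card (K ⊓ W : Subgroup S) := fun x hx hxW => by
    let φ : B →* (K ⊓ W : Subgroup S) := MonoidHom.mk' (fun b => ⟨x * (b : S) * x⁻¹ * (b : S)⁻¹,
      ⟨h.comm_mem hx b.2.1, show x * (b : S) * x⁻¹ * (b : S)⁻¹ ∈ W from
        mul_mem (‹W.Normal›.conj_mem _ b.2.2 x) (inv_mem b.2.2)⟩⟩) fun b c => by
        refine Subtype.ext ?_
        have hcomm : ∀ u ∈ W, ∀ v ∈ W, u * v = v * u := fun u hu v hv => by
          have hu2 := hW2 u hu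
          have hv2 := hW2 v hv
          have huv := hW2 _ (mul_mem hu hv)
          rw [pow_two] at hu2 hv2 huv
          calc u * v = (u * v)⁻¹ := eq_inv_of_mul_eq_one_left huv
            _ = v * u := by rw [mul_inv_rev, inv_eq_of_mul_eq_one_right hu2, inv_eq_of_mul_eq_one_right hv2]
        show x * ((b : S) * c) * x⁻¹ * ((b : S) * c)⁻¹ =
          (x * (b : S) * x⁻¹ * (b : S)⁻¹) * (x * (c : S) * x⁻¹ * (c : S)⁻¹)
        have hc' : x * (c : S) * x⁻¹ * (c : S)⁻¹ ∈ W := mul_mem (‹W.Normal›.conj_mem _ c.2.2 x) (inv_mem (show (c : S) ∈ W from c.2.2))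
        rw [mul_assoc (x * (b : S) * x⁻¹), hcomm _ (inv_mem (show (b : S) ∈ W from b.2.2)) _ hc']
        group
    have hker4 : Nat.card φ.ker ≤ 4 := by
      refine le_trans ?_ (hfix x hxW)
      refine Nat.card_le_card_of_injective (fun b => ⟨((b : B) : S), (b : B).2.2, ?_⟩)
        fun b b' e => Subtype.ext (Subtype.ext (congrArg (fun z : ↥(W ⊓ Subgroup.centralizer ({x} : Set S)) => (z : S)) e))
      have hb : x * ((b : B) : S) * x⁻¹ * ((b : B) : S)⁻¹ = 1 := congrArg Subtype.val b.2
      exact Subgroup.mem_centralizer_singleton_iff.2 (mul_inv_eq_iff_eq_mul.1 (mul_inv_eq_one.1 hb)).symm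
    rw [← φ.ker.card_mul_index, Subgroup.index_ker]
    exact Nat.mul_le_mul hker4 (Subgroup.card_le_card_group _)
  rcases Nat.lt_or_ge 1 I with hI' | hI'
  swap
  · nlinarith
  obtain ⟨x, hx, hxW⟩ := hI1 (by omega)
  have hm := hmove x hx hxW
  obtain ⟨i, hi⟩ : ∃ i, I = 2 ^ i := IsPGroup.iff_card.1 ((hS.to_quotient W).to_subgroup _)
  obtain ⟨j, hj⟩ : ∃ j, Nat.card B = 2 ^ j := exists_two_pow hS B
  obtain ⟨k, hk⟩ : ∃ k, Nat.card (K ⊓ W : Subgroup S) = 2 ^ k := exists_two_pow hS _
  rw [hi] at hfull hI8 hI' ⊢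
  rw [hj] at hm hb16 ⊢
  rw [hk] at hm ⊢
  have hjk : j ≤ k + 2 := by
    rw [show 4 * 2 ^ k = 2 ^ (k + 2) by rw [pow_add]; ring] at hm
    exact (Nat.pow_le_pow_iff_right (by norm_num)).1 hm
  have hi3 : i ≤ 3 := (Nat.pow_le_pow_iff_right (by norm_num)).1 (hI8.trans (by norm_num : 8 ≤ 2 ^ 3))
  rcases Nat.lt_or_ge i 3 with hi2 | hi2
  · calc 2 ^ j * 2 ^ i ≤ 2 ^ (k + 2) * 2 ^ 2 :=
          Nat.mul_le_mul (Nat.pow_le_pow_right (by norm_num) hjk) (Nat.pow_le_pow_right (by norm_num) (by omega))
      _ ≤ _ := by rw [pow_add]; nlinarith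
  · have := hfull (by rw [show i = 3 by omega]; norm_num)
    calc 2 ^ j * 2 ^ i ≤ 2 ^ (k + 2) * 2 ^ 3 :=
          Nat.mul_le_mul (Nat.pow_le_pow_right (by norm_num) hjk) (Nat.pow_le_pow_right (by norm_num) hi3)
      _ ≤ _ := by rw [pow_add]; nlinarith

/-- The sectional rank is that of a Sylow subgroup. -/
theorem sectional_of_sylow {G : Type*} [Group G] [Finite G] (T : Sylow 2 G)
    (h : Cfsg.SectionalPRankLE 2 4 ↥(T : Subgroup G)) : Cfsg.SectionalPRankLE 2 4 G := by
  haveI := Fact.mk Nat.prime_two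
  exact CfsgLib.TwoRank.FourCent.sectional_of_sylow T h

end CfsgLib.FixityFour
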