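import Cfsg.Agent.Lib.FourMove.Basic
import Cfsg.Agent.Lib.TwoRank.Basic

/-!
A `2`-group with a normal elementary abelian subgroup of order eight and a four-group of
transvections on it without further fixed points has sectional rank at most four
(`notes/s3365_plan.md`, case (L)).
-/

set_option autoImplicit false
set_option linter.style.haveILetI false
set_option linter.unusedSectionVars false

namespace CfsgLib.FixityFour

open CfsgLib.TwoRank (SqLE sectional_of_sqLE card_le_split)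

variable {S : Type*} [Group S]

theorem sq_one_comm {X : Subgroup S} (h : ∀ x ∈ X, x ^ 2 = 1) {a b : S} (ha : a ∈ X) (hb : b ∈ X) :
    Commute a b := by
  have inv : ∀ z ∈ X, z⁻¹ = z := fun z hz => inv_eq_of_mul_eq_one_right (by rw [← pow_two, h z hz])
  unfold Commute SemiconjBy
  rw [← inv _ (mul_mem ha hb), mul_inv_rev, inv a ha, inv b hb]

theorem mem_centralizer' {X : Subgroup S} {g : S} :
    g ∈ Subgroup.centralizer (X : Set S) ↔ ∀ x ∈ X, Commute x g := Subgroup.mem_centralizer_iff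

/-- The conjugation action on an elementary abelian normal subgroup of order eight. -/
theorem index_centralizer_le_eight [Finite S] (hS : IsPGroup 2 S) (E : Subgroup S) [E.Normal]
    (hE8 : Nat.card E = 8) (hE2 : ∀ x ∈ E, x ^ 2 = 1) :
    (Subgroup.centralizer (E : Set S)).index ≤ 8 := by
  classical
  haveI : Fact (Nat.Prime 2) := ⟨Nat.prime_two⟩
  letI : CommGroup E :=
    { (inferInstance : Group E) with mul_comm := fun a b => Subtype.ext (sq_one_comm hE2 a.2 b.2) }
  let c : S →* MulAut E := MulAut.conjNormal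
  have hker : c.ker = Subgroup.centralizer (E : Set S) := by
    ext g
    rw [MonoidHom.mem_ker, mem_centralizer']
    constructor
    · intro h x hx
      have h' := congrArg Subtype.val (DFunLike.congr_fun h ⟨x, hx⟩)
      simp only [c, MulAut.conjNormal_apply, MulAut.one_apply] at h'
      exact (mul_inv_eq_iff_eq_mul.mp h').symm
    · intro h
      ext x
      simp only [c, MulAut.conjNormal_apply, MulAut.one_apply]
      rw [← (h x x.2).eq, mul_inv_cancel_right]
  have hd : Nat.card c.range ∣ 168 := by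
    refine (Subgroup.card_subgroup_dvd_card _).trans ?_
    rw [CfsgLib.FourMove.card_mulAut (W := E) (n := 3)
      (fun w => Subtype.ext (hE2 w w.2)) (by rw [hE8]; norm_num)]
    decide
  rw [← hker, Subgroup.index_ker]
  obtain ⟨k, hk⟩ := (hS.of_surjective c.rangeRestrict c.rangeRestrict_surjective).exists_card_eq
  rw [hk] at hd ⊢
  by_contra h
  push Not at h
  have h4 : 4 ≤ k := by
    by_contra h'
    push Not at h'
    have := Nat.pow_le_pow_right (show 0 < 2 by norm_num) (Nat.lt_succ_iff.mp h')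
    omega
  exact absurd ((pow_dvd_pow 2 h4).trans hd) (by decide)

variable [Finite S]

theorem card_inf_ker_mul {X : Subgroup S} {H : Type*} [Group H] (f : X →* H) :
    Nat.card f.ker * Nat.card f.range = Nat.card X := by
  rw [← Subgroup.index_ker, Subgroup.card_mul_index]

/-- The commutator with `r` modulo a central subgroup. -/
theorem card_comm_into_le {D V : Subgroup S} (hVD : V ≤ D) {r : S}
    (hV : ∀ v ∈ V, ∀ d ∈ D, Commute v d) (hfix : ∀ d ∈ D, Commute r d → d ∈ V)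
    {G₁ : Subgroup S} (hG : G₁ ≤ D) (hc : ∀ d ∈ G₁, r * d * r⁻¹ * d⁻¹ ∈ V) :
    Nat.card G₁ ≤ Nat.card V * Nat.card V := by
  let f : G₁ →* V := MonoidHom.mk' (fun d => ⟨r * d * r⁻¹ * (d : S)⁻¹, hc d d.2⟩) fun a b =>
    Subtype.ext (by
      show r * ((a : S) * b) * r⁻¹ * ((a : S) * b)⁻¹ = r * a * r⁻¹ * (a : S)⁻¹ * (r * b * r⁻¹ * (b : S)⁻¹)
      have h := hV _ (hc b b.2) a (hG a.2)
      calc r * ((a : S) * b) * r⁻¹ * ((a : S) * b)⁻¹
          = r * a * r⁻¹ * ((r * b * r⁻¹ * (b : S)⁻¹) * (a : S)⁻¹) := by group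
        _ = r * a * r⁻¹ * ((a : S)⁻¹ * (r * b * r⁻¹ * (b : S)⁻¹)) := by rw [h.inv_right.eq]
        _ = _ := by group)
  have hk : Nat.card f.ker ≤ Nat.card V := by
    refine Nat.card_le_card_of_injective (fun d => ⟨((d : G₁) : S), hfix _ (hG (d : G₁).2) ?_⟩) ?_
    · exact mul_inv_eq_iff_eq_mul.mp (mul_inv_eq_one.mp (congrArg Subtype.val d.2))
    · intro a b e
      exact Subtype.ext (Subtype.ext (congrArg (fun z : V => (z : S)) e))
  have hr : Nat.card f.range ≤ Nat.card V := Subgroup.card_le_card_group _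
  rw [← card_inf_ker_mul f]
  exact Nat.mul_le_mul hk hr

/-- The elements of `D` whose commutators with `r` lie in a central subgroup `V`. -/
def commInto (D V : Subgroup S) (hVD : V ≤ D) (hV : ∀ v ∈ V, ∀ d ∈ D, Commute v d) (r : S) : Subgroup S where
  carrier := {d | d ∈ D ∧ r * d * r⁻¹ * d⁻¹ ∈ V}
  one_mem' := ⟨one_mem _, by simp⟩
  mul_mem' := fun {a b} ha hb => ⟨mul_mem ha.1 hb.1, by
    rw [show r * (a * b) * r⁻¹ * (a * b)⁻¹ = r * a * r⁻¹ * ((r * b * r⁻¹ * b⁻¹) * a⁻¹) by group,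
      (hV _ hb.2 a ha.1).inv_right.eq, ← mul_assoc]
    exact mul_mem ha.2 hb.2⟩
  inv_mem' := fun {a} ha => ⟨inv_mem ha.1, by
    have h := (hV _ (inv_mem ha.2) a ha.1).inv_right
    rw [show r * a⁻¹ * r⁻¹ * a⁻¹⁻¹ = a⁻¹ * (r * a * r⁻¹ * a⁻¹)⁻¹ * a by group, ← h.eq,
      inv_mul_cancel_right]
    exact inv_mem ha.2⟩

/-- The statement of case (L). -/
theorem sectional_of_transvection (hS : IsPGroup 2 S) (E : Subgroup S) [hEn : E.Normal]
    (hE8 : Nat.card E = 8) (hE2 : ∀ x ∈ E, x ^ 2 = 1) (R : Subgroup S) (hR : Nat.card R = 4)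
    (hR2 : ∀ r ∈ R, r ^ 2 = 1)
    (hV4 : Nat.card ↥(E ⊓ Subgroup.centralizer (R : Set S)) = 4)
    (hCD : ∀ r ∈ R, r ≠ 1 → Subgroup.centralizer (E : Set S) ⊓ Subgroup.centralizer ({r} : Set S) ≤
      E ⊓ Subgroup.centralizer (R : Set S)) :
    Cfsg.SectionalPRankLE 2 4 S := by
  classical
  haveI : Fact (Nat.Prime 2) := ⟨Nat.prime_two⟩
  set V := E ⊓ Subgroup.centralizer (R : Set S) with hVdef
  set D := Subgroup.centralizer (E : Set S) with hDdef
  have hED : E ≤ D := fun x hx => mem_centralizer'.mpr fun y hy => sq_one_comm hE2 hy hx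
  have hVE : V ≤ E := inf_le_left
  have hVD : V ≤ D := hVE.trans hED
  have hEDc : ∀ a ∈ E, ∀ d ∈ D, Commute a d := fun a ha d hd => mem_centralizer'.mp hd a ha
  have hVc : ∀ v ∈ V, ∀ d ∈ D, Commute v d := fun v hv => hEDc v hv.1
  have hVR : ∀ v ∈ V, ∀ r ∈ R, Commute r v := fun v hv r hr => mem_centralizer'.mp hv.2 r hr
  haveI hDn : D.Normal := by rw [hDdef]; infer_instance
  have hfix : ∀ r ∈ R, r ≠ 1 → ∀ d ∈ D, Commute r d → d ∈ V := fun r hr h1 d hd h =>
    hCD r hr h1 ⟨hd, Subgroup.mem_centralizer_singleton_iff.mpr h.symm.eq⟩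
  have hE2i : ∀ z ∈ E, z⁻¹ = z := fun z hz => inv_eq_of_mul_eq_one_right (by rw [← pow_two, hE2 z hz])
  have hEidx : ∀ a ∈ E, ∀ b ∈ E, a ∉ V → b ∉ V → a * b ∈ V := by
    intro a ha b hb haV hbV
    have hi : (V.subgroupOf E).index = 2 := by
      have h := (V.subgroupOf E).card_mul_index
      rw [Nat.card_congr (Subgroup.subgroupOfEquivOfLe hVE).toEquiv, hV4, hE8] at h
      omega
    have := (Subgroup.mul_mem_iff_of_index_two hi (a := ⟨a, ha⟩) (b := ⟨b, hb⟩)).mpr
      (iff_of_false (fun h => haV (Subgroup.mem_subgroupOf.mp h)) (fun h => hbV (Subgroup.mem_subgroupOf.mp h)))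
    exact Subgroup.mem_subgroupOf.mp this
  obtain ⟨e, he, heV⟩ : ∃ e ∈ E, e ∉ V := by
    by_contra h
    push Not at h
    have := Subgroup.card_le_of_le (show E ≤ V from h)
    rw [hV4, hE8] at this
    omega
  have hRD : ∀ r ∈ R, r ∈ D → r = 1 := fun r hr hrD => by
    by_contra h1
    exact heV (hfix r hr h1 e (hED he) (hEDc e he r hrD).symm)
  set α : S → S := fun r => r * e * r⁻¹ * e⁻¹ with hα
  have hαV : ∀ r ∈ R, α r ∈ V := fun r hr => by
    have hre : r * e * r⁻¹ ∈ E := hEn.conj_mem e he r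
    refine hEidx _ hre _ (inv_mem he) (fun h => heV ?_) fun h => heV ((Subgroup.inv_mem_iff _).mp h)
    have h2 : Commute r (r * e * r⁻¹) := hVR _ h r hr
    rw [← show r⁻¹ * (r * e * r⁻¹) * r = e by group, mul_assoc r⁻¹, ← h2.eq, inv_mul_cancel_left]
    exact h
  have hα1 : ∀ r ∈ R, α r = 1 → r = 1 := fun r hr h => by
    by_contra h1
    exact heV (hfix r hr h1 e (hED he) (mul_inv_eq_iff_eq_mul.mp (mul_inv_eq_one.mp h)))
  -- the map `R → V` is onto
  have hαsurj : ∀ v ∈ V, ∃ r ∈ R, α r = v := by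
    let f : R →* V := MonoidHom.mk' (fun r => ⟨α r, hαV r r.2⟩) fun r s => Subtype.ext (by
      show α ((r : S) * s) = α r * α s
      have h := (hVR _ (hαV s s.2) r r.2).eq
      have h' := (sq_one_comm hE2 (hαV r r.2).1 (hαV s s.2).1).eq
      calc α ((r : S) * s) = r * α s * (r : S)⁻¹ * α r := by simp only [hα]; group
        _ = α s * α r := by rw [h, mul_inv_cancel_right]
        _ = α r * α s := h'.symm)
    have hinj : Function.Injective f := (injective_iff_map_eq_one f).mpr fun r h =>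
      Subtype.ext (hα1 r r.2 (congrArg Subtype.val h))
    have hb := (Nat.bijective_iff_injective_and_card f).mpr ⟨hinj, by rw [hR, hV4]⟩
    intro v hv
    obtain ⟨r, hr⟩ := hb.2 ⟨v, hv⟩
    exact ⟨r, r.2, congrArg Subtype.val hr⟩
  -- `D` consists of elements with all commutators in `V`
  set F₁ : Subgroup S := ⨅ r : R, commInto D V hVD hVc r with hF₁
  have memF : ∀ {d : S}, d ∈ F₁ ↔ ∀ r ∈ R, d ∈ D ∧ r * d * r⁻¹ * d⁻¹ ∈ V := fun {d} => by
    rw [hF₁, Subgroup.mem_iInf]
    exact ⟨fun h r hr => h ⟨r, hr⟩, fun h r => h r r.2⟩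
  have hFD : F₁ ≤ D := fun d hd => (memF.mp hd 1 (one_mem _)).1
  have hEF : E ≤ F₁ := fun x hx => memF.mpr fun r hr => ⟨hED hx, by
    by_cases hxV : x ∈ V
    · rw [(hVR x hxV r hr).eq, mul_inv_cancel_right, mul_inv_cancel]
      exact one_mem _
    · have hxe : x⁻¹ * e ∈ V := hEidx _ (inv_mem hx) _ he (fun h => hxV ((Subgroup.inv_mem_iff _).mp h)) heV
      have h := hVR _ hxe r hr
      have h2 : r * x * r⁻¹ * x⁻¹ = α r := by
        have : x = e * (x⁻¹ * e)⁻¹ := by group
        rw [this]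
        simp only [hα]
        calc r * (e * (x⁻¹ * e)⁻¹) * r⁻¹ * (e * (x⁻¹ * e)⁻¹)⁻¹
            = r * e * ((x⁻¹ * e)⁻¹ * r⁻¹) * (x⁻¹ * e) * e⁻¹ := by group
          _ = r * e * (r⁻¹ * (x⁻¹ * e)⁻¹) * (x⁻¹ * e) * e⁻¹ := by rw [h.symm.inv_inv.eq]
          _ = _ := by group
      rw [h2]
      exact hαV r hr⟩
  have hRF : ∀ r ∈ R, ∀ d ∈ F₁, r * d * r⁻¹ ∈ F₁ := fun r hr d hd => by
    have h := mul_mem (hEF (memF.mp hd r hr).2.1) hd
    rwa [inv_mul_cancel_right] at h
  have hG16 : ∀ r ∈ R, r ≠ 1 → Nat.card (commInto D V hVD hVc r) ≤ 16 := fun r hr h1 => by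
    have h := card_comm_into_le hVD hVc (hfix r hr h1) (G₁ := commInto D V hVD hVc r)
      (fun d hd => hd.1) fun d hd => hd.2
    rwa [hV4] at h
  obtain ⟨r₁, hr₁, hr₁1, r₂, hr₂, hr₂1, hr₁₂⟩ : ∃ r₁ ∈ R, r₁ ≠ 1 ∧ ∃ r₂ ∈ R, r₂ ≠ 1 ∧ r₁ * r₂ ≠ 1 := by
    obtain ⟨⟨a, ha⟩, ha1⟩ : ∃ a : R, a ≠ 1 := by
      haveI : Nontrivial R := Finite.one_lt_card_iff_nontrivial.mp (by omega)
      exact exists_ne 1
    refine ⟨a, ha, fun h => ha1 (Subtype.ext h), ?_⟩
    by_contra h
    push Not at h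
    have hsub : ∀ b : R, b = 1 ∨ b = ⟨a, ha⟩⁻¹ := fun b => by
      by_cases hb : (b : S) = 1
      · exact Or.inl (Subtype.ext hb)
      · exact Or.inr (eq_inv_of_mul_eq_one_right (Subtype.ext (h b b.2 hb)))
    have : Function.Surjective (![1, ⟨a, ha⟩⁻¹] : Fin 2 → R) := fun b => by
      rcases hsub b with e | e
      · exact ⟨0, e.symm⟩
      · exact ⟨1, e.symm⟩
    have h2 := Nat.card_le_card_of_surjective _ this
    rw [Nat.card_fin, hR] at h2
    omega
  have hF16 : Nat.card F₁ ≤ 16 :=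
    (Subgroup.card_le_of_le (show F₁ ≤ commInto D V hVD hVc r₁ from fun d hd => memF.mp hd r₁ hr₁)).trans
      (hG16 r₁ hr₁ hr₁1)
  have hDF : D = F₁ := by
    by_contra hne
    -- an element outside `F₁` with all commutators in `F₁`
    obtain ⟨y, hyD, hyF, hyc⟩ : ∃ y ∈ D, y ∉ F₁ ∧ ∀ r ∈ R, r * y * r⁻¹ * y⁻¹ ∈ F₁ := by
      have hRn : R ≤ Subgroup.normalizer (F₁ : Set S) := fun r hr =>
        Subgroup.mem_normalizer_fintype fun x hx => hRF r hr x hx
      have memT : ∀ t ∈ F₁ ⊔ R, ∃ f ∈ F₁, ∃ r ∈ R, t = f * r := fun t ht => by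
        have ht' : t ∈ ((F₁ ⊔ R : Subgroup S) : Set S) := ht
        rw [Subgroup.coe_mul_of_right_le_normalizer_left _ _ hRn] at ht'
        obtain ⟨f, hf, r, hr, rfl⟩ := ht'
        exact ⟨f, hf, r, hr, rfl⟩
      have hlt : F₁ ⊔ R < D ⊔ R := by
        refine lt_of_le_of_ne (sup_le_sup_right hFD R) fun h => hne (le_antisymm ?_ hFD)
        intro d hd
        obtain ⟨f, hf, r, hr, rfl⟩ := memT d (h ▸ Subgroup.mem_sup_left hd)
        have h1 := hRD r hr (by simpa using mul_mem (inv_mem (hFD hf)) hd)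
        rwa [h1, mul_one]
      haveI : Group.IsNilpotent ↥(D ⊔ R) := (hS.to_subgroup _).isNilpotent
      have hn := Group.normalizerCondition_of_isNilpotent ((F₁ ⊔ R).subgroupOf (D ⊔ R))
        (lt_of_le_of_ne le_top fun h => hlt.ne (le_antisymm hlt.le (Subgroup.subgroupOf_eq_top.mp h)))
      obtain ⟨⟨z, hz⟩, hzn, hzT⟩ := SetLike.exists_of_lt hn
      have hz' : z ∈ ((D ⊔ R : Subgroup S) : Set S) := hz
      rw [Subgroup.normal_mul] at hz'
      obtain ⟨d, hd, r, hr, rfl⟩ := hz'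
      refine ⟨d, hd, fun h => hzT (Subgroup.mem_subgroupOf.mpr
        (mul_mem (Subgroup.mem_sup_left h) (Subgroup.mem_sup_right hr))), fun s hs => ?_⟩
      have hle : F₁ ⊔ R ≤ D ⊔ R := sup_le_sup_right hFD R
      have hsr : r⁻¹ * s * r ∈ F₁ ⊔ R := Subgroup.mem_sup_right (mul_mem (mul_mem (inv_mem hr) hs) hr)
      have h1 := (Subgroup.mem_normalizer_iff.mp hzn ⟨r⁻¹ * s * r, hle hsr⟩).mp (Subgroup.mem_subgroupOf.mpr hsr)
      rw [Subgroup.mem_subgroupOf] at h1
      simp only [Subgroup.coe_mul, InvMemClass.coe_inv] at h1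
      rw [show d * r * (r⁻¹ * s * r) * (d * r)⁻¹ = d * s * d⁻¹ by group] at h1
      obtain ⟨f, hf, r', hr', e'⟩ := memT _ (mul_mem h1 (Subgroup.mem_sup_right (inv_mem hs)))
      have h2 : d * s * d⁻¹ * s⁻¹ ∈ D := by
        rw [show d * s * d⁻¹ * s⁻¹ = d * (s * d⁻¹ * s⁻¹) by group]
        exact mul_mem hd (hDn.conj_mem _ (inv_mem hd) s)
      have h3 : r' = 1 := hRD r' hr' (by
        have h' := mul_mem (inv_mem (hFD hf)) h2
        rwa [e', inv_mul_cancel_left] at h')
      rw [h3, mul_one] at e'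
      rw [show s * d * s⁻¹ * d⁻¹ = (d * s * d⁻¹ * s⁻¹)⁻¹ by group, e']
      exact inv_mem hf
    set c : S → S := fun r => r * y * r⁻¹ * y⁻¹ with hc
    have hcm : ∀ r s : S, c (r * s) = r * c s * r⁻¹ * c r := fun r s => by simp only [hc]; group
    -- a commutator in `E` lies in `V`
    have hEV : ∀ r ∈ R, c r ∈ E → c r ∈ V := by
      intro r hr hE
      by_cases h1 : r = 1
      · rw [h1, show c (1 : S) = 1 by simp [hc]]; exact one_mem _
      refine hfix r hr h1 _ (hED hE) ?_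
      have h := hcm r r
      rw [show r * r = 1 by rw [← pow_two, hR2 r hr], show c (1 : S) = 1 by simp [hc]] at h
      have h2 : r * c r * r⁻¹ = c r := by
        rw [eq_inv_of_mul_eq_one_left h.symm, hE2i _ hE]
      exact mul_inv_eq_iff_eq_mul.mp h2
    have hinE : ∀ r ∈ R, r ≠ 1 → c r ∉ E := by
      intro r hr h1 hE
      have hle : F₁ ⊔ Subgroup.zpowers y ≤ commInto D V hVD hVc r :=
        sup_le (fun d hd => memF.mp hd r hr) (Subgroup.zpowers_le.mpr ⟨hyD, hEV r hr hE⟩)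
      have h16 := (Subgroup.card_le_of_le hle).trans (hG16 r hr h1)
      have hlt : F₁ < F₁ ⊔ Subgroup.zpowers y :=
        lt_of_le_of_ne le_sup_left fun h => hyF (h ▸ Subgroup.mem_sup_right (Subgroup.mem_zpowers y))
      have h8 : Nat.card F₁ ≤ 8 := by
        have h2' : Nat.card F₁ < Nat.card ↥(F₁ ⊔ Subgroup.zpowers y) := by
          by_contra h'
          push Not at h'
          exact hlt.ne (Subgroup.eq_of_le_of_card_ge hlt.le h')
        have := CfsgLib.TwoRank.le_of_lt_two_mul hS F₁ ⊥ 3 (by rw [Subgroup.card_bot]; omega)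
        rwa [Subgroup.card_bot, mul_one] at this
      have hFE : F₁ = E := (Subgroup.eq_of_le_of_card_ge hEF (by rw [hE8]; exact h8)).symm
      exact hyF (memF.mpr fun s hs => ⟨hyD, hEV s hs (hFE ▸ hyc s hs)⟩)
    have h1 := hinE r₁ hr₁ hr₁1
    have hidx : (E.subgroupOf F₁).index = 2 := by
      have h := (E.subgroupOf F₁).card_mul_index
      rw [Nat.card_congr (Subgroup.subgroupOfEquivOfLe hEF).toEquiv, hE8] at h
      have hne1 : (E.subgroupOf F₁).index ≠ 1 := fun h' =>
        h1 (Subgroup.subgroupOf_eq_top.mp (Subgroup.index_eq_one.mp h') (hyc r₁ hr₁))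
      have := (E.subgroupOf F₁).index_ne_zero_of_finite
      omega
    refine hinE _ (mul_mem hr₁ hr₂) hr₁₂ ?_
    rw [hcm]
    have hout : r₁ * c r₂ * r₁⁻¹ ∉ E := fun h => hinE r₂ hr₂ hr₂1 (by
      have h' := hEn.conj_mem _ h r₁⁻¹
      simpa [mul_assoc] using h')
    exact Subgroup.mem_subgroupOf.mp ((Subgroup.mul_mem_iff_of_index_two hidx
      (a := ⟨_, hRF r₁ hr₁ _ (hyc r₂ hr₂)⟩) (b := ⟨_, hyc r₁ hr₁⟩)).mpr
        (iff_of_false (fun h => hout (Subgroup.mem_subgroupOf.mp h)) (fun h => h1 (Subgroup.mem_subgroupOf.mp h))))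
  have hcommD : ∀ r ∈ R, ∀ d ∈ D, r * d * r⁻¹ * d⁻¹ ∈ V := fun r hr d hd => (memF.mp (hDF ▸ hd) r hr).2
  have hD16 : Nat.card D ≤ 16 := hDF ▸ hF16
  have hDab : ∀ a ∈ D, ∀ b ∈ D, Commute a b := by
    intro a ha b hb
    by_cases haE : a ∈ E
    · exact hEDc a haE b hb
    by_cases hbE : b ∈ E
    · exact (hEDc b hbE a ha).symm
    have hidx : (E.subgroupOf D).index = 2 := by
      have h := (E.subgroupOf D).card_mul_index
      rw [Nat.card_congr (Subgroup.subgroupOfEquivOfLe hED).toEquiv, hE8] at h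
      have hne1 : (E.subgroupOf D).index ≠ 1 := fun h' =>
        haE (Subgroup.subgroupOf_eq_top.mp (Subgroup.index_eq_one.mp h') ha)
      have := (E.subgroupOf D).index_ne_zero_of_finite
      omega
    have hab : a⁻¹ * b ∈ E := Subgroup.mem_subgroupOf.mp ((Subgroup.mul_mem_iff_of_index_two hidx
      (a := ⟨a⁻¹, inv_mem ha⟩) (b := ⟨b, hb⟩)).mpr
        (iff_of_false (fun h => haE ((Subgroup.inv_mem_iff _).mp (Subgroup.mem_subgroupOf.mp h)))
          (fun h => hbE (Subgroup.mem_subgroupOf.mp h))))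
    have := (Commute.refl a).mul_right (hEDc _ hab a ha).symm
    rwa [mul_inv_cancel_left] at this
  have hcomme : ∀ w ∈ E, w ∉ V → ∀ r ∈ R, r * w * r⁻¹ * w⁻¹ = α r := by
    intro w hw hwV r hr
    have hwe : w⁻¹ * e ∈ V :=
      hEidx _ (inv_mem hw) _ he (fun h => hwV ((Subgroup.inv_mem_iff _).mp h)) heV
    have h := hVR _ hwe r hr
    have hw' : w = e * (w⁻¹ * e)⁻¹ := by group
    rw [hw']
    simp only [hα]
    calc r * (e * (w⁻¹ * e)⁻¹) * r⁻¹ * (e * (w⁻¹ * e)⁻¹)⁻¹
        = r * e * ((w⁻¹ * e)⁻¹ * r⁻¹) * (w⁻¹ * e) * e⁻¹ := by group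
      _ = r * e * (r⁻¹ * (w⁻¹ * e)⁻¹) * (w⁻¹ * e) * e⁻¹ := by rw [h.symm.inv_inv.eq]
      _ = _ := by group
  -- `U = D R` is the centraliser of `V`
  set U := Subgroup.centralizer (V : Set S) with hU
  have hDU : D ≤ U := fun d hd => mem_centralizer'.mpr fun v hv => hVc v hv d hd
  have hRU : R ≤ U := fun r hr => mem_centralizer'.mpr fun v hv => (hVR v hv r hr).symm
  have hdec : ∀ x ∈ U, ∃ r ∈ R, r⁻¹ * x ∈ D := by
    intro x hx
    have hxe : x * e * x⁻¹ ∉ V := fun h => heV (by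
      have h' := mem_centralizer'.mp (inv_mem hx) _ h
      rw [← show x⁻¹ * (x * e * x⁻¹) * x = e by group, ← h'.eq, inv_mul_cancel_right]
      exact h)
    obtain ⟨r, hr, hre⟩ := hαsurj _ (hEidx _ (hEn.conj_mem e he x) _ (inv_mem he) hxe
      fun h => heV ((Subgroup.inv_mem_iff _).mp h))
    have hre' : r * e * r⁻¹ = x * e * x⁻¹ := mul_right_cancel hre
    refine ⟨r, hr, mem_centralizer'.mpr fun w hw => ?_⟩
    have hce : Commute e (r⁻¹ * x) := by
      unfold Commute SemiconjBy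
      calc e * (r⁻¹ * x) = r⁻¹ * (r * e * r⁻¹) * x := by group
        _ = r⁻¹ * x * e := by rw [hre']; group
    have hcv : ∀ v ∈ V, Commute v (r⁻¹ * x) := fun v hv =>
      (hVR v hv r hr).inv_left.symm.mul_right (mem_centralizer'.mp hx v hv)
    by_cases hwV : w ∈ V
    · exact hcv w hwV
    · have := hce.mul_left (hcv _ (hEidx _ (inv_mem he) _ hw
        (fun h => heV ((Subgroup.inv_mem_iff _).mp h)) hwV))
      rwa [mul_inv_cancel_left] at this
  have hS128 : Nat.card S ≤ 128 := by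
    rw [← D.card_mul_index]
    exact le_trans (Nat.mul_le_mul hD16 (index_centralizer_le_eight hS E hE8 hE2)) (by norm_num)
  have hUidx : U.index ≤ 2 := by
    have h1 := Subgroup.relIndex_mul_index hDU
    have h2 : 4 ≤ D.relIndex U := by
      let g : R → ↥U ⧸ D.subgroupOf U := fun r => QuotientGroup.mk ⟨r, hRU r.2⟩
      have hg : Function.Injective g := fun a b h => by
        have h' := Subgroup.mem_subgroupOf.mp (QuotientGroup.eq.mp h)
        exact Subtype.ext (inv_mul_eq_one.mp (hRD _ (mul_mem (inv_mem a.2) b.2) h'))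
      have := Nat.card_le_card_of_injective g hg
      rwa [hR] at this
    have h3 : D.index ≤ 8 := index_centralizer_le_eight hS E hE8 hE2
    rw [← h1] at h3
    nlinarith
  haveI hUn : U.Normal := by
    rcases Nat.lt_or_ge U.index 2 with h | h
    · have := U.index_ne_zero_of_finite
      rw [Subgroup.index_eq_one.mp (show U.index = 1 by omega)]
      infer_instance
    · exact Subgroup.normal_of_index_eq_two (by omega)
  refine sectional_of_sqLE fun X K hXK => CfsgLib.TwoRank.le_of_lt_two_mul hS X K 4 ?_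
  set B := X ⊓ U with hB
  have hXB : Nat.card X ≤ 2 * Nat.card B := by
    rw [CfsgLib.TwoRank.card_split (QuotientGroup.mk' U) X, QuotientGroup.ker_mk', mul_comm]
    refine Nat.mul_le_mul_right _ ((Subgroup.card_le_card_group _).trans ?_)
    exact hUidx
  have hVU : V ≤ U := hVD.trans hDU
  have hB'U : B ⊔ V ≤ U := sup_le inf_le_right hVU
  have hVB : B ≤ Subgroup.normalizer (V : Set S) := fun b hb => Subgroup.mem_normalizer_fintype fun v hv => by
    rw [((mem_centralizer'.mp hb.2 v hv).symm).eq, mul_inv_cancel_right]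
    exact hv
  have hcentral : ∀ v ∈ V, ∀ g ∈ U, Commute v g := fun v hv g hg => mem_centralizer'.mp hg v hv
  have hcommK : ∀ g ∈ B ⊔ V, ∀ g' ∈ B ⊔ V, g * g' * g⁻¹ * g'⁻¹ ∈ K := by
    have dec : ∀ g ∈ B ⊔ V, ∃ b ∈ B, ∃ v ∈ V, g = b * v := fun g hg => by
      have hg' : g ∈ ((B ⊔ V : Subgroup S) : Set S) := hg
      rw [Subgroup.coe_mul_of_left_le_normalizer_right _ _ hVB] at hg'
      obtain ⟨b, hb, v, hv, rfl⟩ := hg'
      exact ⟨b, hb, v, hv, rfl⟩
    intro g hg g' hg'
    obtain ⟨b, hb, v, hv, rfl⟩ := dec g hg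
    obtain ⟨b', hb', v', hv', rfl⟩ := dec g' hg'
    have e : b * v * (b' * v') * (b * v)⁻¹ * (b' * v')⁻¹ = b * b' * b⁻¹ * b'⁻¹ := by
      calc b * v * (b' * v') * (b * v)⁻¹ * (b' * v')⁻¹
          = b * (v * (b' * v')) * v⁻¹ * b⁻¹ * v'⁻¹ * b'⁻¹ := by group
        _ = b * b' * (v' * b⁻¹) * v'⁻¹ * b'⁻¹ := by
            rw [(hcentral v hv _ (mul_mem hb'.2 (hVU hv'))).eq]; group
        _ = _ := by rw [(hcentral v' hv' _ (inv_mem hb.2)).eq]; group
    rw [e]
    exact hXK.comm_mem hb.1 hb'.1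
  by_cases h32 : 32 ≤ Nat.card ↥(B ⊔ V)
  · -- `V ≤ K`
    have hsplit := CfsgLib.TwoRank.card_split (QuotientGroup.mk' D) (B ⊔ V)
    rw [QuotientGroup.ker_mk'] at hsplit
    have hmapR : (B ⊔ V).map (QuotientGroup.mk' D) ≤ R.map (QuotientGroup.mk' D) := by
      rintro _ ⟨x, hx, rfl⟩
      obtain ⟨r, hr, hrx⟩ := hdec x (hB'U hx)
      exact ⟨r, hr, QuotientGroup.eq.mpr hrx⟩
    have hmap4 : Nat.card ((B ⊔ V).map (QuotientGroup.mk' D)) ≤ 4 :=
      (Subgroup.card_le_of_le hmapR).trans ((Nat.le_of_dvd Nat.card_pos (R.card_map_dvd _)).trans hR.le)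
    have hD0 : Nat.card ↥((B ⊔ V) ⊓ D) ≤ 16 := (Subgroup.card_le_of_le inf_le_right).trans hD16
    obtain ⟨d₀, hd₀, hd₀V⟩ : ∃ d₀ ∈ (B ⊔ V) ⊓ D, d₀ ∉ V := by
      by_contra h
      push Not at h
      have h4 := Subgroup.card_le_of_le (show (B ⊔ V) ⊓ D ≤ V from h)
      rw [hV4] at h4
      nlinarith
    have hVK : V ≤ K := by
      intro v hv
      by_cases hfull : 4 ≤ Nat.card ((B ⊔ V).map (QuotientGroup.mk' D))
      · -- commutators with `d₀`
        let f : R →* V := MonoidHom.mk' (fun r => ⟨r * d₀ * (r : S)⁻¹ * d₀⁻¹, hcommD r r.2 d₀ hd₀.2⟩)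
          fun r s => Subtype.ext (by
            have hs := hcommD s s.2 d₀ hd₀.2
            have hr := hcommD r r.2 d₀ hd₀.2
            show (r : S) * s * d₀ * ((r : S) * s)⁻¹ * d₀⁻¹ = _ * _
            calc (r : S) * s * d₀ * ((r : S) * s)⁻¹ * d₀⁻¹
                = r * (s * d₀ * (s : S)⁻¹ * d₀⁻¹) * (r : S)⁻¹ * (r * d₀ * (r : S)⁻¹ * d₀⁻¹) := by group
              _ = (r * d₀ * (r : S)⁻¹ * d₀⁻¹) * (s * d₀ * (s : S)⁻¹ * d₀⁻¹) := by
                  rw [(hVR _ hs r r.2).eq, mul_inv_cancel_right, (sq_one_comm hE2 hs.1 hr.1).eq])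
        have hinj : Function.Injective f := (injective_iff_map_eq_one f).mpr fun r h => Subtype.ext (by
          by_contra h1
          exact hd₀V (hfix r r.2 h1 d₀ hd₀.2
            (mul_inv_eq_iff_eq_mul.mp (mul_inv_eq_one.mp (congrArg Subtype.val h)))))
        obtain ⟨⟨r, hr⟩, hrv⟩ :=
          ((Nat.bijective_iff_injective_and_card f).mpr ⟨hinj, by rw [hR, hV4]⟩).2 ⟨v, hv⟩
        have heq := Subgroup.eq_of_le_of_card_ge hmapR
          (((Nat.le_of_dvd Nat.card_pos (R.card_map_dvd _)).trans hR.le).trans hfull)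
        obtain ⟨g, hg, hgr⟩ : QuotientGroup.mk' D r ∈ (B ⊔ V).map (QuotientGroup.mk' D) :=
          heq ▸ Subgroup.mem_map_of_mem _ hr
        have hd : g⁻¹ * r ∈ D := QuotientGroup.eq.mp hgr
        have hK := hcommK g hg d₀ hd₀.1
        rwa [show g * d₀ * g⁻¹ * d₀⁻¹ = v from ?_] at hK
        have hdd : Commute (g⁻¹ * r)⁻¹ d₀ := hDab _ (inv_mem hd) _ hd₀.2
        calc g * d₀ * g⁻¹ * d₀⁻¹ = r * ((g⁻¹ * r)⁻¹ * d₀) * g⁻¹ * d₀⁻¹ := by group
          _ = r * d₀ * r⁻¹ * d₀⁻¹ := by rw [hdd.eq]; group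
          _ = v := congrArg Subtype.val hrv
      · push Not at hfull
        have hmap2 : Nat.card ((B ⊔ V).map (QuotientGroup.mk' D)) ≤ 2 := by
          obtain ⟨i, hi⟩ := ((hS.to_subgroup (B ⊔ V)).map (QuotientGroup.mk' D)).exists_card_eq
          rw [hi] at hfull ⊢
          have : i < 2 := (Nat.pow_lt_pow_iff_right (show 1 < 2 by norm_num)).mp (show 2 ^ i < 2 ^ 2 by simpa using hfull)
          interval_cases i <;> norm_num
        have hmap1 : 2 ≤ Nat.card ((B ⊔ V).map (QuotientGroup.mk' D)) := by nlinarith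
        have hDle : D ≤ B ⊔ V := by
          have h16 : 16 ≤ Nat.card ↥((B ⊔ V) ⊓ D) := by nlinarith
          rw [← Subgroup.eq_of_le_of_card_ge (inf_le_right : (B ⊔ V) ⊓ D ≤ D) (hD16.trans h16)]
          exact inf_le_left
        obtain ⟨g, hg, hgD⟩ : ∃ g ∈ B ⊔ V, g ∉ D := by
          by_contra h
          push Not at h
          have := Subgroup.card_le_of_le (show B ⊔ V ≤ D from h)
          omega
        obtain ⟨r, hr, hrg⟩ := hdec g (hB'U hg)
        have hr1 : r ≠ 1 := fun h => hgD (by rw [h, inv_one, one_mul] at hrg; exact hrg)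
        have hrB : r ∈ B ⊔ V := by
          have := mul_mem hg (inv_mem (hDle hrg))
          rwa [show g * (r⁻¹ * g)⁻¹ = r by group] at this
        let f : D →* V := MonoidHom.mk' (fun d => ⟨r * d * r⁻¹ * (d : S)⁻¹, hcommD r hr d d.2⟩)
          fun a b => Subtype.ext (by
            have hb := hcommD r hr b b.2
            show r * ((a : S) * b) * r⁻¹ * ((a : S) * b)⁻¹ = _ * _
            calc r * ((a : S) * b) * r⁻¹ * ((a : S) * b)⁻¹
                = r * a * r⁻¹ * ((r * b * r⁻¹ * (b : S)⁻¹) * (a : S)⁻¹) := by group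
              _ = r * a * r⁻¹ * ((a : S)⁻¹ * (r * b * r⁻¹ * (b : S)⁻¹)) := by
                  rw [(hVc _ hb a a.2).inv_right.eq]
              _ = _ := by group)
        have hk : Nat.card f.ker ≤ 4 := by
          rw [← hV4]
          refine Nat.card_le_card_of_injective (fun d => ⟨((d : D) : S), hfix r hr hr1 _ (d : D).2 ?_⟩) ?_
          · exact mul_inv_eq_iff_eq_mul.mp (mul_inv_eq_one.mp (congrArg Subtype.val d.2))
          · intro a b h
            exact Subtype.ext (Subtype.ext (congrArg (fun z : V => (z : S)) h))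
        have h16 : 16 ≤ Nat.card D := le_trans (by nlinarith) (Subgroup.card_le_of_le (inf_le_right : (B ⊔ V) ⊓ D ≤ D))
        have hrange : 4 ≤ Nat.card f.range := by
          have := card_inf_ker_mul f
          nlinarith
        have htop : f.range = ⊤ := Subgroup.eq_top_of_le_card _ (by rw [hV4]; exact hrange)
        obtain ⟨⟨d, hd⟩, hdv⟩ := MonoidHom.range_eq_top.mp htop ⟨v, hv⟩
        have hK := hcommK r hrB d (hDle hd)
        rwa [show r * d * r⁻¹ * d⁻¹ = v from congrArg Subtype.val hdv] at hK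
    have hK4 : 4 ≤ Nat.card K := hV4 ▸ Subgroup.card_le_of_le hVK
    have hX128 : Nat.card X ≤ 128 := (Subgroup.card_le_card_group _).trans hS128
    by_cases hXU : X = ⊤
    · have hUne : U ≠ ⊤ → 5 ≤ Nat.card K := by
        intro hne
        obtain ⟨x, -, hxU⟩ := SetLike.exists_of_lt (lt_top_iff_ne_top.mpr hne)
        obtain ⟨r, hr, hxr⟩ : ∃ r ∈ R, x * r * x⁻¹ * r⁻¹ ∉ D := by
          by_contra h
          push Not at h
          refine hxU (mem_centralizer'.mpr fun v hv => ?_)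
          obtain ⟨r, hr, rfl⟩ := hαsurj v hv
          have hw : x * e * x⁻¹ ∈ E := hEn.conj_mem e he x
          have key : ∀ s ∈ R, x * α s * x⁻¹ = s * (x * e * x⁻¹) * s⁻¹ * (x * e * x⁻¹)⁻¹ := by
            intro s hs
            have hd := h s hs
            calc x * α s * x⁻¹
                = (x * s * x⁻¹ * s⁻¹) * (s * (x * e * x⁻¹) * s⁻¹) * (x * s * x⁻¹ * s⁻¹)⁻¹ * (x * e * x⁻¹)⁻¹ := by
                  simp only [hα]; group
              _ = _ := by rw [← (hEDc _ (hEn.conj_mem _ hw s) _ hd).eq, mul_inv_cancel_right]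
          have hwV : x * e * x⁻¹ ∉ V := fun hwV => by
            have h1 := key r₁ hr₁
            rw [(hVR _ hwV r₁ hr₁).eq, mul_inv_cancel_right, mul_inv_cancel] at h1
            exact hr₁1 (hα1 r₁ hr₁ (conj_eq_one_iff.mp h1))
          have h1 := key r hr
          rw [hcomme _ hw hwV r hr] at h1
          exact (mul_inv_eq_iff_eq_mul.mp h1).symm
        by_contra h5
        have hKV := Subgroup.eq_of_le_of_card_ge hVK (by rw [hV4]; omega)
        exact hxr (hVD (hKV ▸ hXK.comm_mem (hXU ▸ Subgroup.mem_top x) (hXU ▸ Subgroup.mem_top r)))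
      by_cases hUt : U = ⊤
      · have h64 : Nat.card X ≤ 64 := by
          have h1 : D.index ≤ 4 := by
            have hsurj : Function.Surjective (fun r : R => (QuotientGroup.mk (r : S) : S ⧸ D)) := fun q => by
              obtain ⟨x, rfl⟩ := QuotientGroup.mk_surjective q
              obtain ⟨r, hr, hrx⟩ := hdec x (hUt ▸ Subgroup.mem_top x)
              exact ⟨⟨r, hr⟩, QuotientGroup.eq.mpr hrx⟩
            exact (Nat.card_le_card_of_surjective _ hsurj).trans hR.le
          refine (Subgroup.card_le_card_group _).trans ?_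
          rw [← D.card_mul_index]
          exact le_trans (Nat.mul_le_mul hD16 h1) (by norm_num)
        norm_num
        omega
      · have := hUne hUt
        norm_num
        omega
    · have h64 : Nat.card X ≤ 64 := by
        have hlt : Nat.card X < Nat.card S := by
          rcases lt_or_eq_of_le (Subgroup.card_le_card_group X) with h | h
          · exact h
          · exact absurd (Subgroup.eq_top_of_card_eq _ h) hXU
        have := CfsgLib.TwoRank.le_of_lt_two_mul hS X ⊥ 6 (by rw [Subgroup.card_bot]; omega)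
        simpa using this
      norm_num
      omega
  · -- `X` is small
    push Not at h32
    have hB'16 : Nat.card ↥(B ⊔ V) ≤ 16 := by
      have := CfsgLib.TwoRank.le_of_lt_two_mul hS (B ⊔ V) ⊥ 4 (by rw [Subgroup.card_bot]; norm_num; omega)
      simpa using this
    have hB16 : Nat.card B ≤ 16 := (Subgroup.card_le_of_le le_sup_left).trans hB'16
    rcases Nat.lt_or_ge 1 (Nat.card K) with hK | hK
    · norm_num; omega
    · have hK1 : K = ⊥ := Subgroup.card_eq_one.mp (le_antisymm hK Nat.card_pos)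
      have hX2 : ∀ z ∈ X, z ^ 2 = 1 := fun z hz => Subgroup.mem_bot.mp (hK1 ▸ (by rw [pow_two]; exact hXK.2 z hz))
      have hKpos : 0 < Nat.card K := Nat.card_pos
      by_contra hbig
      norm_num at hbig
      have hXU : ¬ X ≤ U := fun h => by
        have : B = X := inf_eq_left.mpr h
        rw [this] at hB16
        nlinarith
      obtain ⟨x, hxX, hxU⟩ := SetLike.not_le_iff_exists.mp hXU
      have hBV : B = B ⊔ V := Subgroup.eq_of_le_of_card_ge le_sup_left (hB'16.trans (by nlinarith))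
      exact hxU (mem_centralizer'.mpr fun v hv =>
        sq_one_comm hX2 ((hBV ▸ Subgroup.mem_sup_right hv : v ∈ B)).1 hxX)

end CfsgLib.FixityFour
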