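import Cfsg.Agent.Lib.FixityFour.Base
import Cfsg.Agent.Lib.FixityFour.Rank
import Cfsg.Agent.Lib.FixityFour.Transvection
import Cfsg.Agent.S1232

/-!
Fixity four, involutions fixing four points: general facts and the case of a fixing involution
away from the fixed points of the elementary normal subgroup (`notes/s3365_plan.md`, case (L)).
-/

set_option autoImplicit false
set_option linter.style.haveILetI false
set_option linter.unusedSectionVars false

namespace CfsgLib.FixityFour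

open MulAction

variable {G Ω : Type*} [Group G] [MulAction G Ω]

/-- An element commuting with an abelian group transitive on `F` acts like an element of it. -/
theorem exists_same_action {F : Set Ω} {H : Subgroup G} {p : Ω} (_hp : p ∈ F)
    (hcomm : ∀ a ∈ H, ∀ b ∈ H, Commute a b) (htr : ∀ q ∈ F, ∃ h ∈ H, h • p = q) {x : G}
    (hx : x • p ∈ F) (hc : ∀ h ∈ H, Commute x h) :
    ∃ h ∈ H, h • p = x • p ∧ h⁻¹ * x ∈ ptStab F := by
  obtain ⟨h, hh, hhp⟩ := htr _ hx
  refine ⟨h, hh, hhp, fun q hq => ?_⟩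
  obtain ⟨a, ha, rfl⟩ := htr q hq
  rw [mul_smul, ← mul_smul x a, (hc a ha).eq, mul_smul, ← hhp, ← mul_smul, ← mul_smul]
  rw [show h⁻¹ * a * h = a by rw [mul_assoc, (hcomm a ha h hh).eq, inv_mul_cancel_left]]

/-- A subgroup with orbit inside `X` and stabiliser inside `K`. -/
theorem card_le_orbit_mul [Finite G] [Finite Ω] {H K : Subgroup G} {d : Ω}
    (hK : ∀ h ∈ H, h • d = d → h ∈ K) :
    Nat.card H ≤ (orbit H d).ncard * Nat.card K := by
  rw [← (stabilizer H d).card_mul_index, MulAction.index_stabilizer, mul_comm]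
  refine Nat.mul_le_mul_left _ ?_
  refine Nat.card_le_card_of_injective
    (fun s => (⟨((s : H) : G), hK _ (s : H).2 s.2⟩ : K)) fun s t e => ?_
  exact Subtype.ext (Subtype.ext (congrArg (fun z : K => (z : G)) e))

theorem card_le_mul_of_subset [Finite G] [Finite Ω] {H K : Subgroup G} {d : Ω} {X : Set Ω}
    (hX : ∀ h ∈ H, h • d ∈ X) (hK : ∀ h ∈ H, h • d = d → h ∈ K) :
    Nat.card H ≤ Nat.card X * Nat.card K := by
  refine (card_le_orbit_mul hK).trans (Nat.mul_le_mul_right _ ?_)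
  rw [← Nat.card_coe_set_eq]
  exact Nat.card_mono (Set.toFinite _) (by rintro _ ⟨⟨h, hh⟩, rfl⟩; exact hX h hh)

theorem transitive_of_card [Finite G] [Finite Ω] {H K : Subgroup G} {d : Ω} {X : Set Ω}
    (hX : ∀ h ∈ H, h • d ∈ X) (hK : ∀ h ∈ H, h • d = d → h ∈ K)
    (hbig : Nat.card X * Nat.card K ≤ Nat.card H) : ∀ q ∈ X, ∃ h ∈ H, h • d = q := by
  have h1 := hbig.trans (card_le_orbit_mul hK)
  have h2 := Nat.le_of_mul_le_mul_right h1 Nat.card_pos
  rw [Nat.card_coe_set_eq] at h2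
  have h3 : orbit H d = X :=
    Set.eq_of_subset_of_ncard_le (by rintro _ ⟨⟨h, hh⟩, rfl⟩; exact hX h hh) h2 (Set.toFinite _)
  intro q hq
  obtain ⟨⟨h, hh⟩, e⟩ := h3.symm ▸ hq
  exact ⟨h, hh, e⟩

section Simple

variable [Finite G] [IsSimpleGroup G] [FaithfulSMul G Ω] [Finite Ω] (B : Fixity G Ω)
variable (S : Sylow 2 G)

include B

omit [IsSimpleGroup G] [FaithfulSMul G Ω] in
/-- Orbits of a Sylow `2`-subgroup have length divisible by four. -/
theorem four_dvd_index (h4n : 4 ∣ Nat.card Ω) (a : Ω) :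
    4 ∣ ((stabilizer G a).subgroupOf (S : Subgroup G)).index := by
  haveI : Fact (Nat.Prime 2) := ⟨Nat.prime_two⟩
  set T := (stabilizer G a).subgroupOf (S : Subgroup G) with hT
  obtain ⟨i, hi⟩ := S.isPGroup'.to_subgroup T |>.exists_card_eq
  obtain ⟨j, hj⟩ := S.isPGroup'.index T
  have hTa : Nat.card T ∣ Nat.card (stabilizer G a) :=
    Subgroup.card_dvd_of_injective
      (MonoidHom.mk' (fun t : T => (⟨((t : (S : Subgroup G)) : G), t.2⟩ : stabilizer G a)) fun _ _ => rfl)
      (fun s t e => Subtype.ext (Subtype.ext (congrArg (fun z : stabilizer G a => (z : G)) e)))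
  have hd : 2 ^ (i + 2) ∣ Nat.card G := by
    rw [← card_mul_stab B a, pow_add, ← hi, mul_comm]
    exact mul_dvd_mul h4n hTa
  have hS := Sylow.pow_dvd_card_of_pow_dvd_card S hd
  rw [← T.card_mul_index, hi, hj, ← pow_add] at hS
  have := (Nat.pow_dvd_pow_iff_le_right (show 1 < 2 by norm_num)).mp hS
  rw [hj]
  exact ⟨2 ^ (j - 2), by rw [show (4 : ℕ) = 2 ^ 2 from rfl, ← pow_add]; congr 1; omega⟩

omit [IsSimpleGroup G] [FaithfulSMul G Ω] in
/-- A Sylow `2`-subgroup is transitive on an invariant set of four points. -/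
theorem transitive_on (h4n : 4 ∣ Nat.card Ω) {F : Set Ω} (hF : Nat.card F = 4)
    (hS : (S : Subgroup G) ≤ setStab F) {p : Ω} (hp : p ∈ F) :
    ∀ q ∈ F, ∃ s ∈ (S : Subgroup G), s • p = q := by
  have hsub : orbit (S : Subgroup G) p ⊆ F := by
    rintro _ ⟨⟨s, hs⟩, rfl⟩
    exact (hS hs p).mpr hp
  have hne : ((stabilizer G p).subgroupOf (S : Subgroup G)).index ≠ 0 :=
    Subgroup.index_ne_zero_of_finite
  have h4 : F.ncard ≤ (orbit (S : Subgroup G) p).ncard := by
    rw [← MulAction.index_stabilizer, ← Nat.card_coe_set_eq, hF]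
    have he : stabilizer (S : Subgroup G) p = (stabilizer G p).subgroupOf (S : Subgroup G) := by
      ext; rfl
    rw [he]
    exact Nat.le_of_dvd (Nat.pos_of_ne_zero hne) (four_dvd_index B S h4n p)
  intro q hq
  obtain ⟨⟨s, hs⟩, e⟩ := (Set.eq_of_subset_of_ncard_le hsub h4 (Set.toFinite _)).symm ▸ hq
  exact ⟨s, hs, e⟩

omit [IsSimpleGroup G] [FaithfulSMul G Ω] B in
/-- A self-centralising elementary abelian subgroup of order eight. -/
theorem sectional_of_self_centralizing {A : Subgroup G} (hAS : A ≤ S) (hA8 : Nat.card A = 8)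
    (hA2 : ∀ x ∈ A, x ^ 2 = 1)
    (hC : ∀ c ∈ (S : Subgroup G), (∀ a ∈ A, Commute a c) → c ∈ A) :
    Cfsg.SectionalPRankLE 2 4 (S : Subgroup G) := by
  haveI : Fact (Nat.Prime 2) := ⟨Nat.prime_two⟩
  have h2 : ∀ x ∈ A.subgroupOf (S : Subgroup G), x ^ 2 = 1 := fun x hx =>
    Subtype.ext (by simpa using hA2 _ (Subgroup.mem_subgroupOf.mp hx))
  refine Cfsg.Agent.S1232.result S.isPGroup' (A.subgroupOf (S : Subgroup G)) ⟨?_, h2⟩
    ((Nat.card_congr (Subgroup.subgroupOfEquivOfLe hAS).toEquiv).trans hA8) ?_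
  · exact ⟨⟨fun x y => Subtype.ext (sq_one_comm h2 x.2 y.2).eq⟩⟩
  · refine le_antisymm (fun c hc => ?_) fun c hc => mem_centralizer'.mpr fun x hx => sq_one_comm h2 hx hc
    refine Subgroup.mem_subgroupOf.mpr (hC c c.2 fun a ha => ?_)
    exact congrArg (Subgroup.subtype (S : Subgroup G))
      (mem_centralizer'.mp hc ⟨a, hAS ha⟩ (Subgroup.mem_subgroupOf.mpr ha)).eq

omit [IsSimpleGroup G] [FaithfulSMul G Ω] in
/-- Case (L): a fixing involution whose fixed points are moved by all of `E#`. -/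
theorem case_disjoint (h04 : ∀ g : G, orderOf g = 2 → (fixedBy Ω g).Nonempty →
      Nat.card (fixedBy Ω g) = 4)
    {E : Subgroup G} (hES : E ≤ S) (hEn : ∀ s ∈ (S : Subgroup G), ∀ x ∈ E, s * x * s⁻¹ ∈ E)
    (hE8 : Nat.card E = 8) (hE2 : ∀ x ∈ E, x ^ 2 = 1) {t : G} (htS : t ∈ (S : Subgroup G))
    (ht : orderOf t = 2) (htF : (fixedBy Ω t).Nonempty)
    (hfree : ∀ x ∈ E, ∀ p ∈ fixedBy Ω t, x • p = p → x = 1) :
    Cfsg.SectionalPRankLE 2 4 (S : Subgroup G) := by
  classical
  haveI : Fact (Nat.Prime 2) := ⟨Nat.prime_two⟩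
  have hE2i : ∀ z ∈ E, z⁻¹ = z := fun z hz => inv_eq_of_mul_eq_one_right (by rw [← pow_two, hE2 z hz])
  set F := fixedBy Ω t with hFdef
  have hF : Nat.card F = 4 := h04 t ht htF
  obtain ⟨p, hp⟩ := htF
  have ht1 : t ≠ 1 := fun h => by rw [h, orderOf_one] at ht; omega
  have hsemi : ∀ X : Subgroup G, X ≤ E → X ≤ setStab F → Nat.card X ≤ 4 := by
    intro X hX hXF
    have h := card_le_mul_of_subset (H := X) (K := ⊥) (d := p) (X := F)
      (fun x hx => (hXF hx p).mpr hp) fun x hx e => Subgroup.mem_bot.mpr (hfree x (hX hx) p hp e)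
    rwa [Subgroup.card_bot, mul_one, hF] at h
  have hnoE : ∀ c ∈ ptStab (G := G) F, (∀ x ∈ E, Commute x c) → c = 1 := fun c hc hcE => by
    by_contra h1
    have := hsemi E le_rfl fun x hx =>
      (fixedBy_eq_four B hF hc h1) ▸ mem_setStab_fixedBy (hcE x hx)
    omega
  set V := E ⊓ Subgroup.centralizer ({t} : Set G) with hV
  have hVt : ∀ v ∈ V, Commute v t := fun v hv => Subgroup.mem_centralizer_singleton_iff.mp hv.2
  have hVF : V ≤ setStab F := fun v hv => mem_setStab_fixedBy (hVt v hv)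
  have hVcomm : ∀ a ∈ V, ∀ b ∈ V, Commute a b := fun a ha b hb => sq_one_comm hE2 ha.1 hb.1
  have hV4 : Nat.card V = 4 := by
    refine le_antisymm (hsemi V inf_le_left hVF) ?_
    let φ : E →* E := MonoidHom.mk'
      (fun x => ⟨t * x * t⁻¹ * (x : G)⁻¹, mul_mem (hEn t htS x x.2) (inv_mem x.2)⟩) fun a b => Subtype.ext (by
        show t * ((a : G) * b) * t⁻¹ * ((a : G) * b)⁻¹ =
          t * a * t⁻¹ * (a : G)⁻¹ * (t * b * t⁻¹ * (b : G)⁻¹)
        have h := sq_one_comm hE2 (mul_mem (hEn t htS b b.2) (inv_mem b.2)) (inv_mem a.2)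
        calc t * ((a : G) * b) * t⁻¹ * ((a : G) * b)⁻¹
            = t * a * t⁻¹ * ((t * b * t⁻¹ * (b : G)⁻¹) * (a : G)⁻¹) := by group
          _ = t * a * t⁻¹ * ((a : G)⁻¹ * (t * b * t⁻¹ * (b : G)⁻¹)) := by rw [h.eq]
          _ = _ := by group)
    have hker : Nat.card φ.ker ≤ Nat.card V := by
      refine Nat.card_le_card_of_injective (fun x => (⟨((x : E) : G), (x : E).2,
        Subgroup.mem_centralizer_singleton_iff.mpr
          (mul_inv_eq_iff_eq_mul.mp (mul_inv_eq_one.mp (congrArg Subtype.val x.2))).symm⟩ : V)) fun a b e => ?_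
      exact Subtype.ext (Subtype.ext (congrArg (fun z : V => (z : G)) e))
    have hrange : Nat.card φ.range ≤ Nat.card V := by
      refine Nat.card_le_card_of_injective (fun y => (⟨((y : E) : G), (y : E).2, ?_⟩ : V)) fun a b e => ?_
      · obtain ⟨x, hx⟩ := y.2
        have hy : ((y : E) : G) = t * x * t⁻¹ * (x : G)⁻¹ := (congrArg Subtype.val hx).symm
        have htt : t * t = 1 := by rw [← pow_two, ← ht]; exact pow_orderOf_eq_one t
        refine Subgroup.mem_centralizer_singleton_iff.mpr ?_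
        have h := (sq_one_comm hE2 (hEn t htS x x.2) (inv_mem x.2)).eq
        have ht' : t⁻¹ = t := inv_eq_of_mul_eq_one_right htt
        have key : t * ((y : E) : G) * t⁻¹ = ((y : E) : G) := by
          rw [hy, ht']
          calc t * (t * x * t * (x : G)⁻¹) * t = (t * t) * (x : G) * (t * (x : G)⁻¹ * t) := by group
            _ = (x : G) * (t * (x : G) * t) := by
                rw [htt, one_mul, hE2i _ x.2]
            _ = t * x * t * (x : G)⁻¹ := by
                have hcomm := sq_one_comm hE2 x.2 (hEn t htS x x.2)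
                rw [ht'] at hcomm
                rw [hcomm.eq, hE2i _ x.2]
        exact (mul_inv_eq_iff_eq_mul.mp key).symm
      · exact Subtype.ext (Subtype.ext (congrArg (fun z : V => (z : G)) e))
    have h8 := φ.ker.card_mul_index
    rw [Subgroup.index_ker, hE8] at h8
    obtain ⟨k, hk⟩ := (S.isPGroup'.to_le (show V ≤ (S : Subgroup G) from inf_le_left.trans hES)).exists_card_eq
    rw [hk] at hker hrange ⊢
    have hm := Nat.mul_le_mul hker hrange
    rw [h8] at hm
    have hk2 : 2 ≤ k := by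
      by_contra h
      push Not at h
      interval_cases k <;> omega
    exact (Nat.pow_le_pow_right (show 0 < 2 by norm_num) hk2)
  have htr : ∀ q ∈ F, ∃ v ∈ V, v • p = q :=
    transitive_of_card (fun v hv => (hVF hv p).mpr hp)
      (fun v hv e => Subgroup.mem_bot.mpr (hfree v hv.1 p hp e))
      (by rw [hF, Subgroup.card_bot, hV4])
  set R := (S : Subgroup G) ⊓ ptStab F ⊓ Subgroup.centralizer (V : Set G) with hR
  have hRV : ∀ r ∈ R, ∀ v ∈ V, Commute r v := fun r hr v hv =>
    (Subgroup.mem_centralizer_iff.mp hr.2 v hv).symm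
  have htR : t ∈ R := ⟨⟨htS, fun q hq => hq⟩,
    Subgroup.mem_centralizer_iff.mpr fun v hv => (hVt v hv).eq⟩
  obtain ⟨e, he, heV⟩ : ∃ e ∈ E, e ∉ V := by
    by_contra h
    push Not at h
    have := Subgroup.card_le_of_le (show E ≤ V from h)
    omega
  have hEgen : ∀ a ∈ E, a ∉ V → ∀ b ∈ E, b ∉ V → a * b ∈ V := by
    intro a ha haV b hb hbV
    have hi : (V.subgroupOf E).index = 2 := by
      have h := (V.subgroupOf E).card_mul_index
      rw [Nat.card_congr (Subgroup.subgroupOfEquivOfLe (show V ≤ E from inf_le_left)).toEquiv, hV4, hE8] at h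
      omega
    exact Subgroup.mem_subgroupOf.mp ((Subgroup.mul_mem_iff_of_index_two hi (a := ⟨a, ha⟩)
      (b := ⟨b, hb⟩)).mpr (iff_of_false (fun h => haV (Subgroup.mem_subgroupOf.mp h))
        fun h => hbV (Subgroup.mem_subgroupOf.mp h)))
  have hconjV : ∀ r ∈ R, r * e * r⁻¹ * e⁻¹ ∈ V := fun r hr => by
    refine hEgen _ (hEn r hr.1.1 e he) (fun h => heV ?_) _ (inv_mem he) fun h => heV (by simpa using inv_mem h)
    have h2 := (hRV r hr _ h).eq
    rw [← show r⁻¹ * (r * e * r⁻¹) * r = e by group, mul_assoc r⁻¹, ← h2, inv_mul_cancel_left]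
    exact h
  let α : R →* V := MonoidHom.mk' (fun r => ⟨r * e * (r : G)⁻¹ * e⁻¹, hconjV r r.2⟩) fun r s =>
    Subtype.ext (by
      show (r : G) * s * e * ((r : G) * s)⁻¹ * e⁻¹ = (r : G) * e * (r : G)⁻¹ * e⁻¹ * ((s : G) * e * (s : G)⁻¹ * e⁻¹)
      calc (r : G) * s * e * ((r : G) * s)⁻¹ * e⁻¹
          = r * ((s : G) * e * (s : G)⁻¹ * e⁻¹) * (r : G)⁻¹ * (r * e * (r : G)⁻¹ * e⁻¹) := by group
        _ = _ := by
          rw [(hRV r r.2 _ (hconjV s s.2)).eq, mul_inv_cancel_right,
            (hVcomm _ (hconjV s s.2) _ (hconjV r r.2)).eq])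
  have hα : Function.Injective α := (injective_iff_map_eq_one α).mpr fun r h => Subtype.ext (by
    have hre : Commute (r : G) e :=
      mul_inv_eq_iff_eq_mul.mp (mul_inv_eq_one.mp (congrArg Subtype.val h))
    refine hnoE _ r.2.1.2 fun x hx => ?_
    by_cases hxV : x ∈ V
    · exact (hRV r r.2 x hxV).symm
    · have h1 := (hre.symm.mul_left (hRV r r.2 _ (hEgen e he heV x hx hxV)).symm)
      rwa [← mul_assoc, ← pow_two, hE2 e he, one_mul] at h1)
  have hR4 : Nat.card R ≤ 4 := hV4 ▸ Nat.card_le_card_of_injective α hα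
  have hR2 : ∀ r ∈ R, r ^ 2 = 1 := fun r hr => by
    have h1 : α ⟨r, hr⟩ ^ 2 = 1 := Subtype.ext (by simpa using hE2 _ (α ⟨r, hr⟩).2.1)
    rw [← map_pow] at h1
    have h2 := hα (h1.trans α.map_one.symm)
    simpa using congrArg Subtype.val h2
  have htE : t ∉ E := fun h => ht1 (hfree t h p hp hp)
  by_cases hR2' : Nat.card R ≤ 2
  · -- `⟨t⟩ × V` is its own centraliser
    have htR' : Subgroup.zpowers t = R := Subgroup.eq_of_le_of_card_ge (Subgroup.zpowers_le.mpr htR)
      (by rwa [Nat.card_zpowers, ht])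
    have hzV : Subgroup.zpowers t ≤ Subgroup.normalizer (V : Set G) := Subgroup.zpowers_le.mpr
      (Subgroup.mem_normalizer_fintype fun v hv => by
        rw [← (hVt v hv).eq, mul_inv_cancel_right]; exact hv)
    have hmemA : ∀ x ∈ V ⊔ Subgroup.zpowers t, ∃ v ∈ V, ∃ r ∈ R, x = v * r := fun x hx => by
      have hx' : x ∈ ((V ⊔ Subgroup.zpowers t : Subgroup G) : Set G) := hx
      rw [Subgroup.coe_mul_of_right_le_normalizer_left _ _ hzV] at hx'
      obtain ⟨v, hv, r, hr, rfl⟩ := hx'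
      exact ⟨v, hv, r, htR' ▸ hr, rfl⟩
    refine sectional_of_self_centralizing S (A := V ⊔ Subgroup.zpowers t)
      (sup_le (inf_le_left.trans hES) (Subgroup.zpowers_le.mpr htS)) ?_ ?_ fun c hcS hc => ?_
    · have hle : V ≤ V ⊔ Subgroup.zpowers t := le_sup_left
      apply le_antisymm
      · have hb : Function.Surjective (fun x : V × R =>
            (⟨(x.1 : G) * x.2, mul_mem (Subgroup.mem_sup_left x.1.2)
              (Subgroup.mem_sup_right (htR'.symm ▸ x.2.2))⟩ : ↥(V ⊔ Subgroup.zpowers t))) := fun x => by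
          obtain ⟨v, hv, r, hr, e⟩ := hmemA x x.2
          exact ⟨(⟨v, hv⟩, ⟨r, hr⟩), Subtype.ext e.symm⟩
        refine (Nat.card_le_card_of_surjective _ hb).trans ?_
        rw [Nat.card_prod, hV4]
        omega
      · have hd := Subgroup.card_dvd_of_le hle
        have hlt : Nat.card V < Nat.card ↥(V ⊔ Subgroup.zpowers t) := by
          by_contra h
          push Not at h
          have := Subgroup.eq_of_le_of_card_ge hle h
          exact htE (this ▸ Subgroup.mem_sup_right (Subgroup.mem_zpowers t) : t ∈ V).1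
        rw [hV4] at hd hlt
        omega
    · intro x hx
      obtain ⟨v, hv, r, hr, rfl⟩ := hmemA x hx
      rw [(hRV r hr v hv).symm.mul_pow, hE2 v hv.1, hR2 r hr, one_mul]
    · have hct : Commute c t := (hc t (Subgroup.mem_sup_right (Subgroup.mem_zpowers t))).symm
      obtain ⟨v, hv, -, hvc⟩ := exists_same_action hp hVcomm htr
        ((mem_setStab_fixedBy hct p).mpr hp) fun v hv => (hc v (Subgroup.mem_sup_left hv)).symm
      have hmem : v⁻¹ * c ∈ R := ⟨⟨(S : Subgroup G).mul_mem ((S : Subgroup G).inv_mem (hES hv.1)) hcS, hvc⟩,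
        Subgroup.mem_centralizer_iff.mpr fun w hw =>
          ((hVcomm w hw v hv).inv_right.mul_right (hc w (Subgroup.mem_sup_left hw))).eq⟩
      have := mul_mem (Subgroup.mem_sup_left hv : v ∈ V ⊔ Subgroup.zpowers t)
        (Subgroup.mem_sup_right (htR'.symm ▸ hmem))
      rwa [mul_inv_cancel_left] at this
  -- `R` is a four-group of transvections
  have hR4' : Nat.card R = 4 := by
    obtain ⟨k, hk⟩ := (S.isPGroup'.to_le (show R ≤ (S : Subgroup G) from inf_le_left.trans inf_le_left)).exists_card_eq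
    rw [hk] at hR4 hR2' ⊢
    have hk2 : k ≤ 2 := (Nat.pow_le_pow_iff_right (show 1 < 2 by norm_num)).mp hR4
    interval_cases k <;> omega
  have hRS : R ≤ (S : Subgroup G) := inf_le_left.trans inf_le_left
  haveI : (E.subgroupOf (S : Subgroup G)).Normal :=
    ⟨fun x hx s => Subgroup.mem_subgroupOf.mpr (hEn s s.2 x (Subgroup.mem_subgroupOf.mp hx))⟩
  have hVeq : (E.subgroupOf (S : Subgroup G) ⊓
      Subgroup.centralizer ((R.subgroupOf (S : Subgroup G)) : Set (S : Subgroup G))) =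
      V.subgroupOf (S : Subgroup G) := by
    ext x
    constructor
    · rintro ⟨hxE, hxR⟩
      refine ⟨hxE, Subgroup.mem_centralizer_singleton_iff.mpr ?_⟩
      exact (congrArg (Subgroup.subtype (S : Subgroup G))
        (Subgroup.mem_centralizer_iff.mp hxR ⟨t, htS⟩ htR)).symm
    · intro hx
      exact ⟨hx.1, Subgroup.mem_centralizer_iff.mpr fun r hr => Subtype.ext (hRV r hr x hx).eq⟩
  refine sectional_of_transvection S.isPGroup' (E.subgroupOf (S : Subgroup G))
    ((Nat.card_congr (Subgroup.subgroupOfEquivOfLe hES).toEquiv).trans hE8)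
    (fun x hx => Subtype.ext (by simpa using hE2 _ (Subgroup.mem_subgroupOf.mp hx)))
    (R.subgroupOf (S : Subgroup G))
    ((Nat.card_congr (Subgroup.subgroupOfEquivOfLe hRS).toEquiv).trans hR4')
    (fun x hx => Subtype.ext (by simpa using hR2 _ (Subgroup.mem_subgroupOf.mp hx))) ?_ ?_
  · rw [hVeq, Nat.card_congr (Subgroup.subgroupOfEquivOfLe (inf_le_left.trans hES)).toEquiv, hV4]
  · intro r hr hr1
    rw [hVeq]
    rintro ⟨c, hcS⟩ ⟨hcE, hcr⟩
    have hr1' : (r : G) ≠ 1 := fun h => hr1 (Subtype.ext h)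
    have hFr : fixedBy Ω (r : G) = F := fixedBy_eq_four B hF hr.1.2 hr1'
    have hcr' : Commute c (r : G) :=
      congrArg (Subgroup.subtype (S : Subgroup G)) (Subgroup.mem_centralizer_singleton_iff.mp hcr)
    have hcE' : ∀ x ∈ E, Commute x c := fun x hx =>
      congrArg (Subgroup.subtype (S : Subgroup G)) (Subgroup.mem_centralizer_iff.mp hcE ⟨x, hES hx⟩ hx)
    obtain ⟨v, hv, -, hvc⟩ := exists_same_action hp hVcomm htr
      ((hFr ▸ mem_setStab_fixedBy hcr' : c ∈ setStab F) p |>.mpr hp) fun v hv => (hcE' v hv.1).symm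
    have h1 := hnoE _ hvc fun x hx => (sq_one_comm hE2 hx hv.1).inv_right.mul_right (hcE' x hx)
    rw [inv_mul_eq_one] at h1
    exact Subgroup.mem_subgroupOf.mpr (h1 ▸ hv)

end Simple

end CfsgLib.FixityFour
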