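import Cfsg.Agent.Lib.FixityFour.FourLocal

/-!
Fixity four: an element of the elementary normal subgroup whose four fixed points are not
invariant (`notes/s3365_plan.md`, case (i)).
-/

set_option autoImplicit false
set_option linter.style.haveILetI false
set_option linter.unusedSectionVars false

namespace CfsgLib.FixityFour

open MulAction

variable {G Ω : Type*} [Group G] [MulAction G Ω]

/-- A Sylow `2`-subgroup of order eight of automorphisms of an elementary group of order eight is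
not abelian. -/
theorem not_abelian_of_index_eight [Finite G] {S : Subgroup G} (hS : IsPGroup 2 S) {E D : Subgroup G}
    (hEn : ∀ s ∈ S, ∀ x ∈ E, s * x * s⁻¹ ∈ E) (hE8 : Nat.card E = 8)
    (hE2 : ∀ x ∈ E, x ^ 2 = 1) (hD : D = S ⊓ Subgroup.centralizer (E : Set G))
    (hidx : (D.subgroupOf S).index = 8) {e : G} (he : e ∈ E) {s : G} (hs : s ∈ S)
    (hse : ¬ Commute s e) :
    ∃ x ∈ S, ∃ y ∈ S, x * y * x⁻¹ * y⁻¹ ∉ D := by
  classical
  haveI : Fact (Nat.Prime 2) := ⟨Nat.prime_two⟩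
  by_contra hno
  push Not at hno
  -- conjugations by elements of `S` commute on `E`
  have swap : ∀ x ∈ S, ∀ y ∈ S, ∀ z ∈ E, x * (y * z * y⁻¹) * x⁻¹ = y * (x * z * x⁻¹) * y⁻¹ := by
    intro x hx y hy z hz
    have h := hno x hx y hy
    rw [hD] at h
    have hc := (Subgroup.mem_centralizer_iff.mp h.2 _ (hEn y hy _ (hEn x hx z hz)))
    calc x * (y * z * y⁻¹) * x⁻¹
        = x * y * x⁻¹ * y⁻¹ * (y * (x * z * x⁻¹) * y⁻¹) * (x * y * x⁻¹ * y⁻¹)⁻¹ := by group
      _ = _ := by rw [← hc, mul_inv_cancel_right]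
  set C := S ⊓ Subgroup.centralizer ({e} : Set G) with hC
  have hCe : ∀ c ∈ C, Commute c e := fun c hc => Subgroup.mem_centralizer_singleton_iff.mp hc.2
  set M := E ⊓ Subgroup.centralizer (C : Set G) with hM
  have hMc : ∀ m ∈ M, ∀ c ∈ C, Commute c m := fun m hm c hc => Subgroup.mem_centralizer_iff.mp hm.2 c hc
  have hconjM : ∀ x ∈ S, x * e * x⁻¹ ∈ M := fun x hx =>
    ⟨hEn x hx e he, Subgroup.mem_centralizer_iff.mpr fun c hc => by
      have h := swap c hc.1 x hx e he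
      rw [(hCe c hc).eq, mul_inv_cancel_right] at h
      exact mul_inv_eq_iff_eq_mul.mp h⟩
  have hDS : D ≤ S := hD ▸ inf_le_left
  have hSD : Nat.card S = 8 * Nat.card D := by
    rw [← (D.subgroupOf S).card_mul_index, hidx, Nat.card_congr (Subgroup.subgroupOfEquivOfLe hDS).toEquiv,
      mul_comm]
  -- the conjugates of `e`
  let g : ↥S ⧸ C.subgroupOf S → {m : M // (m : G) ≠ 1} := fun q =>
    ⟨⟨(q.out : G) * e * (q.out : G)⁻¹, hconjM _ q.out.2⟩, fun h => hse (by
      have h' : e = 1 := conj_eq_one_iff.mp h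
      rw [h']; exact Commute.one_right s)⟩
  have hg : Function.Injective g := fun p q h => by
    have h' : (p.out : G) * e * (p.out : G)⁻¹ = (q.out : G) * e * (q.out : G)⁻¹ :=
      congrArg (fun z : {m : M // (m : G) ≠ 1} => ((z : M) : G)) h
    rw [← QuotientGroup.out_eq' p, ← QuotientGroup.out_eq' q, QuotientGroup.eq, Subgroup.mem_subgroupOf]
    refine ⟨(p.out⁻¹ * q.out).2, Subgroup.mem_centralizer_singleton_iff.mpr ?_⟩
    simp only [Subgroup.coe_mul, InvMemClass.coe_inv]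
    calc (p.out : G)⁻¹ * (q.out : G) * e = (p.out : G)⁻¹ * ((q.out : G) * e * (q.out : G)⁻¹) * q.out := by group
      _ = e * ((p.out : G)⁻¹ * (q.out : G)) := by rw [← h']; group
  have hCidx : (C.subgroupOf S).index < Nat.card M := by
    refine lt_of_le_of_lt (Nat.card_le_card_of_injective g hg) ?_
    haveI : Fintype M := Fintype.ofFinite _
    rw [Nat.card_eq_fintype_card, Nat.card_eq_fintype_card]
    exact Fintype.card_subtype_lt (x := (1 : M)) (by simp)
  have hSC : Nat.card S = (C.subgroupOf S).index * Nat.card C := by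
    rw [← (C.subgroupOf S).card_mul_index,
      Nat.card_congr (Subgroup.subgroupOfEquivOfLe (inf_le_left : C ≤ S)).toEquiv, mul_comm]
  have hME : ¬ E ≤ M := fun h => by
    have hle : C ≤ D := hD ▸ fun c hc => ⟨hc.1, Subgroup.mem_centralizer_iff.mpr fun x hx => (hMc x (h hx) c hc).symm.eq⟩
    have h1 := Subgroup.card_le_of_le hle
    have h2 : Nat.card M ≤ 8 := hE8 ▸ Subgroup.card_le_of_le inf_le_left
    have : 0 < Nat.card D := Nat.card_pos
    nlinarith
  obtain ⟨x₀, hx₀, hx₀M⟩ := SetLike.not_le_iff_exists.mp hME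
  have hM4 : Nat.card M ≤ 4 := by
    have hd : Nat.card M ∣ 2 ^ 3 := by
      have := Subgroup.card_dvd_of_le (inf_le_left : M ≤ E)
      rw [hE8] at this
      exact this
    obtain ⟨k, hk, hk'⟩ := (Nat.dvd_prime_pow Nat.prime_two).mp hd
    rcases Nat.lt_or_ge k 3 with h | h
    · rw [hk']; exact Nat.pow_le_pow_right (show 0 < 2 by norm_num) (Nat.le_of_lt_succ h)
    · exact absurd ((Subgroup.eq_of_le_of_card_ge (inf_le_left : M ≤ E) (by rw [hk', hE8]; exact Nat.pow_le_pow_right (show 0 < 2 by norm_num) h)).ge hx₀) hx₀M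
  have he' : s * e * s⁻¹ ≠ e := fun h => hse (mul_inv_eq_iff_eq_mul.mp h)
  have heM : e ∈ M := by simpa using hconjM 1 (one_mem S)
  have hM4' : Nat.card M = 4 := by
    have he1 : e ≠ 1 := fun h => hse (h ▸ Commute.one_right s)
    have hf : Function.Injective (![⟨1, one_mem M⟩, ⟨e, heM⟩, ⟨s * e * s⁻¹, hconjM s hs⟩] : Fin 3 → M) := by
      intro i j hij
      fin_cases i <;> fin_cases j <;> first
        | rfl
        | (exfalso; simp [Subtype.ext_iff] at hij; first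
            | exact he1 hij | exact he1 hij.symm | exact he' hij | exact he' hij.symm
            | exact he1 (conj_eq_one_iff.mp hij) | exact he1 (conj_eq_one_iff.mp hij.symm))
    have h3 := Nat.card_le_card_of_injective _ hf
    rw [Nat.card_fin] at h3
    have hd : Nat.card M ∣ 2 ^ 3 := by
      have := Subgroup.card_dvd_of_le (inf_le_left : M ≤ E)
      rw [hE8] at this
      exact this
    obtain ⟨k, hk, hk'⟩ := (Nat.dvd_prime_pow Nat.prime_two).mp hd
    interval_cases k <;> omega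
  have hC2 : (C.subgroupOf S).index ≤ 2 := by
    haveI : Finite ↥S := inferInstance
    obtain ⟨k, hk⟩ := hS.index (C.subgroupOf S)
    rw [hM4'] at hCidx
    rw [hk] at hCidx ⊢
    have : k < 2 := (Nat.pow_lt_pow_iff_right (show 1 < 2 by norm_num)).mp (show 2 ^ k < 2 ^ 2 by simpa using hCidx)
    exact Nat.pow_le_pow_right (show 0 < 2 by norm_num) (Nat.le_of_lt_succ this) |>.trans (by norm_num)
  have hEM : ∀ a ∈ E, a ∉ M → ∀ b ∈ E, b ∉ M → a * b ∈ M := by
    intro a ha haM b hb hbM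
    have hi : (M.subgroupOf E).index = 2 := by
      have h := (M.subgroupOf E).card_mul_index
      rw [Nat.card_congr (Subgroup.subgroupOfEquivOfLe (inf_le_left : M ≤ E)).toEquiv, hM4', hE8] at h
      omega
    exact Subgroup.mem_subgroupOf.mp ((Subgroup.mul_mem_iff_of_index_two hi (a := ⟨a, ha⟩)
      (b := ⟨b, hb⟩)).mpr (iff_of_false (fun h => haM (Subgroup.mem_subgroupOf.mp h))
        fun h => hbM (Subgroup.mem_subgroupOf.mp h)))
  have hx₀i : x₀⁻¹ = x₀ := inv_eq_of_mul_eq_one_right (by rw [← pow_two, hE2 x₀ hx₀])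
  have hβ : ∀ c ∈ C, c * x₀ * c⁻¹ * x₀⁻¹ ∈ M := fun c hc => by
    refine hEM _ (hEn c hc.1 x₀ hx₀) (fun h => hx₀M ?_) _ (inv_mem hx₀) fun h => hx₀M (by simpa using inv_mem h)
    have h2 := (hMc _ h c hc).eq
    rw [← show c⁻¹ * (c * x₀ * c⁻¹) * c = x₀ by group, mul_assoc c⁻¹, ← h2, inv_mul_cancel_left]
    exact h
  let β : C →* M := MonoidHom.mk' (fun c => ⟨c * x₀ * (c : G)⁻¹ * x₀⁻¹, hβ c c.2⟩) fun a b =>
    Subtype.ext (by
      show (a : G) * b * x₀ * ((a : G) * b)⁻¹ * x₀⁻¹ = _ * _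
      calc (a : G) * b * x₀ * ((a : G) * b)⁻¹ * x₀⁻¹
          = a * ((b : G) * x₀ * (b : G)⁻¹ * x₀⁻¹) * (a : G)⁻¹ * (a * x₀ * (a : G)⁻¹ * x₀⁻¹) := by group
        _ = ((a : G) * x₀ * (a : G)⁻¹ * x₀⁻¹) * ((b : G) * x₀ * (b : G)⁻¹ * x₀⁻¹) := by
          rw [(hMc _ (hβ b b.2) a a.2).eq, mul_inv_cancel_right,
            (sq_one_comm hE2 (hβ b b.2).1 (hβ a a.2).1).eq])
  have hker : Nat.card β.ker ≤ Nat.card D := by
    refine Nat.card_le_card_of_injective (fun c => (⟨((c : C) : G), ?_⟩ : D)) fun a b e => ?_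
    · rw [hD]
      refine ⟨(c : C).2.1, Subgroup.mem_centralizer_iff.mpr fun x hx => ?_⟩
      have h0 : Commute ((c : C) : G) x₀ :=
        mul_inv_eq_iff_eq_mul.mp (mul_inv_eq_one.mp (congrArg Subtype.val c.2))
      by_cases hxM : x ∈ M
      · exact (hMc x hxM _ (c : C).2).symm.eq
      · have h1 := h0.mul_right (hMc _ (hEM x₀ hx₀ hx₀M x hx hxM) _ (c : C).2)
        rw [← mul_assoc, ← pow_two, hE2 x₀ hx₀, one_mul] at h1
        exact h1.symm.eq
    · exact Subtype.ext (Subtype.ext (congrArg (fun z : D => (z : G)) e))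
  have hsurj : β.range = ⊤ := by
    refine Subgroup.eq_top_of_le_card _ ?_
    have h := β.ker.card_mul_index
    rw [Subgroup.index_ker] at h
    have : 0 < Nat.card D := Nat.card_pos
    rw [hM4']
    nlinarith
  obtain ⟨⟨r, hr⟩, hre⟩ := MonoidHom.range_eq_top.mp hsurj ⟨e, heM⟩
  have hre : r * x₀ * r⁻¹ = e * x₀ := mul_inv_eq_iff_eq_mul.mp (congrArg Subtype.val hre)
  have hsx : s * x₀ * s⁻¹ ∈ E := hEn s hs x₀ hx₀
  have hsxM : s * x₀ * s⁻¹ ∉ M := fun h => hx₀M ⟨hx₀, Subgroup.mem_centralizer_iff.mpr fun c hc => by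
    have h1 := swap c hc.1 s hs x₀ hx₀
    rw [(hMc _ h c hc).eq, mul_inv_cancel_right] at h1
    exact mul_inv_eq_iff_eq_mul.mp (mul_left_cancel (mul_right_cancel h1)).symm⟩
  obtain ⟨m, hm, hmx⟩ : ∃ m ∈ M, s * x₀ * s⁻¹ = m * x₀ :=
    ⟨_, hEM _ hsx hsxM _ hx₀ hx₀M, by rw [mul_assoc (s * x₀ * s⁻¹), ← pow_two, hE2 x₀ hx₀, mul_one]⟩
  have h1 := swap r hr.1 s hs x₀ hx₀
  rw [hre, hmx, show r * (m * x₀) * r⁻¹ = (r * m * r⁻¹) * (r * x₀ * r⁻¹) by group,
    (hMc m hm r hr).eq, mul_inv_cancel_right, hre,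
    show s * (e * x₀) * s⁻¹ = (s * e * s⁻¹) * (s * x₀ * s⁻¹) by group, hmx] at h1
  refine he' ?_
  rw [← mul_assoc, ← mul_assoc] at h1
  have h2 := mul_right_cancel h1
  rw [(sq_one_comm hE2 hm.1 he).eq] at h2
  exact (mul_right_cancel h2).symm

section Simple

variable [Finite G] [IsSimpleGroup G] [FaithfulSMul G Ω] [Finite Ω] (B : Fixity G Ω)
variable (S : Sylow 2 G)

include B

omit [IsSimpleGroup G] [FaithfulSMul G Ω] in
/-- `E` meets the pointwise stabiliser of a moved fixed set in two elements. -/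
theorem kernel_two {E : Subgroup G} (hEn : ∀ s ∈ (S : Subgroup G), ∀ x ∈ E, s * x * s⁻¹ ∈ E)
    (hE8 : Nat.card E = 8) (hE2 : ∀ x ∈ E, x ^ 2 = 1) {F : Set Ω} (hF : Nat.card F = 4)
    {e : G} (he : e ∈ E) (he1 : e ≠ 1) (heF : e ∈ ptStab F) {s : G}
    (hs : s ∈ (S : Subgroup G)) (hsF : s ∉ setStab F) :
    Nat.card ↥(E ⊓ ptStab F) = 2 := by
  haveI : Fact (Nat.Prime 2) := ⟨Nat.prime_two⟩
  set K := E ⊓ ptStab F with hK
  set F' := (fun x => s • x) '' F with hF'
  have hne : F ≠ F' := fun h => hsF fun x => by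
    constructor
    · intro hx
      rw [h] at hx
      obtain ⟨y, hy, e⟩ := hx
      rwa [(smul_left_cancel_iff s).mp e] at hy
    · exact fun hx => h.symm ▸ ⟨x, hx, rfl⟩
  have hF'4 : Nat.card F' = 4 := by rw [hF', Nat.card_image_of_injective (MulAction.injective s), hF]
  let ψ : K × K → E := fun p => ⟨(p.1 : G) * (s * p.2 * s⁻¹), mul_mem p.1.2.1 (hEn s hs _ p.2.2.1)⟩
  have hinj : Function.Injective ψ := by
    rintro ⟨a, b⟩ ⟨a', b'⟩ h
    have h' : (a : G) * (s * b * s⁻¹) = (a' : G) * (s * b' * s⁻¹) := congrArg Subtype.val h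
    have h1 : (a' : G)⁻¹ * a ∈ ptStab F' := by
      rw [show (a' : G)⁻¹ * a = s * (b' * (b : G)⁻¹) * s⁻¹ by
        calc (a' : G)⁻¹ * a = (a' : G)⁻¹ * (a * (s * b * s⁻¹)) * (s * b * s⁻¹)⁻¹ := by group
          _ = _ := by rw [h']; group]
      rintro _ ⟨x, hx, rfl⟩
      have hb := (mul_mem b'.2.2 (inv_mem b.2.2) : (b' : G) * (b : G)⁻¹ ∈ ptStab F) x hx
      simp only [mul_smul, inv_smul_smul] at hb ⊢
      rw [hb]
    have h2 : (a' : G)⁻¹ * a ∈ ptStab F ⊓ ptStab F' :=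
      Subgroup.mem_inf.mpr ⟨(ptStab F).mul_mem ((ptStab F).inv_mem a'.2.2) a.2.2, h1⟩
    rw [ptStab_inf_ptStab B hF hF'4 hne, Subgroup.mem_bot] at h2
    have ha : (a : G) = a' := (inv_mul_eq_one.mp h2).symm
    rw [ha] at h'
    have hb : (b : G) = b' := mul_left_cancel (mul_right_cancel (mul_left_cancel h'))
    exact Prod.ext (Subtype.ext ha) (Subtype.ext hb)
  have h8 := Nat.card_le_card_of_injective ψ hinj
  rw [Nat.card_prod, hE8] at h8
  have h2 : 2 ∣ Nat.card K := by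
    rw [← orderOf_eq_prime (hE2 e he) he1]
    exact Subgroup.orderOf_dvd_natCard K (show e ∈ K from ⟨he, heF⟩)
  have hpos : 0 < Nat.card K := Nat.card_pos
  obtain ⟨j, hj⟩ := h2
  rcases j with _ | _ | j
  · omega
  · omega
  · nlinarith

omit [IsSimpleGroup G] [FaithfulSMul G Ω] B in
/-- An involutory permutation of four points with a fixed and a moved point. -/
theorem fix_two {F : Set Ω} (hF : Nat.card F = 4) {t : G} (ht : t ^ 2 = 1) (htF : t ∈ setStab F)
    {p r : Ω} (hp : p ∈ F) (htp : t • p = p) (hr : r ∈ F) (htr : t • r ≠ r) :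
    ∃ q ∈ F, q ≠ p ∧ t • q = q ∧ t • r ∈ F ∧ ∀ x ∈ F, x = p ∨ x = q ∨ x = r ∨ x = t • r := by
  classical
  have htt : ∀ x : Ω, t • t • x = x := fun x => by rw [← mul_smul, ← pow_two, ht, one_smul]
  have hr' : t • r ∈ F := (htF r).mpr hr
  have hpr : p ≠ r := fun h => htr (h ▸ htp)
  have hpr' : p ≠ t • r := fun h => hpr (by
    have := congrArg (t • ·) h
    simpa only [htt, htp] using this)
  have hsub : ({p, r, t • r} : Set Ω) ⊆ F := by
    rintro x (rfl | rfl | rfl) <;> assumption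
  have h3 : ({p, r, t • r} : Set Ω).ncard = 3 := by
    rw [Set.ncard_insert_of_notMem (by simp [hpr, hpr']), Set.ncard_pair (Ne.symm htr)]
  have h1 : (F \ {p, r, t • r}).ncard = 1 := by
    rw [Set.ncard_sdiff hsub, h3, ← Nat.card_coe_set_eq, hF]
  obtain ⟨q, hq⟩ := Set.ncard_eq_one.mp h1
  have hqF : q ∈ F \ {p, r, t • r} := hq ▸ Set.mem_singleton q
  simp only [Set.mem_sdiff, Set.mem_insert_iff, Set.mem_singleton_iff, not_or] at hqF
  have hall : ∀ x ∈ F, x = p ∨ x = q ∨ x = r ∨ x = t • r := fun x hx => by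
    by_cases h : x ∈ ({p, r, t • r} : Set Ω)
    · simp only [Set.mem_insert_iff, Set.mem_singleton_iff] at h
      rcases h with h | h | h <;> simp [h]
    · have : x ∈ F \ {p, r, t • r} := ⟨hx, h⟩
      rw [hq, Set.mem_singleton_iff] at this
      simp [this]
  refine ⟨q, hqF.1, hqF.2.1, ?_, hr', hall⟩
  rcases hall _ ((htF q).mpr hqF.1) with e | e | e | e
  · exact absurd (by simpa [htt, htp] using congrArg (t • ·) e) hqF.2.1
  · exact e
  · exact absurd (by simpa [htt] using congrArg (t • ·) e) hqF.2.2.2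
  · exact absurd ((smul_left_cancel_iff t).mp e) hqF.2.2.1

omit [IsSimpleGroup G] [FaithfulSMul G Ω] in
/-- Case (i): a fixed set of an element of `E` which is not invariant. -/
theorem case_moved (h04 : ∀ g : G, orderOf g = 2 → (fixedBy Ω g).Nonempty →
      Nat.card (fixedBy Ω g) = 4)
    {E : Subgroup G} (hES : E ≤ S) (hEn : ∀ s ∈ (S : Subgroup G), ∀ x ∈ E, s * x * s⁻¹ ∈ E)
    (hE8 : Nat.card E = 8) (hE2 : ∀ x ∈ E, x ^ 2 = 1) {e : G} (he : e ∈ E) (he1 : e ≠ 1)
    (heF : (fixedBy Ω e).Nonempty) {s : G} (hs : s ∈ (S : Subgroup G))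
    (hsF : s ∉ setStab (fixedBy Ω e)) :
    Cfsg.SectionalPRankLE 2 4 (S : Subgroup G) := by
  classical
  haveI : Fact (Nat.Prime 2) := ⟨Nat.prime_two⟩
  set F := fixedBy Ω e with hFdef
  have hF : Nat.card F = 4 := h04 e (orderOf_eq_prime (hE2 e he) he1) heF
  set e' := s * e * s⁻¹ with he'def
  have he' : e' ∈ E := hEn s hs e he
  set F' := fixedBy Ω e' with hF'def
  have hF'im : F' = (fun x => s • x) '' F := fixedBy_conj s e
  have hF' : Nat.card F' = 4 := by rw [hF'def, he'def, card_fixedBy_conj, hF]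
  have hFF' : F ≠ F' := fun h => hsF fun x => by
    constructor
    · intro hx
      rw [h, hF'im] at hx
      obtain ⟨y, hy, e0⟩ := hx
      rwa [(smul_left_cancel_iff s).mp e0] at hy
    · exact fun hx => by rw [h, hF'im]; exact ⟨x, hx, rfl⟩
  have hs'F' : s⁻¹ ∉ setStab F' := fun h => hFF' (by
    rw [hF'im]
    ext x
    have h1 := h (s • x)
    rw [inv_smul_smul, hF'im] at h1
    constructor
    · intro hx
      have h2 : x ∈ (fun x => s • x) '' F := h1.mpr ⟨x, hx, rfl⟩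
      exact h2
    · intro hx
      obtain ⟨y, hy, e0⟩ := h1.mp hx
      rwa [(smul_left_cancel_iff s).mp e0] at hy)
  set D := (S : Subgroup G) ⊓ Subgroup.centralizer (E : Set G) with hD
  have hDc : ∀ d ∈ D, ∀ x ∈ E, Commute x d := fun d hd x hx => Subgroup.mem_centralizer_iff.mp hd.2 x hx
  have hED : E ≤ D := fun x hx =>
    ⟨hES hx, Subgroup.mem_centralizer_iff.mpr fun y hy => (sq_one_comm hE2 hy hx).eq⟩
  have hDF : D ≤ setStab F := fun d hd => mem_setStab_fixedBy (hDc d hd e he).symm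
  have hDF' : D ≤ setStab F' := fun d hd => mem_setStab_fixedBy (hDc d hd e' he').symm
  have hsmall : Nat.card D ≤ 8 → Cfsg.SectionalPRankLE 2 4 (S : Subgroup G) := fun h => by
    have hDE : D = E := (Subgroup.eq_of_le_of_card_ge hED (by rw [hE8]; exact h)).symm
    exact sectional_of_self_centralizing S hES hE8 hE2 fun c hc hcE =>
      hDE ▸ (⟨hc, Subgroup.mem_centralizer_iff.mpr fun x hx => (hcE x hx).eq⟩ : c ∈ D)
  have hDS : D ≤ (S : Subgroup G) := inf_le_left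
  have hpow : ∀ X : Subgroup G, X ≤ (S : Subgroup G) → ∃ k, Nat.card X = 2 ^ k := fun X hX =>
    (S.isPGroup'.to_le hX).exists_card_eq
  by_cases hA : ∃ e₁ ∈ E, ∃ p ∈ F, e₁ • p = p ∧ e₁ ∉ ptStab F
  · -- the image is not regular
    obtain ⟨e₁, he₁, p, hp, hep, he₁F⟩ := hA
    obtain ⟨r, hr, her⟩ : ∃ r ∈ F, e₁ • r ≠ r := by
      by_contra h
      push Not at h
      exact he₁F h
    have he₁1 : e₁ ≠ 1 := fun h => her (by rw [h, one_smul])
    obtain ⟨q, hq, hqp, heq, hr', hall⟩ := fix_two hF (hE2 e₁ he₁) (hDF (hED he₁)) hp hep hr her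
    have h4 : Nat.card (fixedBy Ω e₁) = 4 := h04 e₁ (orderOf_eq_prime (hE2 e₁ he₁) he₁1) ⟨p, hep⟩
    obtain ⟨d₀, hd₀, hd₀F⟩ : ∃ d ∈ fixedBy Ω e₁, d ∉ F := by
      by_contra h
      push Not at h
      refine he₁F (mem_ptStab_iff_subset.mpr ?_)
      rw [Set.eq_of_subset_of_ncard_le h (by rw [← Nat.card_coe_set_eq, ← Nat.card_coe_set_eq, hF, h4]) (Set.toFinite _)]
    have hK2 : Nat.card ↥(D ⊓ ptStab F) ≤ 2 := by
      have hout : (fixedBy Ω e₁ \ F).ncard ≤ 2 := by
        have hsub : ({p, q} : Set Ω) ⊆ fixedBy Ω e₁ := by rintro x (rfl | rfl) <;> assumption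
        have hle : fixedBy Ω e₁ \ F ⊆ fixedBy Ω e₁ \ {p, q} :=
          Set.sdiff_subset_sdiff_right (by rintro x (rfl | rfl) <;> assumption)
        refine (Set.ncard_le_ncard hle (Set.toFinite _)).trans ?_
        rw [Set.ncard_sdiff hsub, Set.ncard_pair hqp.symm, ← Nat.card_coe_set_eq, h4]
      have h := card_le_mul_of_subset (H := D ⊓ ptStab F) (K := ⊥) (d := d₀) (X := fixedBy Ω e₁ \ F)
        (fun k hk => ⟨(mem_setStab_fixedBy (hDc k hk.1 e₁ he₁).symm d₀).mpr hd₀,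
          fun h => hd₀F ((ptStab_le_setStab F hk.2 d₀).mp h)⟩)
        (fun k hk e0 => by
          by_contra h1
          refine hd₀F ?_
          rw [← fixedBy_eq_four B hF hk.2 (fun h => h1 (Subgroup.mem_bot.mpr h))]
          exact e0)
      rw [Subgroup.card_bot, mul_one, Nat.card_coe_set_eq] at h
      exact h.trans hout
    refine hsmall ?_
    have hcm : ∀ d ∈ D, ∀ x : Ω, e₁ • x = x ↔ e₁ • d • x = d • x := fun d hd x => by
      rw [← mul_smul, (hDc d hd e₁ he₁).eq, mul_smul, smul_left_cancel_iff]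
    have hne' : e₁ • e₁ • r ≠ e₁ • r := fun h => her ((smul_left_cancel_iff e₁).mp h)
    have h1 : Nat.card D ≤ 2 * Nat.card ↥(D ⊓ stabilizer G p) := by
      have := card_le_mul_of_subset (H := D) (K := D ⊓ stabilizer G p) (d := p) (X := {p, q})
        (fun d hd => by
          have h := (hcm d hd p).mp hep
          rcases hall _ ((hDF hd p).mpr hp) with e0 | e0 | e0 | e0
          · exact Or.inl e0
          · exact Or.inr e0
          · exact absurd (e0 ▸ h) her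
          · exact absurd (e0 ▸ h) hne')
        fun d hd e0 => ⟨hd, e0⟩
      rwa [Nat.card_coe_set_eq, Set.ncard_pair hqp.symm] at this
    have h2 : Nat.card ↥(D ⊓ stabilizer G p) ≤ 2 * Nat.card ↥(D ⊓ ptStab F) := by
      have hX : ∀ d ∈ D, d • r = r ∨ d • r = e₁ • r := fun d hd => by
        rcases hall _ ((hDF hd r).mpr hr) with e0 | e0 | e0 | e0
        · exact absurd ((hcm d hd r).mpr (e0 ▸ hep)) her
        · exact absurd ((hcm d hd r).mpr (e0 ▸ heq)) her
        · exact Or.inl e0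
        · exact Or.inr e0
      have := card_le_mul_of_subset (H := D ⊓ stabilizer G p) (K := D ⊓ ptStab F) (d := r)
        (X := {r, e₁ • r}) (fun d hd => hX d hd.1) fun d hd e0 => by
          have hdp : d • p = p := hd.2
          refine ⟨hd.1, fun x hx => ?_⟩
          rcases hall x hx with rfl | rfl | rfl | rfl
          · exact hdp
          · rcases hall _ ((hDF hd.1 x).mpr hx) with e1 | e1 | e1 | e1
            · exact absurd ((smul_left_cancel_iff d).mp (e1.trans hdp.symm)) hqp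
            · exact e1
            · exact absurd (e1 ▸ (hcm d hd.1 x).mp heq) her
            · exact absurd (e1 ▸ (hcm d hd.1 x).mp heq) hne'
          · exact e0
          · rw [← mul_smul, ← (hDc d hd.1 e₁ he₁).eq, mul_smul, e0]
      rwa [Nat.card_coe_set_eq, Set.ncard_pair (Ne.symm her)] at this
    omega
  -- the image is regular
  push Not at hA
  have hA' : ∀ e₁ ∈ E, ∀ p ∈ F', e₁ • p = p → e₁ ∈ ptStab F' := by
    intro e₁ he₁ p hp h
    rw [hF'im] at hp ⊢
    obtain ⟨x, hx, rfl⟩ := hp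
    have hc : s⁻¹ * e₁ * s ∈ E := by simpa using hEn s⁻¹ (inv_mem hs) e₁ he₁
    have hpt := hA _ hc x hx (by rw [mul_smul, mul_smul, h, inv_smul_smul])
    rintro _ ⟨y, hy, rfl⟩
    have := hpt y hy
    rwa [mul_smul, mul_smul, inv_smul_eq_iff] at this
  have hk2 : Nat.card ↥(E ⊓ ptStab F) = 2 :=
    kernel_two B S hEn hE8 hE2 hF he he1 (fun x hx => hx) hs hsF
  have hk2' : Nat.card ↥(E ⊓ ptStab F') = 2 :=
    kernel_two B S hEn hE8 hE2 hF' he' (fun h => he1 (conj_eq_one_iff.mp h)) (fun x hx => hx)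
      (inv_mem hs) hs'F'
  have hdisj : ∀ x ∈ F, x ∉ F' := fun x hx hx' =>
    hFF' (fixedBy_eq_four B hF (hA e' he' x hx hx') fun h => he1 (conj_eq_one_iff.mp h)).symm
  have hEcomm : ∀ a ∈ E, ∀ b ∈ E, Commute a b := fun a ha b hb => sq_one_comm hE2 ha hb
  have trans : ∀ Φ : Set Ω, E ≤ setStab Φ → Nat.card Φ = 4 → Nat.card ↥(E ⊓ ptStab Φ) = 2 →
      (∀ e₁ ∈ E, ∀ p ∈ Φ, e₁ • p = p → e₁ ∈ ptStab Φ) → ∀ p ∈ Φ, ∀ q ∈ Φ, ∃ a ∈ E, a • p = q :=
    fun Φ hEΦ h4 hk h p hp => transitive_of_card (K := E ⊓ ptStab Φ) (fun a ha => (hEΦ ha p).mpr hp)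
      (fun a ha e0 => ⟨ha, h a ha p hp e0⟩) (by rw [h4, hk, hE8])
  obtain ⟨p, hp⟩ := heF
  have hp' : s • p ∈ F' := hF'im ▸ ⟨p, hp, rfl⟩
  have hDcard : ∀ Φ : Set Ω, D ≤ setStab Φ → Nat.card Φ = 4 → Nat.card ↥(E ⊓ ptStab Φ) = 2 →
      (∀ e₁ ∈ E, ∀ p ∈ Φ, e₁ • p = p → e₁ ∈ ptStab Φ) → Φ.Nonempty →
      Nat.card D = 4 * Nat.card ↥(D ⊓ ptStab Φ) := by
    rintro Φ hDΦ h4 hk h ⟨p, hp⟩
    have htr := trans Φ (hED.trans hDΦ) h4 hk h p hp
    apply le_antisymm
    · rw [← h4]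
      refine card_le_mul_of_subset (d := p) (fun d hd => (hDΦ hd p).mpr hp) fun d hd e0 => ?_
      obtain ⟨a, ha, hap, had⟩ := exists_same_action hp hEcomm htr ((hDΦ hd p).mpr hp)
        fun x hx => (hDc d hd x hx).symm
      have ha' : a ∈ ptStab Φ := h a ha p hp (hap.trans e0)
      have := (ptStab Φ).mul_mem ha' had
      rw [mul_inv_cancel_left] at this
      exact ⟨hd, this⟩
    · choose a ha hap using fun x : Φ => htr x x.2
      have hi : Function.Injective (fun z : Φ × ↥(D ⊓ ptStab Φ) =>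
          (⟨a z.1 * (z.2 : G), mul_mem (hED (ha z.1)) z.2.2.1⟩ : D)) := by
        rintro ⟨x, k⟩ ⟨y, l⟩ h0
        have h1 : a x * (k : G) = a y * (l : G) := congrArg Subtype.val h0
        have h2 : (x : Ω) = y := by
          have := congrArg (fun g : G => g • p) h1
          simp only [mul_smul] at this
          rwa [k.2.2 p hp, l.2.2 p hp, hap, hap] at this
        obtain rfl : x = y := Subtype.ext h2
        exact Prod.ext rfl (Subtype.ext (mul_left_cancel h1))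
      have := Nat.card_le_card_of_injective _ hi
      rwa [Nat.card_prod, h4] at this
  have hD1 := hDcard F hDF hF hk2 hA ⟨p, hp⟩
  have hD2 := hDcard F' hDF' hF' hk2' hA' ⟨_, hp'⟩
  set K₀ := D ⊓ ptStab F with hK₀
  set K₁ := D ⊓ ptStab F' with hK₁
  have semi : ∀ (Φ Ψ : Set Ω) (q : Ω), Nat.card Φ = 4 → Nat.card Ψ = 4 → q ∈ Ψ → q ∉ Φ →
      Nat.card ↥((S : Subgroup G) ⊓ ptStab Φ ⊓ setStab Ψ) ≤ 4 := by
    intro Φ Ψ q hΦ hΨ hq hqΦ
    have h := card_le_mul_of_subset (H := (S : Subgroup G) ⊓ ptStab Φ ⊓ setStab Ψ) (K := ⊥) (d := q)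
      (X := Ψ) (fun k hk => (hk.2 q).mpr hq) fun k hk e0 => by
        by_contra h1
        refine hqΦ ?_
        rw [← fixedBy_eq_four B hΦ hk.1.2 (fun h => h1 (Subgroup.mem_bot.mpr h))]
        exact e0
    rwa [hΨ, Subgroup.card_bot, mul_one] at h
  have hK₀le : K₀ ≤ (S : Subgroup G) ⊓ ptStab F ⊓ setStab F' :=
    fun k hk => ⟨⟨hDS hk.1, hk.2⟩, hDF' hk.1⟩
  have hK₁le : K₁ ≤ (S : Subgroup G) ⊓ ptStab F' ⊓ setStab F :=
    fun k hk => ⟨⟨hDS hk.1, hk.2⟩, hDF hk.1⟩
  have hL₀ := semi F F' (s • p) hF hF' hp' fun h => hdisj _ h hp'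
  have hL₁ := semi F' F p hF' hF hp (hdisj p hp)
  by_cases hbig : Nat.card D ≤ 8
  · exact hsmall hbig
  obtain ⟨k, hk⟩ := hpow K₀ (inf_le_left.trans hDS)
  have hk4 : Nat.card K₀ = 4 := by
    have h1 := (Subgroup.card_le_of_le hK₀le).trans hL₀
    rw [hk] at h1 hD1 ⊢
    have : k ≤ 2 := (Nat.pow_le_pow_iff_right (show 1 < 2 by norm_num)).mp h1
    interval_cases k <;> omega
  have hD16 : Nat.card D = 16 := by omega
  have hk4' : Nat.card K₁ = 4 := by omega
  have eqL₀ : (S : Subgroup G) ⊓ ptStab F ⊓ setStab F' = K₀ :=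
    (Subgroup.eq_of_le_of_card_ge hK₀le (by rw [hk4]; exact hL₀)).symm
  have eqL₁ : (S : Subgroup G) ⊓ ptStab F' ⊓ setStab F = K₁ :=
    (Subgroup.eq_of_le_of_card_ge hK₁le (by rw [hk4']; exact hL₁)).symm
  have htrF := trans F (hED.trans hDF) hF hk2 hA p hp
  have htrF' := trans F' (hED.trans hDF') hF' hk2' hA' _ hp'
  have hK₀2 : ∀ k ∈ K₀, k ^ 2 = 1 := fun k hk => by
    obtain ⟨a, ha, hap, hak⟩ := exists_same_action hp' hEcomm htrF' ((hDF' hk.1 _).mpr hp')
      fun x hx => (hDc k hk.1 x hx).symm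
    by_contra h1
    have hpt : k ^ 2 ∈ ptStab F := (ptStab F).pow_mem hk.2 2
    refine hdisj (s • p) ?_ hp'
    rw [← fixedBy_eq_four B hF hpt h1]
    show k ^ 2 • s • p = s • p
    rw [pow_two, mul_smul, ← hap, ← mul_smul k a, ← (hDc k hk.1 a ha).eq, mul_smul, ← hap,
      ← mul_smul, ← pow_two, hE2 a ha, one_smul]
  have hD2' : ∀ d ∈ D, d ^ 2 = 1 := fun d hd => by
    obtain ⟨a, ha, -, had⟩ := exists_same_action hp hEcomm htrF ((hDF hd p).mpr hp)
      fun x hx => (hDc d hd x hx).symm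
    have hm : a⁻¹ * d ∈ K₀ := ⟨D.mul_mem (D.inv_mem (hED ha)) hd, had⟩
    have h : (a * (a⁻¹ * d)) ^ 2 = 1 := by
      rw [Commute.mul_pow ((Commute.refl a).inv_right.mul_right (hDc d hd a ha)), hE2 a ha,
        hK₀2 _ hm, one_mul]
    rwa [mul_inv_cancel_left] at h
  haveI : (D.subgroupOf (S : Subgroup G)).Normal := ⟨fun d hd x => by
    refine Subgroup.mem_subgroupOf.mpr ⟨(x * d * x⁻¹).2, Subgroup.mem_centralizer_iff.mpr fun z hz => ?_⟩
    have h := hDc _ (Subgroup.mem_subgroupOf.mp hd) _ (by simpa using hEn _ (inv_mem x.2) z hz :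
      (x : G)⁻¹ * z * x ∈ E)
    simp only [Subgroup.coe_mul, InvMemClass.coe_inv]
    calc z * ((x : G) * (d : G) * (x : G)⁻¹) = x * (((x : G)⁻¹ * z * x) * d) * (x : G)⁻¹ := by group
      _ = _ := by rw [h.eq]; group⟩
  have hDeq : D.subgroupOf (S : Subgroup G) =
      Subgroup.centralizer ((E.subgroupOf (S : Subgroup G)) : Set (S : Subgroup G)) := by
    ext d
    constructor
    · exact fun hd => Subgroup.mem_centralizer_iff.mpr fun x hx => Subtype.ext (hDc d hd x hx).eq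
    · exact fun hd => ⟨d.2, Subgroup.mem_centralizer_iff.mpr fun x hx => congrArg
        (Subgroup.subtype (S : Subgroup G)) (Subgroup.mem_centralizer_iff.mp hd ⟨x, hES hx⟩ hx)⟩
  refine sectional_sixteen S.isPGroup' (D.subgroupOf (S : Subgroup G))
    ((Nat.card_congr (Subgroup.subgroupOfEquivOfLe hDS).toEquiv).trans hD16)
    (fun d hd => Subtype.ext (by simpa using hD2' _ (Subgroup.mem_subgroupOf.mp hd))) ?_ ?_ ?_
  · rw [hDeq]
    haveI : (E.subgroupOf (S : Subgroup G)).Normal :=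
      ⟨fun x hx y => Subgroup.mem_subgroupOf.mpr (hEn y y.2 x (Subgroup.mem_subgroupOf.mp hx))⟩
    exact index_centralizer_le_eight S.isPGroup' _
      ((Nat.card_congr (Subgroup.subgroupOfEquivOfLe hES).toEquiv).trans hE8)
      (fun x hx => Subtype.ext (by simpa using hE2 _ (Subgroup.mem_subgroupOf.mp hx)))
  · intro h8
    obtain ⟨x, hx, y, hy, h⟩ := not_abelian_of_index_eight S.isPGroup' hEn hE8 hE2 hD h8 he hs
      fun hc => hsF (mem_setStab_fixedBy hc)
    exact ⟨⟨x, hx⟩, ⟨y, hy⟩, fun hm => h (by simpa using Subgroup.mem_subgroupOf.mp hm)⟩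
  intro x hxD
  by_contra hC
  set Cx := D ⊓ Subgroup.centralizer ({(x : G)} : Set G) with hCx
  have hCxc : ∀ c ∈ Cx, Commute (x : G) c := fun c hc =>
    (Subgroup.mem_centralizer_singleton_iff.mp hc.2).symm
  have hCx8 : 8 ≤ Nat.card Cx := by
    obtain ⟨j, hj⟩ := hpow Cx (inf_le_left.trans hDS)
    have h1 : ¬ Nat.card Cx ≤ 4 := fun h4 => hC (le_trans (Nat.card_le_card_of_injective
      (fun c : ↥(D.subgroupOf (S : Subgroup G) ⊓ Subgroup.centralizer ({x} : Set (S : Subgroup G))) =>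
        (⟨((c : (S : Subgroup G)) : G), c.2.1, Subgroup.mem_centralizer_singleton_iff.mpr
          (congrArg (Subgroup.subtype (S : Subgroup G))
            (Subgroup.mem_centralizer_singleton_iff.mp c.2.2))⟩ : Cx))
      fun a b e0 => Subtype.ext (Subtype.ext (congrArg (fun z : Cx => (z : G)) e0))) h4)
    rw [hj] at h1 ⊢
    have h2 : 3 ≤ j := by
      by_contra h
      push Not at h
      interval_cases j <;> omega
    exact le_trans (by norm_num) (Nat.pow_le_pow_right (show 0 < 2 by norm_num) h2)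
  have meet : ∀ K : Subgroup G, K ≤ D → Nat.card K = 4 → ∃ k ∈ K, k ≠ 1 ∧ Commute (x : G) k := by
    intro K hK h4
    by_contra h
    push Not at h
    have hi : Function.Injective (fun z : K × Cx =>
        (⟨(z.1 : G) * z.2, mul_mem (hK z.1.2) z.2.2.1⟩ : D)) := by
      rintro ⟨a, c⟩ ⟨b, d⟩ h0
      have h1 : (a : G) * c = b * d := congrArg Subtype.val h0
      have h2 : (b : G)⁻¹ * a = d * (c : G)⁻¹ := by
        calc (b : G)⁻¹ * a = (b : G)⁻¹ * (a * c) * (c : G)⁻¹ := by group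
          _ = _ := by rw [h1]; group
      have h3 : (b : G)⁻¹ * a = 1 := by
        by_contra h'
        refine h _ (K.mul_mem (K.inv_mem b.2) a.2) h' ?_
        rw [h2]
        exact (hCxc d d.2).mul_right (hCxc c c.2).inv_right
      rw [h3] at h2
      exact Prod.ext (Subtype.ext (inv_mul_eq_one.mp h3).symm) (Subtype.ext (mul_inv_eq_one.mp h2.symm).symm)
    have := Nat.card_le_card_of_injective _ hi
    rw [Nat.card_prod, h4, hD16] at this
    omega
  obtain ⟨k, hk0, hk1, hkc⟩ := meet K₀ inf_le_left hk4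
  obtain ⟨l, hl0, hl1, hlc⟩ := meet K₁ inf_le_left hk4'
  have hxF : (x : G) ∈ setStab F := fixedBy_eq_four B hF hk0.2 hk1 ▸ mem_setStab_fixedBy hkc
  have hxF' : (x : G) ∈ setStab F' := fixedBy_eq_four B hF' hl0.2 hl1 ▸ mem_setStab_fixedBy hlc
  have hCxcomm : ∀ a ∈ Cx, ∀ b ∈ Cx, Commute a b := fun a ha b hb => sq_one_comm hD2' ha.1 hb.1
  have finish : ∀ (Φ Ψ : Set Ω) (q : Ω), q ∈ Φ → (x : G) ∈ setStab Φ → (x : G) ∈ setStab Ψ →
      D ≤ setStab Ψ → (S : Subgroup G) ⊓ ptStab Φ ⊓ setStab Ψ ≤ D →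
      (∀ y ∈ Φ, ∃ c ∈ Cx, c • q = y) → False := by
    intro Φ Ψ q hq hxΦ hxΨ hDΨ hL htr
    obtain ⟨c, hc, -, hcx⟩ := exists_same_action hq hCxcomm htr ((hxΦ q).mpr hq) hCxc
    have hm : c⁻¹ * (x : G) ∈ D := hL ⟨⟨(S : Subgroup G).mul_mem ((S : Subgroup G).inv_mem
      (hDS hc.1)) x.2, hcx⟩, (setStab Ψ).mul_mem ((setStab Ψ).inv_mem (hDΨ hc.1)) hxΨ⟩
    have := D.mul_mem hc.1 hm
    rw [mul_inv_cancel_left] at this
    exact hxD (Subgroup.mem_subgroupOf.mpr this)
  by_cases hK : K₁ ≤ Cx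
  · refine finish F F' p hp hxF hxF' hDF' (eqL₀ ▸ inf_le_left) fun y hy => ?_
    obtain ⟨c, hc, e0⟩ := transitive_of_card (H := K₁) (K := ⊥) (d := p) (X := F)
      (fun c hc => (hDF hc.1 p).mpr hp) (fun c hc e0 => by
        by_contra h1
        refine hdisj p hp ?_
        rw [← fixedBy_eq_four B hF' hc.2 (fun h => h1 (Subgroup.mem_bot.mpr h))]
        exact e0)
      (by rw [hF, Subgroup.card_bot, hk4']) y hy
    exact ⟨c, hK hc, e0⟩
  · refine finish F' F (s • p) hp' hxF' hxF hDF (eqL₁ ▸ inf_le_left) ?_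
    refine transitive_of_card (K := Cx ⊓ K₁) (fun c hc => (hDF' hc.1 _).mpr hp') (fun c hc e0 => ?_) ?_
    · obtain ⟨a, ha, hap, hac⟩ := exists_same_action hp' hEcomm htrF' ((hDF' hc.1 _).mpr hp')
        fun z hz => (hDc c hc.1 z hz).symm
      have h1 := (ptStab F').mul_mem (hA' a ha _ hp' (hap.trans e0)) hac
      rw [mul_inv_cancel_left] at h1
      exact ⟨hc, hc.1, h1⟩
    · have hlt : Nat.card ↥(Cx ⊓ K₁) ≤ 2 := by
        have hd := Subgroup.card_dvd_of_le (inf_le_right : Cx ⊓ K₁ ≤ K₁)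
        rw [hk4'] at hd
        have hne : Nat.card ↥(Cx ⊓ K₁) ≠ 4 := fun h => hK (fun z hz =>
          ((Subgroup.eq_of_le_of_card_ge (inf_le_right : Cx ⊓ K₁ ≤ K₁) (by rw [h, hk4'])).ge hz).1)
        have := Nat.le_of_dvd (by norm_num) hd
        interval_cases (Nat.card ↥(Cx ⊓ K₁)) <;> omega
      rw [hF']
      omega

end Simple

end CfsgLib.FixityFour
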