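import Cfsg.Agent.Lib.FixityFour.Base
import Cfsg.Agent.Lib.Transfer.Gruen

/-!
Odd point stabilisers of order divisible by three: either the stabiliser of a set of fixed points is
strongly 3-embedded, or some element of order three of a Sylow 3-subgroup has a centraliser of order nine
there and is not inverted by its normaliser (`notes/s3365_plan.md`, section `f = 0`).
-/

set_option autoImplicit false
set_option linter.style.haveILetI false
set_option linter.unusedSectionVars false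

namespace CfsgLib.FixityFour

open MulAction
open scoped commutatorElement

variable {G Ω : Type*} [Group G] [MulAction G Ω] [Finite G] [Finite Ω]

theorem odd_dvd_three : ∀ d ∈ (24 : ℕ).divisors, d % 2 = 1 → d ∣ 3 := by decide +kernel

theorem fixedBy_inv (g : G) : fixedBy Ω g⁻¹ = fixedBy Ω g := by
  ext x
  rw [mem_fixedBy, mem_fixedBy, inv_smul_eq_iff, eq_comm]

theorem mem_setStab_of_image {g : G} {Δ : Set Ω} (h : (fun x => g • x) '' Δ = Δ) :
    g ∈ setStab Δ := fun x => by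
  constructor
  · intro hx
    rw [← h] at hx
    obtain ⟨y, hy, e⟩ := hx
    rwa [← smul_left_cancel g e]
  · intro hx
    rw [← h]
    exact ⟨x, hx, rfl⟩

theorem mem_setStab_of_conj {g x : G} (h : fixedBy Ω (g * x * g⁻¹) = fixedBy Ω x) :
    g ∈ setStab (fixedBy Ω x) :=
  mem_setStab_of_image ((fixedBy_conj g x).symm.trans h)

/-- A group of odd order stabilising at most four points is abelian of order at most three on them. -/
theorem small_image {Δ : Set Ω} (hΔ : Nat.card Δ ≤ 4) {K : Subgroup G} (hK : K ≤ setStab Δ)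
    (hodd : ∀ g ∈ K, Odd (orderOf g)) :
    ⁅K, K⁆ ≤ ptStab Δ ∧ (ptStab Δ).relIndex K ∣ 3 ∧
      ∀ L : Subgroup G, L ≤ K → L ⊓ ptStab Δ = ⊥ → Nat.card L ≤ 3 := by
  classical
  let θ : K →* Equiv.Perm Δ :=
    { toFun := fun g => Equiv.subtypeEquiv (MulAction.toPerm (g : G)) fun x => (hK g.2 x).symm
      map_one' := by
        ext x
        show (((1 : K) : G)) • (x : Ω) = x
        rw [Subgroup.coe_one, one_smul]
      map_mul' := fun a b => by
        ext x
        exact mul_smul (a : G) (b : G) (x : Ω) }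
  have hker : θ.ker = (ptStab Δ).subgroupOf K := by
    ext g
    rw [MonoidHom.mem_ker, Subgroup.mem_subgroupOf, mem_ptStab]
    constructor
    · intro h x hx
      exact congrArg (fun σ : Equiv.Perm Δ => ((σ ⟨x, hx⟩ : Δ) : Ω)) h
    · intro h
      ext x
      exact h x x.2
  have h3 : Nat.card θ.range ∣ 3 := by
    refine odd_dvd_three _ (Nat.mem_divisors.mpr ⟨?_, by norm_num⟩) ?_
    · refine (Subgroup.card_subgroup_dvd_card θ.range).trans ?_
      rw [Nat.card_perm]
      exact Nat.factorial_dvd_factorial hΔ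
    · by_contra h
      haveI : Fact (Nat.Prime 2) := ⟨Nat.prime_two⟩
      obtain ⟨⟨s, g, rfl⟩, hs⟩ := exists_prime_orderOf_dvd_card' (G := θ.range) 2 (by omega)
      have h2 : 2 ∣ orderOf (g : G) := by
        have hs' : orderOf (θ g) = 2 := (Subgroup.orderOf_coe _).trans hs
        rw [Subgroup.orderOf_coe, ← hs']
        exact orderOf_map_dvd θ g
      exact Nat.not_even_iff_odd.mpr (hodd _ g.2) (even_iff_two_dvd.mpr h2)
  refine ⟨?_, ?_, ?_⟩
  · haveI : Fact (Nat.Prime 3) := ⟨Nat.prime_three⟩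
    haveI := isCyclic_of_card_dvd_prime h3
    rw [Subgroup.commutator_le]
    intro a ha b hb
    have hc : θ ⟨a, ha⟩ * θ ⟨b, hb⟩ = θ ⟨b, hb⟩ * θ ⟨a, ha⟩ :=
      congrArg Subtype.val (IsCyclic.commutative.is_comm.comm (θ.rangeRestrict ⟨a, ha⟩) (θ.rangeRestrict ⟨b, hb⟩))
    have hm : (⟨a, ha⟩ * ⟨b, hb⟩ * ⟨a, ha⟩⁻¹ * ⟨b, hb⟩⁻¹ : K) ∈ θ.ker := by
      rw [MonoidHom.mem_ker, map_mul, map_mul, map_mul, map_inv, map_inv, hc]
      group
    rw [hker, Subgroup.mem_subgroupOf] at hm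
    rw [commutatorElement_def]
    simpa using hm
  · rw [Subgroup.relIndex, ← hker, Subgroup.index_ker]
    exact h3
  · intro L hL hLb
    refine le_trans ?_ (Nat.le_of_dvd (by norm_num) h3)
    refine Nat.card_le_card_of_injective (θ.rangeRestrict.comp (Subgroup.inclusion hL)) ?_
    rw [← MonoidHom.ker_eq_bot_iff, Subgroup.eq_bot_iff_forall]
    intro l hl
    rw [MonoidHom.mem_ker, MonoidHom.comp_apply] at hl
    have hm : Subgroup.inclusion hL l ∈ θ.ker := MonoidHom.mem_ker.mpr (congrArg Subtype.val hl)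
    rw [hker, Subgroup.mem_subgroupOf] at hm
    exact Subtype.ext (Subgroup.mem_bot.mp (hLb ▸ Subgroup.mem_inf.mpr ⟨l.2, hm⟩))

/-- An element of odd order inverts no element of order three. -/
theorem not_invert {g y : G} (hy : orderOf y = 3) (hg : Odd (orderOf g)) : g * y * g⁻¹ ≠ y⁻¹ := by
  intro h
  obtain ⟨r, hr⟩ := hg
  have h2 : ∀ i : ℕ, g ^ (2 * i) * y * (g ^ (2 * i))⁻¹ = y := by
    intro i
    induction i with
    | zero => simp
    | succ i ih =>
      calc g ^ (2 * (i + 1)) * y * (g ^ (2 * (i + 1)))⁻¹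
          = g * (g * (g ^ (2 * i) * y * (g ^ (2 * i))⁻¹) * g⁻¹) * g⁻¹ := by
            rw [show 2 * (i + 1) = 2 * i + 1 + 1 by ring, pow_succ', pow_succ']; group
        _ = y := by rw [ih, h, ← conj_inv, h, inv_inv]
  have h1 : g ^ orderOf g * y * (g ^ orderOf g)⁻¹ = y⁻¹ := by
    rw [hr, pow_succ', ← h]
    calc g * g ^ (2 * r) * y * (g * g ^ (2 * r))⁻¹ = g * (g ^ (2 * r) * y * (g ^ (2 * r))⁻¹) * g⁻¹ := by group
      _ = _ := by rw [h2]
  rw [pow_orderOf_eq_one, one_mul, inv_one, mul_one] at h1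
  have hd : orderOf y ∣ 2 := orderOf_dvd_of_pow_eq_one (by
    rw [pow_two]
    exact mul_eq_one_iff_eq_inv.mpr h1)
  rw [hy] at hd
  norm_num at hd

variable [IsSimpleGroup G] [FaithfulSMul G Ω] (B : Fixity G Ω)

include B

theorem commutator_eq_top : commutator G = ⊤ := by
  rcases (inferInstance : (commutator G).Normal).eq_bot_or_eq_top with h | h
  · refine absurd ?_ B.nonab
    refine ⟨⟨fun a b => ?_⟩⟩
    have hm : ⁅a, b⁆ ∈ commutator G :=
      Subgroup.commutator_mem_commutator (Subgroup.mem_top a) (Subgroup.mem_top b)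
    rw [h, Subgroup.mem_bot] at hm
    exact commutatorElement_eq_one_iff_mul_comm.mp hm
  · exact h

/-- If every element of order three stabilising a small set fixes exactly that set, the stabiliser of the
set is strongly 3-embedded. -/
theorem strongly_three (P : Sylow 3 G) {F : Set Ω} (h0 : F.Nonempty) (h4 : Nat.card F ≤ 4)
    (hP : (P : Subgroup G) ≤ ptStab F) (h3 : 3 ∣ Nat.card G)
    (hx : ∀ x ∈ (P : Subgroup G), x ≠ 1 → fixedBy Ω x = F) :
    ∃ H : Subgroup G, H ≠ ⊤ ∧ 3 ∣ Nat.card H ∧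
      ∀ g : G, g ∉ H → ¬ 3 ∣ Nat.card ↥(H ⊓ H.map (MulAut.conj g).toMonoidHom) := by
  haveI : Fact (Nat.Prime 3) := ⟨Nat.prime_three⟩
  have hPH : (P : Subgroup G) ≤ setStab F := hP.trans (ptStab_le_setStab F)
  refine ⟨setStab F, setStab_ne_top B h0 h4, ?_, ?_⟩
  · exact (P.dvd_card_of_dvd_card h3).trans (Subgroup.card_dvd_of_le hPH)
  have key : ∀ w : G, w ∈ setStab F → orderOf w = 3 → fixedBy Ω w = F := by
    intro w hw ho
    have hp : IsPGroup 3 (Subgroup.zpowers (⟨w, hw⟩ : setStab (G := G) F)) :=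
      IsPGroup.of_card (n := 1) (by rw [Nat.card_zpowers, Subgroup.orderOf_mk, ho, pow_one])
    obtain ⟨Q, hQ⟩ := hp.exists_le_sylow
    obtain ⟨h, hh⟩ := MulAction.exists_smul_eq (setStab (G := G) F) (P.subtype hPH) Q
    have hm : (⟨w, hw⟩ : setStab (G := G) F) ∈ Q := hQ (Subgroup.mem_zpowers _)
    rw [← hh] at hm
    obtain ⟨v, hv, e⟩ := (Subgroup.mem_map.mp (by
      rwa [← SetLike.mem_coe, ← Sylow.coe_coe, Sylow.coe_subgroup_smul, SetLike.mem_coe] at hm))
    have hv' : (v : G) ∈ (P : Subgroup G) := hv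
    have e' : (h : G) * v * (h : G)⁻¹ = w := congrArg Subtype.val e
    have hv1 : (v : G) ≠ 1 := fun hv1 => by
      rw [hv1, mul_one, mul_inv_cancel] at e'
      rw [← e', orderOf_one] at ho
      norm_num at ho
    rw [← e', fixedBy_conj, hx _ hv' hv1]
    ext z
    constructor
    · rintro ⟨u, hu, rfl⟩
      exact (h.2 u).mpr hu
    · intro hz
      exact ⟨(h : G)⁻¹ • z, ((inv_mem h.2 : (h : G)⁻¹ ∈ setStab F) z).mpr hz, smul_inv_smul _ z⟩
  intro g hg hdvd
  obtain ⟨W, ho⟩ := exists_prime_orderOf_dvd_card' 3 hdvd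
  rw [← Subgroup.orderOf_coe] at ho
  obtain ⟨hwH, v, hv, e⟩ := W.2
  set w : G := (W : G)
  have e' : g * v * g⁻¹ = w := e
  have hov : orderOf v = 3 := by
    rw [← ho, ← e', ← MulAut.conj_apply, MulEquiv.orderOf_eq]
  refine hg ?_
  have h1 := key w hwH ho
  rw [← e', fixedBy_conj, key v hv hov] at h1
  exact mem_setStab_of_image h1

/-- The common part of the two cases: a Sylow 3-subgroup has elements fixing the maximal number of
points, none of these sets being fixed by the whole subgroup. -/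
theorem exists_self_cent_three (P : Sylow 3 G) {k : ℕ} (hk : k ≤ 4) (hk0 : 0 < k)
    (hex : ∃ x ∈ (P : Subgroup G), x ≠ 1 ∧ Nat.card (fixedBy Ω x) = k)
    (hmax : ∀ x ∈ (P : Subgroup G), x ≠ 1 → Nat.card (fixedBy Ω x) ≤ k)
    (hP : ∀ Δ : Set Ω, Nat.card Δ = k → ¬ (P : Subgroup G) ≤ ptStab Δ)
    (hodd : ∀ g ∈ Subgroup.normalizer ((P : Subgroup G) : Set G), ∀ x ∈ (P : Subgroup G), x ≠ 1 →
      Nat.card (fixedBy Ω x) = k → g ∈ setStab (fixedBy Ω x) → Odd (orderOf g)) :
    ∃ y : G, y ∈ P ∧ orderOf y = 3 ∧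
      Nat.card ↥((P : Subgroup G) ⊓ Subgroup.centralizer ({y} : Set G)) = 9 ∧
      ∀ g ∈ Subgroup.normalizer ((P : Subgroup G) : Set G), g * y * g⁻¹ ≠ y⁻¹ := by
  classical
  haveI : Fact (Nat.Prime 3) := ⟨Nat.prime_three⟩
  have hPodd : ∀ g ∈ (P : Subgroup G), Odd (orderOf g) := fun g hg => by
    obtain ⟨j, hj⟩ := (Nat.dvd_prime_pow Nat.prime_three).mp
      ((Subgroup.orderOf_dvd_natCard _ hg).trans (dvd_of_eq P.card_eq_multiplicity))
    rw [hj.2]
    exact (by decide : Odd 3).pow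
  -- the fixers of a set of `k` points
  let Fk : G → Prop := fun x => x ∈ (P : Subgroup G) ∧ x ≠ 1 ∧ Nat.card (fixedBy Ω x) = k
  let R : G → Subgroup G := fun x => (P : Subgroup G) ⊓ ptStab (fixedBy Ω x)
  let N : G → Subgroup G := fun x => (P : Subgroup G) ⊓ setStab (fixedBy Ω x)
  have hRmem : ∀ x, Fk x → x ∈ R x := fun x hx => ⟨hx.1, fun z hz => hz⟩
  have hRfix : ∀ x, Fk x → ∀ w ∈ R x, w ≠ 1 → fixedBy Ω w = fixedBy Ω x := by
    intro x hx w hw h1
    refine (Set.eq_of_subset_of_ncard_le (mem_ptStab_iff_subset.mp hw.2) ?_ (Set.toFinite _)).symm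
    rw [← Nat.card_coe_set_eq, ← Nat.card_coe_set_eq, hx.2.2]
    exact hmax w hw.1 h1
  have hRk : ∀ x, Fk x → ∀ w ∈ R x, w ≠ 1 → Fk w := fun x hx w hw h1 =>
    ⟨hw.1, h1, by rw [hRfix x hx w hw h1, hx.2.2]⟩
  have hTI : ∀ x x', Fk x → Fk x' → fixedBy Ω x ≠ fixedBy Ω x' → R x' ⊓ ptStab (fixedBy Ω x) = ⊥ := by
    intro x x' hx hx' hne
    rw [Subgroup.eq_bot_iff_forall]
    intro w hw
    by_contra h1
    exact hne ((hRfix x hx w ⟨hw.1.1, hw.2⟩ h1).symm.trans (hRfix x' hx' w hw.1 h1))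
  have hsmall : ∀ x, Fk x → (ptStab (fixedBy Ω x)).relIndex (N x) ∣ 3 ∧
      ∀ L : Subgroup G, L ≤ N x → L ⊓ ptStab (fixedBy Ω x) = ⊥ → Nat.card L ≤ 3 := fun x hx =>
    (small_image (by rw [hx.2.2]; exact hk) inf_le_right fun g hg => hPodd g hg.1).2
  -- a proper subgroup of `P` is properly contained in its normaliser there
  have hgrow : ∀ L : Subgroup G, L ≤ (P : Subgroup G) → L ≠ (P : Subgroup G) →
      ∃ u ∈ (P : Subgroup G), u ∉ L ∧ ∀ w ∈ L, u * w * u⁻¹ ∈ L := by
    intro L hL hne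
    haveI : Group.IsNilpotent (P : Subgroup G) := P.isPGroup'.isNilpotent
    have hlt : L.subgroupOf (P : Subgroup G) < ⊤ := lt_top_iff_ne_top.mpr fun h =>
      hne (le_antisymm hL (Subgroup.subgroupOf_eq_top.mp h))
    obtain ⟨u, hu, hu'⟩ := SetLike.exists_of_lt (Group.normalizerCondition_of_isNilpotent _ hlt)
    refine ⟨u, u.2, hu', fun w hw => ?_⟩
    exact (Subgroup.mem_normalizer_iff.mp hu ⟨w, hL hw⟩).mp hw
  have hRne : ∀ x, Fk x → R x ≠ (P : Subgroup G) := fun x hx h =>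
    hP _ hx.2.2 fun w hw => (h.symm ▸ hw : w ∈ R x).2
  -- some element fixing `k` points generates its pointwise stabiliser in `P`
  have hthree : ∃ x, Fk x ∧ Nat.card (R x) ≤ 3 := by
    by_contra hbig
    push Not at hbig
    have hnorm : ∀ x, Fk x → N x = (P : Subgroup G) := by
      intro x hx
      by_contra hne
      obtain ⟨u, hu, huN, huc⟩ := hgrow (N x) inf_le_left hne
      have hx' : Fk (u * x * u⁻¹) := ⟨mul_mem (mul_mem hu hx.1) (inv_mem hu),
        fun h => hx.2.1 (conj_eq_one_iff.mp h), by rw [card_fixedBy_conj, hx.2.2]⟩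
      have hle : R (u * x * u⁻¹) ≤ N x := by
        intro w hw
        have hw' : u⁻¹ * w * u ∈ R x := by
          refine Subgroup.mem_inf.mpr ⟨mul_mem (mul_mem (inv_mem hu) (Subgroup.mem_inf.mp hw).1) hu, fun z hz => ?_⟩
          rw [mul_smul, mul_smul, inv_smul_eq_iff]
          exact hw.2 _ (by rw [fixedBy_conj]; exact ⟨z, hz, rfl⟩)
        have := huc _ ⟨hw'.1, ptStab_le_setStab _ hw'.2⟩
        rwa [show u * (u⁻¹ * w * u) * u⁻¹ = w by group] at this
      have hlt := (hsmall x hx).2 _ hle (hTI x _ hx hx' fun h =>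
        huN ⟨hu, mem_setStab_of_conj h.symm⟩)
      exact absurd hlt (not_le.mpr (hbig _ hx'))
    obtain ⟨x, hxP, hx1, hxk⟩ := hex
    have hx : Fk x := ⟨hxP, hx1, hxk⟩
    have hall : ∀ w, Fk w → fixedBy Ω w = fixedBy Ω x := by
      intro w hw
      by_contra hne
      refine absurd ((hsmall x hx).2 (R w) ?_ (hTI x w hx hw (Ne.symm hne))) (not_le.mpr (hbig w hw))
      rw [hnorm x hx]
      exact inf_le_left
    have hallR : ∀ w, Fk w → w ∈ R x := fun w hw => ⟨hw.1, fun z hz => (by rwa [← hall w hw] at hz)⟩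
    have hPset : (P : Subgroup G) ≤ setStab (fixedBy Ω x) := fun w hw =>
      ((hnorm x hx).symm ▸ hw : w ∈ N x).2
    set M := Subgroup.normalizer ((P : Subgroup G) : Set G)
    have hMset : M ≤ setStab (fixedBy Ω x) := fun g hg => mem_setStab_of_conj (hall _
      ⟨(Subgroup.mem_normalizer_iff.mp hg x).mp hxP, fun h => hx1 (conj_eq_one_iff.mp h),
        by rw [card_fixedBy_conj, hxk]⟩)
    have hMcomm : ⁅M, M⁆ ≤ ptStab (fixedBy Ω x) := (small_image (by rw [hxk]; exact hk) hMset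
      fun g hg => hodd g hg x hxP hx1 hxk (hMset hg)).1
    have hPcomm : ⁅(P : Subgroup G), (P : Subgroup G)⁆ ≤ R x :=
      le_inf (Subgroup.commutator_le_self _)
        (small_image (by rw [hxk]; exact hk) hPset hPodd).1
    have hgr : Transfer.gruenSub P ≤ R x := by
      refine sup_le (fun w hw => ⟨hw.1, hMcomm hw.2⟩) (iSup_le fun z => ?_)
      rintro w ⟨hwP, v, hv, e⟩
      by_cases hw1 : w = 1
      · rw [hw1]; exact one_mem _
      have e' : z * v * z⁻¹ = w := e
      refine hallR w ⟨hwP, hw1, ?_⟩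
      rw [← e', card_fixedBy_conj, hRfix x hx v (hPcomm hv) (fun h => hw1 (by rw [← e', h]; group)), hxk]
    rw [← Transfer.inf_commutator_eq_gruenSub, commutator_eq_top B, inf_top_eq] at hgr
    exact hRne x hx (le_antisymm inf_le_left hgr)
  obtain ⟨x, hx, hR3⟩ := hthree
  have hcard : Nat.card (R x) = 3 := by
    obtain ⟨j, hj⟩ := (IsPGroup.iff_card.mp (P.isPGroup'.to_le (inf_le_left : R x ≤ P)))
    have hne : Nat.card (R x) ≠ 1 := fun h => hx.2.1 (by
      have := (Subgroup.card_eq_one.mp h) ▸ hRmem x hx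
      exact Subgroup.mem_bot.mp this)
    rw [hj] at hR3 hne ⊢
    rcases j with _ | _ | j
    · simp at hne
    · rfl
    · have : 1 ≤ 3 ^ j := Nat.one_le_pow _ _ (by norm_num)
      rw [pow_succ, pow_succ] at hR3
      omega
  have hox : orderOf x = 3 := by
    rcases (Nat.dvd_prime Nat.prime_three).mp (hcard ▸ Subgroup.orderOf_dvd_natCard _ (hRmem x hx)) with h | h
    · exact absurd (orderOf_eq_one_iff.mp h) hx.2.1
    · exact h
  have hN9 : Nat.card (N x) = 9 := by
    have hle : R x ≤ N x := inf_le_inf_left _ (ptStab_le_setStab _)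
    have h1 := ((R x).subgroupOf (N x)).card_mul_index
    rw [Nat.card_congr (Subgroup.subgroupOfEquivOfLe hle).toEquiv, hcard] at h1
    have heq : (R x).subgroupOf (N x) = (ptStab (fixedBy Ω x)).subgroupOf (N x) := by
      ext w
      simp only [Subgroup.mem_subgroupOf, R, Subgroup.mem_inf]
      exact ⟨fun h => h.2, fun h => ⟨w.2.1, h⟩⟩
    rcases (Nat.dvd_prime Nat.prime_three).mp ((hsmall x hx).1) with h | h
    · exfalso
      obtain ⟨u, hu, huR, huc⟩ := hgrow (R x) inf_le_left (hRne x hx)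
      refine huR ⟨hu, ?_⟩
      have hc := huc x (hRmem x hx)
      have huN : u ∈ N x := ⟨hu, mem_setStab_of_conj (hRfix x hx _ hc fun h =>
        hx.2.1 (conj_eq_one_iff.mp h))⟩
      exact Subgroup.relIndex_eq_one.mp h huN
    · rw [heq, show ((ptStab (fixedBy Ω x)).subgroupOf (N x)).index = 3 from h] at h1
      rw [← h1]
  refine ⟨x, hx.1, hox, ?_, fun g hg he => ?_⟩
  · rw [← hN9]
    refine congrArg (fun L : Subgroup G => Nat.card L) (le_antisymm (fun w hw => ?_) fun w hw => ?_)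
    · exact ⟨hw.1, mem_setStab_fixedBy (Subgroup.mem_centralizer_singleton_iff.mp hw.2)⟩
    · refine ⟨hw.1, Subgroup.mem_centralizer_singleton_iff.mpr ?_⟩
      have hc := IsPGroup.commutative_of_card_eq_prime_sq (p := 3) (G := N x) (by rw [hN9]; norm_num)
      exact congrArg Subtype.val (hc ⟨w, hw⟩ ⟨x, hx.1, ptStab_le_setStab _ (hRmem x hx).2⟩)
  · refine not_invert hox (hodd g hg x hx.1 hx.2.1 hx.2.2 ?_) he
    exact mem_setStab_of_conj (by rw [he, fixedBy_inv])

/-- Odd point stabilisers of order divisible by three. -/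
theorem odd_branch (a : Ω) (hodd : Odd (Nat.card (MulAction.stabilizer G a)))
    (h3 : 3 ∣ Nat.card (MulAction.stabilizer G a)) :
    (∃ H : Subgroup G, H ≠ ⊤ ∧ 3 ∣ Nat.card H ∧
      ∀ g : G, g ∉ H → ¬ 3 ∣ Nat.card ↥(H ⊓ H.map (MulAut.conj g).toMonoidHom)) ∨
    ∃ (P : Sylow 3 G) (y : G), y ∈ P ∧ orderOf y = 3 ∧
      Nat.card ↥((P : Subgroup G) ⊓ Subgroup.centralizer ({y} : Set G)) = 9 ∧
      ∀ g ∈ Subgroup.normalizer ((P : Subgroup G) : Set G), g * y * g⁻¹ ≠ y⁻¹ := by
  classical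
  haveI : Fact (Nat.Prime 3) := ⟨Nat.prime_three⟩
  haveI : Fact (Nat.Prime 2) := ⟨Nat.prime_two⟩
  have hGa : 3 ∣ Nat.card G := h3.trans (Subgroup.card_subgroup_dvd_card _)
  have hn : 0 < Nat.card Ω := by have := five_le B; omega
  have hst : ∀ b : Ω, ∀ g ∈ stabilizer G b, Odd (orderOf g) := by
    intro b g hg
    have e : Nat.card (stabilizer G b) = Nat.card (stabilizer G a) :=
      Nat.eq_of_mul_eq_mul_left hn ((card_mul_stab B b).trans (card_mul_stab B a).symm)
    exact Odd.of_dvd_nat (e ▸ hodd) (Subgroup.orderOf_dvd_natCard _ hg)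
  have hmod : ∀ (P : Sylow 3 G) (x : G), x ∈ (P : Subgroup G) →
      Nat.card (fixedBy Ω x) ≡ Nat.card Ω [MOD 3] := fun P x hx => by
    obtain ⟨j, hj⟩ := P.isPGroup' ⟨x, hx⟩
    exact card_fixedBy_modEq ⟨j, congrArg Subtype.val hj⟩
  by_cases h3n : 3 ∣ Nat.card Ω
  · -- elements with fixed points fix exactly three points
    right
    obtain ⟨⟨x, hxa⟩, hx⟩ := exists_prime_orderOf_dvd_card' 3 h3
    rw [Subgroup.orderOf_mk] at hx
    obtain ⟨P, hP⟩ := (IsPGroup.of_card (n := 1) (G := Subgroup.zpowers x)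
      (by rw [Nat.card_zpowers, hx, pow_one]) : IsPGroup 3 (Subgroup.zpowers x)).exists_le_sylow
    have hxP : x ∈ (P : Subgroup G) := hP (Subgroup.mem_zpowers x)
    have hx1 : x ≠ 1 := fun h => by rw [h, orderOf_one] at hx; norm_num at hx
    have hle : ∀ w ∈ (P : Subgroup G), w ≠ 1 → Nat.card (fixedBy Ω w) ≤ 3 := fun w hw hw1 => by
      have h1 := hmod P w hw
      have h2 := B.le_four w hw1
      rw [Nat.ModEq, Nat.mod_eq_zero_of_dvd h3n] at h1
      omega
    have hx3 : Nat.card (fixedBy Ω x) = 3 := by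
      have h1 := hmod P x hxP
      have h2 := hle x hxP hx1
      rw [Nat.ModEq, Nat.mod_eq_zero_of_dvd h3n] at h1
      have : 0 < Nat.card (fixedBy Ω x) := by
        haveI : Nonempty (fixedBy Ω x) := ⟨⟨a, hxa⟩⟩
        exact Nat.card_pos
      omega
    refine ⟨P, exists_self_cent_three B P (k := 3) (by norm_num) (by norm_num) ⟨x, hxP, hx1, hx3⟩ hle
      (fun Δ hΔ hPΔ => ?_) fun g _ w _ _ hw3 hg => ?_⟩
    · obtain ⟨⟨b, hb⟩⟩ : Nonempty Δ := (Nat.card_pos_iff.mp (by omega)).1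
      refine P.not_dvd_index (h3n.trans ?_)
      haveI := B.trans
      rw [← MulAction.index_stabilizer_of_transitive G b]
      exact Subgroup.index_dvd_of_le fun w hw => hPΔ hw b hb
    · -- an involution on three points fixes one of them
      by_contra hev
      rw [Nat.not_odd_iff_even, even_iff_two_dvd] at hev
      obtain ⟨m, hm⟩ := hev
      set t := g ^ m
      have ht2 : t * t = 1 := by rw [← pow_add, ← two_mul, ← hm, pow_orderOf_eq_one]
      have ht1 : t ≠ 1 := fun h => by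
        have h1 := orderOf_dvd_of_pow_eq_one h
        have h0 := orderOf_pos g
        rw [hm] at h1 h0
        have := Nat.le_of_dvd (by omega) h1
        omega
      have hts : t ∈ setStab (fixedBy Ω w) := pow_mem hg m
      rw [Nat.card_coe_set_eq] at hw3
      obtain ⟨p, q, r, hpq, hpr, hqr, he⟩ := Set.ncard_eq_three.mp hw3
      have hmem : ∀ z, z = p ∨ z = q ∨ z = r → t • z = p ∨ t • z = q ∨ t • z = r := fun z hz => by
        have h := (hts z).mpr (by rw [he]; simpa using hz)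
        rwa [he, Set.mem_insert_iff, Set.mem_insert_iff, Set.mem_singleton_iff] at h
      have hinv : ∀ z : Ω, t • t • z = z := fun z => by rw [← mul_smul, ht2, one_smul]
      obtain ⟨z, hz⟩ : ∃ z, t • z = z := by
        rcases hmem p (Or.inl rfl) with h | h | h
        · exact ⟨p, h⟩
        · rcases hmem r (Or.inr (Or.inr rfl)) with h' | h' | h'
          · exact absurd ((hinv r).symm.trans (by rw [h', h])) hqr.symm
          · exact absurd (smul_left_cancel t (h'.trans h.symm)) hpr.symm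
          · exact ⟨r, h'⟩
        · rcases hmem q (Or.inr (Or.inl rfl)) with h' | h' | h'
          · exact absurd ((hinv q).symm.trans (by rw [h', h])) hqr
          · exact ⟨q, h'⟩
          · exact absurd (smul_left_cancel t (h'.trans h.symm)) hpq.symm
      have h2 : orderOf t = 2 := orderOf_eq_prime (by rw [pow_two, ht2]) ht1
      exact Nat.not_even_iff_odd.mpr (hst z t hz) ⟨1, by rw [h2]⟩
  · -- a Sylow 3-subgroup fixes a point
    obtain ⟨P⟩ := (inferInstance : Nonempty (Sylow 3 G))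
    set F : Set Ω := fixedPoints (P : Subgroup G) Ω with hF
    obtain ⟨b, hb⟩ := P.isPGroup'.nonempty_fixed_point_of_prime_not_dvd_card Ω h3n
    have hPF : (P : Subgroup G) ≤ ptStab F := fun w hw z hz => hz ⟨w, hw⟩
    have hsub : ∀ w ∈ (P : Subgroup G), F ⊆ fixedBy Ω w := fun w hw z hz => hz ⟨w, hw⟩
    obtain ⟨⟨x₀, hx₀P⟩, hx₀⟩ := exists_prime_orderOf_dvd_card' (G := (P : Subgroup G)) 3
      (P.dvd_card_of_dvd_card hGa)
    rw [Subgroup.orderOf_mk] at hx₀
    have hx₀1 : x₀ ≠ 1 := fun h => by rw [h, orderOf_one] at hx₀; norm_num at hx₀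
    have hF4 : Nat.card F ≤ 4 :=
      (Nat.card_mono (Set.toFinite _) (hsub x₀ hx₀P)).trans (B.le_four x₀ hx₀1)
    by_cases hall : ∀ w ∈ (P : Subgroup G), w ≠ 1 → fixedBy Ω w = F
    · exact Or.inl (strongly_three B P ⟨b, hb⟩ hF4 hPF hGa hall)
    right
    push Not at hall
    obtain ⟨x, hxP, hx1, hxF⟩ := hall
    have hlt : Nat.card F < Nat.card (fixedBy Ω x) := by
      rw [Nat.card_coe_set_eq, Nat.card_coe_set_eq]
      exact Set.ncard_lt_ncard (Set.ssubset_iff_subset_ne.mpr ⟨hsub x hxP, Ne.symm hxF⟩) (Set.toFinite _)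
    have hF1 : 0 < Nat.card F := by
      haveI : Nonempty F := ⟨⟨b, hb⟩⟩
      exact Nat.card_pos
    have hmF : Nat.card F ≡ Nat.card Ω [MOD 3] := (P.isPGroup'.card_modEq_card_fixedPoints Ω).symm
    have hmx := hmod P x hxP
    have hx4 := B.le_four x hx1
    have hk : Nat.card (fixedBy Ω x) = 4 ∧ Nat.card F = 1 := by
      rw [Nat.ModEq] at hmF hmx
      omega
    refine ⟨P, exists_self_cent_three B P (k := 4) le_rfl (by norm_num) ⟨x, hxP, hx1, hk.1⟩
      (fun w _ hw1 => B.le_four w hw1) (fun Δ hΔ hPΔ => ?_) fun g hg _ _ _ _ _ => hst b g ?_⟩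
    · have h := Nat.card_mono (Set.toFinite F) (show Δ ⊆ F from fun z hz w => hPΔ w.2 z hz)
      omega
    · have hsing : ∀ z ∈ F, z = b := fun z hz => by
        have h : (F : Set Ω).ncard ≤ 1 := by rw [← Nat.card_coe_set_eq, hk.2]
        exact (Set.ncard_le_one (Set.toFinite F)).mp h z hz b hb
      refine hsing _ fun w => ?_
      have hw : g⁻¹ * (w : G) * g ∈ (P : Subgroup G) := (Subgroup.mem_normalizer_iff''.mp hg _).mp w.2
      have := hb ⟨_, hw⟩
      rw [Subgroup.mk_smul, mul_smul, mul_smul, inv_smul_eq_iff] at this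
      exact this

end CfsgLib.FixityFour
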