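import Cfsg.Agent.S2807
import Cfsg.Agent.Lib.PSolvable.Omega
import Cfsg.Agent.Lib.PGroup.NormalSub

/-!
# The three core

A Sylow `3`-subgroup of a simple group with an element of order three whose centralizer in it has order
nine and which is not inverted in the normalizer has order nine or is `C₃ ≀ C₃`.
-/

set_option autoImplicit false
set_option linter.style.haveILetI false
set_option linter.unusedSectionVars false

namespace CfsgLib.FixityFour

namespace ThreeCore

open scoped commutatorElement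

variable {Q : Type*} [Group Q] [Finite Q]

local notation "Cy" y => Subgroup.centralizer ({y} : Set _)

/-- The index of the commutator subgroup of a non-commutative `3`-group is at least nine. -/
theorem nine_le_index_commutator (hQ : IsPGroup 3 Q) (hna : ∃ a b : Q, a * b ≠ b * a) :
    9 ≤ (commutator Q).index := by
  haveI : Fact (Nat.Prime 3) := ⟨Nat.prime_three⟩
  obtain ⟨k, hk⟩ := IsPGroup.iff_card.mp hQ
  obtain ⟨i, -, hi⟩ := (Nat.dvd_prime_pow Nat.prime_three).mp (hk ▸ (commutator Q).index_dvd_card)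
  by_contra hlt
  have hi1 : i ≤ 1 := by
    by_contra h
    have : 3 ^ 2 ≤ 3 ^ i := Nat.pow_le_pow_right (by norm_num) (by omega)
    omega
  obtain ⟨s, hs⟩ : ∃ s : Q, Subgroup.zpowers s ⊔ commutator Q = ⊤ := by
    by_cases ht : commutator Q = ⊤
    · exact ⟨1, by rw [ht, sup_top_eq]⟩
    obtain ⟨s, hs⟩ : ∃ s, s ∉ commutator Q := by
      by_contra h
      push Not at h
      exact ht (eq_top_iff.mpr fun x _ => h x)
    refine ⟨s, by_contra fun hne => ?_⟩
    have hlt' : commutator Q < Subgroup.zpowers s ⊔ commutator Q :=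
      lt_of_le_of_ne le_sup_right fun e => hs (e ▸ Subgroup.mem_sup_left (Subgroup.mem_zpowers s))
    have h1 := Subgroup.index_strictAnti hlt'
    have h2 : (Subgroup.zpowers s ⊔ commutator Q).index ∣ 3 ^ i :=
      hi ▸ Subgroup.index_dvd_of_le le_sup_right
    obtain ⟨j, hj, hj'⟩ := (Nat.dvd_prime_pow Nat.prime_three).mp h2
    rw [hi, hj'] at h1
    have hj0 : j = 0 := by
      have := Nat.pow_lt_pow_iff_right (a := 3) (by norm_num) |>.mp h1
      omega
    exact hne (Subgroup.index_eq_one.mp (by rw [hj', hj0, pow_zero]))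
  have htop : Subgroup.zpowers s = ⊤ := frattini_nongenerating (top_le_iff.mp
    (hs ▸ sup_le_sup_left (PSolvable.commutator_le_frattini hQ).1 _))
  obtain ⟨a, b, hab⟩ := hna
  obtain ⟨u, rfl⟩ : a ∈ Subgroup.zpowers s := htop ▸ Subgroup.mem_top a
  obtain ⟨v, rfl⟩ : b ∈ Subgroup.zpowers s := htop ▸ Subgroup.mem_top b
  exact hab (Commute.zpow_zpow_self s u v).eq

/-- The class of an element with a centralizer of order at most nine is its coset of the commutator
subgroup. -/
theorem class_coset (hQ : IsPGroup 3 Q) (hna : ∃ a b : Q, a * b ≠ b * a) (y : Q)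
    (hC : Nat.card (Cy y) ≤ 9) :
    (commutator Q).index = 9 ∧ ∀ d ∈ commutator Q, ∃ h : Q, h * y * h⁻¹ = y * d := by
  classical
  have h9 := nine_le_index_commutator hQ hna
  haveI : Fintype Q := Fintype.ofFinite Q
  let f : Q ⧸ (Cy y : Subgroup Q) → commutator Q := fun q =>
    ⟨y⁻¹ * (q.out * y * q.out⁻¹), by
      rw [show y⁻¹ * (q.out * y * q.out⁻¹) = ⁅y⁻¹, q.out⁆ by
        rw [commutatorElement_def]; group]
      exact Subgroup.commutator_mem_commutator (Subgroup.mem_top _) (Subgroup.mem_top _)⟩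
  have hf : Function.Injective f := by
    intro a b h
    have h' : a.out * y * a.out⁻¹ = b.out * y * b.out⁻¹ := mul_left_cancel (congrArg Subtype.val h)
    rw [← QuotientGroup.out_eq' a, ← QuotientGroup.out_eq' b, QuotientGroup.eq,
      Subgroup.mem_centralizer_singleton_iff]
    calc a.out⁻¹ * b.out * y = a.out⁻¹ * (b.out * y * b.out⁻¹) * b.out := by group
      _ = a.out⁻¹ * (a.out * y * a.out⁻¹) * b.out := by rw [h']
      _ = y * (a.out⁻¹ * b.out) := by group
  have h1 : (Cy y : Subgroup Q).index ≤ Nat.card (commutator Q) := Nat.card_le_card_of_injective f hf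
  have e1 := (Cy y : Subgroup Q).card_mul_index
  have e2 := (commutator Q).card_mul_index
  have hle : (commutator Q).index ≤ 9 := by
    refine Nat.le_of_mul_le_mul_left ?_ (Nat.card_pos (α := commutator Q))
    rw [e2, ← e1, mul_comm (Nat.card (commutator Q))]
    exact Nat.mul_le_mul hC h1
  have h9' : (commutator Q).index = 9 := le_antisymm hle h9
  refine ⟨h9', fun d hd => ?_⟩
  have hsurj : Function.Surjective f := by
    refine ((Nat.bijective_iff_injective_and_card f).mpr ⟨hf, le_antisymm h1 ?_⟩).2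
    rw [h9', ← e1] at e2
    have hp := Nat.mul_le_mul_right (Cy y : Subgroup Q).index hC
    change Nat.card (commutator Q) ≤ (Cy y : Subgroup Q).index
    omega
  obtain ⟨q, hq⟩ := hsurj ⟨d, hd⟩
  refine ⟨q.out, ?_⟩
  have hq' : y⁻¹ * (q.out * y * q.out⁻¹) = d := congrArg Subtype.val hq
  rw [← hq', mul_inv_cancel_left]

/-- The centralizer of the image of such an element in a non-commutative quotient. -/
theorem card_cent_image {R : Type*} [Group R] [Finite R] (hQ : IsPGroup 3 Q) (y : Q)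
    (hC : Nat.card (Cy y) ≤ 9) (f : Q →* R) (hf : Function.Surjective f)
    (hna : ∃ a b : R, a * b ≠ b * a) : Nat.card (Cy (f y)) ≤ 9 := by
  classical
  obtain ⟨a, b, hab⟩ := hna
  obtain ⟨a, rfl⟩ := hf a
  obtain ⟨b, rfl⟩ := hf b
  obtain ⟨hidx, hcls⟩ := class_coset hQ ⟨a, b, fun h => hab (by rw [← map_mul, h, map_mul])⟩ y hC
  have hR : (commutator Q).map f = commutator R := by
    rw [commutator_def, Subgroup.map_commutator, Subgroup.map_top_of_surjective f hf, ← commutator_def]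
  have hRidx : (commutator R).index ≤ 9 := by
    rw [← hR, ← hidx]
    exact Nat.le_of_dvd (Nat.pos_of_ne_zero Subgroup.index_ne_zero_of_finite)
      (Subgroup.index_map_dvd _ hf)
  have key : ∀ d : commutator R, ∃ h : R, h * f y * h⁻¹ = f y * d := by
    rintro ⟨d, hd⟩
    rw [← hR] at hd
    obtain ⟨d, hd', rfl⟩ := hd
    obtain ⟨h, hh⟩ := hcls d hd'
    exact ⟨f h, by rw [← map_inv, ← map_mul, ← map_mul, hh, map_mul]⟩
  choose g hg using key
  have hinj : Function.Injective fun d => (QuotientGroup.mk (g d) : R ⧸ (Cy (f y) : Subgroup R)) := by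
    intro d e h
    have hc : (g d)⁻¹ * g e * f y = f y * ((g d)⁻¹ * g e) :=
      Subgroup.mem_centralizer_singleton_iff.mp (QuotientGroup.eq.mp h)
    have h' : g d * f y * (g d)⁻¹ = g e * f y * (g e)⁻¹ := by
      calc g d * f y * (g d)⁻¹ = g d * (f y * ((g d)⁻¹ * g e)) * (g e)⁻¹ := by group
        _ = _ := by rw [← hc]; group
    rw [hg, hg] at h'
    exact Subtype.ext (mul_left_cancel h')
  have h1 : Nat.card (commutator R) ≤ (Cy (f y) : Subgroup R).index := Nat.card_le_card_of_injective _ hinj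
  refine Nat.le_of_mul_le_mul_right ?_ (Nat.card_pos (α := commutator R))
  calc Nat.card (Cy (f y)) * Nat.card (commutator R)
      ≤ Nat.card (Cy (f y)) * (Cy (f y) : Subgroup R).index := Nat.mul_le_mul_left _ h1
    _ = Nat.card (commutator R) * (commutator R).index := by
      rw [Subgroup.card_mul_index, Subgroup.card_mul_index]
    _ ≤ 9 * Nat.card (commutator R) := by rw [mul_comm 9]; exact Nat.mul_le_mul_left _ hRidx

/-- The order of a Sylow `3`-subgroup of `S₉`. -/
theorem card_sylow_nine (T : Sylow 3 (Equiv.Perm (Fin 9))) : Nat.card T = 81 := by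
  haveI : Fact (Nat.Prime 3) := ⟨Nat.prime_three⟩
  rw [Sylow.card_eq_multiplicity, Nat.card_perm, Nat.card_fin,
    show Nat.factorial 9 = 3 ^ 4 * 4480 by rfl, Nat.factorization_mul (by norm_num) (by norm_num),
    Finsupp.add_apply, Nat.Prime.factorization_pow Nat.prime_three, Finsupp.single_eq_same,
    Nat.factorization_eq_zero_of_not_dvd (show ¬ 3 ∣ 4480 by norm_num)]
  rfl

/-- The translations of the three blocks. -/
def baseHom : Multiplicative (Fin 3 → Fin 3) →* Equiv.Perm (Fin 9) :=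
  (finProdFinEquiv (m := 3) (n := 3)).permCongrHom.toMonoidHom.comp (MonoidHom.mk'
    (fun v : Multiplicative (Fin 3 → Fin 3) => (Equiv.prodCongrRight fun a : Fin 3 =>
      Equiv.addRight ((Multiplicative.toAdd v) a) : Equiv.Perm (Fin 3 × Fin 3)))
    fun u v => Equiv.ext fun p => by
      simp [Equiv.prodCongrRight, add_comm, add_left_comm])

theorem baseHom_injective : Function.Injective baseHom := by
  intro u v h
  have h' := (finProdFinEquiv (m := 3) (n := 3)).permCongrHom.injective h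
  refine Multiplicative.toAdd.injective (funext fun a => ?_)
  have := congrArg (fun e : Equiv.Perm (Fin 3 × Fin 3) => (e (a, 0)).2) h'
  simpa using this

/-- The base group of the wreath product inside a Sylow `3`-subgroup of `S₉`. -/
theorem exists_base (T : Sylow 3 (Equiv.Perm (Fin 9))) : ∃ B : Subgroup T,
    B.index = 3 ∧ Nat.card B = 27 ∧ (∀ a ∈ B, ∀ b ∈ B, a * b = b * a) ∧ ∀ a ∈ B, a ^ 3 = 1 := by
  haveI : Fact (Nat.Prime 3) := ⟨Nat.prime_three⟩
  have hexp : ∀ v : Multiplicative (Fin 3 → Fin 3), v ^ 3 = 1 := by decide +kernel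
  have hB₀ : IsPGroup 3 baseHom.range := by
    rintro ⟨_, v, rfl⟩
    exact ⟨1, Subtype.ext (by simp [← map_pow, hexp])⟩
  obtain ⟨T', hT'⟩ := hB₀.exists_le_sylow
  obtain ⟨g, hg⟩ := MulAction.exists_smul_eq (Equiv.Perm (Fin 9)) T' T
  set ι : Multiplicative (Fin 3 → Fin 3) →* T :=
    ((MulAut.conj g).toMonoidHom.comp baseHom).codRestrict (T : Subgroup (Equiv.Perm (Fin 9))) fun v => by
      rw [← hg]
      exact Subgroup.smul_mem_pointwise_smul _ _ _ (hT' ⟨v, rfl⟩) with hι
  have hinj : Function.Injective ι := fun u v h => baseHom_injective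
    ((MulAut.conj g).injective (congrArg Subtype.val h))
  have hcard : Nat.card ι.range = 27 := by
    rw [← Nat.card_congr (MonoidHom.ofInjective hinj).toEquiv]
    simp [Nat.card_eq_fintype_card]
  refine ⟨ι.range, ?_, hcard, ?_, ?_⟩
  · have := ι.range.card_mul_index
    rw [hcard, card_sylow_nine T] at this
    omega
  · rintro _ ⟨u, rfl⟩ _ ⟨v, rfl⟩
    rw [← map_mul, ← map_mul, mul_comm]
  · rintro _ ⟨u, rfl⟩
    rw [← map_pow, hexp, map_one]

theorem cube_mul {R : Type*} [Group R] {a b w : R} (hw : ∀ r, Commute w r) (h : b * a = w * (a * b))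
    (h3 : w ^ 3 = 1) : (a * b) ^ 3 = a ^ 3 * b ^ 3 := by
  have ha : ∀ c, a * (w * c) = w * (a * c) := fun c => by rw [← mul_assoc, ← (hw a).eq, mul_assoc]
  have hb : ∀ c, b * (w * c) = w * (b * c) := fun c => by rw [← mul_assoc, ← (hw b).eq, mul_assoc]
  have h' : ∀ c, b * (a * c) = w * (a * (b * c)) := fun c => by rw [← mul_assoc, h]; simp only [mul_assoc]
  calc (a * b) ^ 3 = a * (b * (a * (b * (a * b)))) := by simp [pow_succ, mul_assoc]
    _ = w ^ 3 * (a ^ 3 * b ^ 3) := by
      simp only [h', ha, hb, pow_succ, pow_zero, one_mul, mul_assoc]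
    _ = _ := by rw [h3, one_mul]

/-- A subgroup missing an element of a centralizer of order at most nine meets it in at most three. -/
theorem card_inter_le (hQ : IsPGroup 3 Q) {y : Q} (hC : Nat.card (Cy y) ≤ 9) (B : Subgroup Q)
    (hy : y ∉ B) : Nat.card ↥(B ⊓ (Cy y : Subgroup Q)) ≤ 3 := by
  haveI : Fact (Nat.Prime 3) := ⟨Nat.prime_three⟩
  obtain ⟨i, hi⟩ := IsPGroup.iff_card.mp (hQ.to_subgroup (B ⊓ (Cy y : Subgroup Q)))
  obtain ⟨j, hj⟩ := IsPGroup.iff_card.mp (hQ.to_subgroup (Cy y : Subgroup Q))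
  have hlt : B ⊓ (Cy y : Subgroup Q) < (Cy y : Subgroup Q) := lt_of_le_of_ne inf_le_right fun e => hy
    (e.symm ▸ Subgroup.mem_centralizer_singleton_iff.mpr rfl : y ∈ B ⊓ (Cy y : Subgroup Q)).1
  have h := Nat.lt_of_le_of_ne (Nat.le_of_dvd Nat.card_pos (Subgroup.card_dvd_of_le hlt.le))
    fun e => hlt.ne (Subgroup.eq_of_le_of_card_ge hlt.le e.ge)
  have hj2 : j ≤ 2 := by
    by_contra hj'
    have : 3 ^ 3 ≤ 3 ^ j := Nat.pow_le_pow_right (by norm_num) (by omega)
    omega
  have hij : i < j := (Nat.pow_lt_pow_iff_right (a := 3) (by norm_num)).mp (hi ▸ hj ▸ h)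
  calc Nat.card ↥(B ⊓ (Cy y : Subgroup Q)) = 3 ^ i := hi
    _ ≤ 3 ^ 1 := Nat.pow_le_pow_right (by norm_num) (by omega)

/-- An element `y` of a group mapping onto `C₃ ≀ C₃` with kernel of order three has a larger centralizer. -/
theorem no_extension (hQ : IsPGroup 3 Q) (y : Q) (hy : y ^ 3 = 1) (hC : Nat.card (Cy y) ≤ 9)
    {W : Type*} [Group W] [Finite W] (f : Q →* W) (hf : Function.Surjective f)
    (hker : Nat.card f.ker = 3) (hfy : Nat.card (Cy (f y)) ≤ 9) (B : Subgroup W) [B.Normal]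
    (hB : Nat.card B = 27) (hcomm : ∀ a ∈ B, ∀ b ∈ B, a * b = b * a) (hexp : ∀ a ∈ B, a ^ 3 = 1) :
    False := by
  haveI : Fact (Nat.Prime 3) := ⟨Nat.prime_three⟩
  haveI : Group.IsNilpotent Q := hQ.isNilpotent
  have hW : IsPGroup 3 W := hQ.of_surjective f hf
  have hfyB : f y ∉ B := fun h => by
    have hle : B ≤ (Cy (f y) : Subgroup W) := fun b hb =>
      Subgroup.mem_centralizer_singleton_iff.mpr (hcomm b hb _ h)
    have := Subgroup.card_le_of_le hle
    omega
  have hZ : ∀ z ∈ f.ker, ∀ r : Q, Commute z r := by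
    have h := Critical.inf_center_ne_bot f.ker fun h => by rw [h, Subgroup.card_bot] at hker; omega
    have heq : f.ker ⊓ Subgroup.center Q = f.ker := by
      refine Subgroup.eq_of_le_of_card_ge inf_le_left ?_
      have hd := Subgroup.card_dvd_of_le (inf_le_left : f.ker ⊓ Subgroup.center Q ≤ f.ker)
      rw [hker] at hd ⊢
      rcases (Nat.dvd_prime Nat.prime_three).mp hd with h1 | h1
      · exact absurd (Subgroup.eq_bot_of_card_eq _ h1) h
      · omega
    intro z hz r
    exact ((Subgroup.mem_center_iff.mp (heq.ge hz).2) r).symm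
  -- an element of the base group moved twice
  have hs : ∀ b : B, (b : W)⁻¹ * (f y * b * (f y)⁻¹) ∈ B := fun b =>
    mul_mem (inv_mem b.2) (Subgroup.Normal.conj_mem inferInstance _ b.2 _)
  let D : B →* B := MonoidHom.mk' (fun b => ⟨(b : W)⁻¹ * (f y * b * (f y)⁻¹), hs b⟩) fun a b =>
    Subtype.ext (by
      have h1 := hcomm _ (inv_mem b.2) _ (hs a)
      simp only [Subgroup.coe_mul, _root_.mul_inv_rev]
      calc (b : W)⁻¹ * (a : W)⁻¹ * (f y * ((a : W) * b) * (f y)⁻¹)
          = (b : W)⁻¹ * ((a : W)⁻¹ * (f y * a * (f y)⁻¹)) * (f y * b * (f y)⁻¹) := by group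
        _ = (a : W)⁻¹ * (f y * a * (f y)⁻¹) * (b : W)⁻¹ * (f y * b * (f y)⁻¹) := by rw [h1]
        _ = _ := by group)
  have hDker : Nat.card D.ker ≤ 3 := by
    refine le_trans (Nat.card_le_card_of_injective (β := ↥(B ⊓ (Cy (f y) : Subgroup W)))
      (fun b => ⟨b.1.1, b.1.2, ?_⟩) fun a b h => Subtype.ext (Subtype.ext (congrArg
        (fun x : ↥(B ⊓ (Cy (f y) : Subgroup W)) => (x : W)) h :))) (card_inter_le hW hfy B hfyB)
    refine Subgroup.mem_centralizer_singleton_iff.mpr ?_
    have h1 : (b.1 : W)⁻¹ * (f y * b.1 * (f y)⁻¹) = 1 := congrArg Subtype.val b.2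
    exact (mul_inv_eq_iff_eq_mul.mp (inv_mul_eq_one.mp h1).symm).symm
  obtain ⟨a, ha⟩ : ∃ a : B, D (D a) ≠ 1 := by
    by_contra h
    push Not at h
    have hle : D.range ≤ D.ker := by rintro _ ⟨a, rfl⟩; exact h a
    have e := D.ker.card_mul_index
    rw [Subgroup.index_ker, hB] at e
    have := Subgroup.card_le_of_le hle
    nlinarith
  obtain ⟨x₃, hx₃⟩ := hf (a : W)
  obtain ⟨x₂, hx₂⟩ : ∃ r, r = x₃⁻¹ * (y * x₃ * y⁻¹) := ⟨_, rfl⟩
  obtain ⟨x₁, hx₁⟩ : ∃ r, r = x₂⁻¹ * (y * x₂ * y⁻¹) := ⟨_, rfl⟩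
  obtain ⟨c, hc⟩ : ∃ r, r = x₁⁻¹ * (y * x₁ * y⁻¹) := ⟨_, rfl⟩
  have f2 : f x₂ = (D a : W) := by simp [hx₂, map_mul, hx₃, D]
  have f1 : f x₁ = (D (D a) : W) := by simp [hx₁, map_mul, f2, D]
  have σ3 : y * x₃ * y⁻¹ = x₃ * x₂ := by rw [hx₂, mul_inv_cancel_left]
  have σ2 : y * x₂ * y⁻¹ = x₂ * x₁ := by rw [hx₁, mul_inv_cancel_left]
  have σ1 : y * x₁ * y⁻¹ = x₁ * c := by rw [hc, mul_inv_cancel_left]
  have σm : ∀ u v : Q, y * (u * v) * y⁻¹ = y * u * y⁻¹ * (y * v * y⁻¹) := fun u v => by group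
  have hB3 : f x₃ ∈ B ∧ f x₂ ∈ B ∧ f x₁ ∈ B := ⟨hx₃ ▸ a.2, f2 ▸ (D a).2, f1 ▸ (D (D a)).2⟩
  have hfc : f c ∈ B := by
    rw [hc, map_mul, map_inv, map_mul, map_mul, map_inv, f1]; exact hs (D (D a))
  -- the third power of the conjugation
  have σσσ : ∀ x : Q, y * (y * (y * x * y⁻¹) * y⁻¹) * y⁻¹ = x := fun x => by
    calc y * (y * (y * x * y⁻¹) * y⁻¹) * y⁻¹ = y ^ 3 * x * (y ^ 3)⁻¹ := by
          simp [pow_succ, mul_assoc]
      _ = x := by rw [hy, one_mul, inv_one, mul_one]
  have h333 : x₃ = x₃ * x₂ * (x₂ * x₁) * (x₂ * x₁ * (x₁ * c)) := by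
    have h2' : y * (y * x₃ * y⁻¹) * y⁻¹ = x₃ * x₂ * (x₂ * x₁) := by rw [σ3, σm, σ3, σ2]
    calc x₃ = y * (y * (y * x₃ * y⁻¹) * y⁻¹) * y⁻¹ := (σσσ x₃).symm
      _ = y * (x₃ * x₂ * (x₂ * x₁)) * y⁻¹ := by rw [h2']
      _ = _ := by rw [σm, σm x₃, σm x₂, σ3, σ2, σ1]
  have hcK : c ∈ f.ker := by
    rw [MonoidHom.mem_ker]
    have h := congrArg f h333
    simp only [map_mul, mul_assoc, left_eq_mul] at h
    have k12 : Commute (f x₂) (f x₁) := hcomm _ hB3.2.1 _ hB3.2.2
    have e : f x₂ * (f x₂ * (f x₁ * (f x₂ * (f x₁ * (f x₁ * f c))))) = f x₂ ^ 3 * f x₁ ^ 3 * f c := by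
      rw [← mul_assoc (f x₁) (f x₂), ← k12.eq]
      simp [pow_succ, mul_assoc]
    rwa [e, hexp _ hB3.2.1, hexp _ hB3.2.2, one_mul, one_mul] at h
  have hy' : y ∉ B.comap f := hfyB
  have hc1 : c ≠ 1 := by
    intro h1
    have hx₁C : x₁ ∈ B.comap f ⊓ (Cy y : Subgroup Q) := by
      refine ⟨hB3.2.2, Subgroup.mem_centralizer_singleton_iff.mpr ?_⟩
      rw [h1, mul_one] at σ1
      exact (mul_inv_eq_iff_eq_mul.mp σ1).symm
    have hle : f.ker ≤ B.comap f ⊓ (Cy y : Subgroup Q) := fun z hz =>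
      ⟨show f z ∈ B by rw [MonoidHom.mem_ker.mp hz]; exact one_mem _,
        Subgroup.mem_centralizer_singleton_iff.mpr (hZ z hz y).eq⟩
    have heq := Subgroup.eq_of_le_of_card_ge hle (hker ▸ card_inter_le hQ hC _ hy')
    exact ha (Subtype.ext (f1.symm.trans (MonoidHom.mem_ker.mp (heq ▸ hx₁C))))
  have hcen : ∀ u v : Q, f u ∈ B → f v ∈ B → u * v * u⁻¹ * v⁻¹ ∈ f.ker := fun u v hu hv => by
    rw [MonoidHom.mem_ker, map_mul, map_mul, map_mul, map_inv, map_inv, hcomm _ hu _ hv]
    group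
  have k3 : ∀ z ∈ f.ker, z ^ 3 = 1 := fun z hz => by
    rw [← orderOf_dvd_iff_pow_eq_one, ← hker]; exact Subgroup.orderOf_dvd_natCard _ hz
  have hu : Commute x₂ x₁ := by
    have hk := hcen x₃ x₁ hB3.1 hB3.2.2
    have h1 : y * (x₃ * x₁ * x₃⁻¹ * x₁⁻¹) * y⁻¹ = x₃ * x₁ * x₃⁻¹ * x₁⁻¹ := by
      rw [← (hZ _ hk y).eq, mul_inv_cancel_right]
    have h2 : y * (x₃ * x₁ * x₃⁻¹ * x₁⁻¹) * y⁻¹ =
        x₃ * x₂ * (x₁ * c) * (x₃ * x₂)⁻¹ * (x₁ * c)⁻¹ := by
      rw [← σ3, ← σ1]; group
    have hcc := hZ c hcK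
    have h3 : x₃ * x₂ * (x₁ * c) * (x₃ * x₂)⁻¹ * (x₁ * c)⁻¹ =
        x₃ * (x₂ * x₁ * x₂⁻¹ * x₁⁻¹) * x₃⁻¹ * (x₃ * x₁ * x₃⁻¹ * x₁⁻¹) := by
      rw [show x₁ * c = c * x₁ from (hcc x₁).eq.symm, ← mul_assoc (x₃ * x₂) c x₁,
        ← (hcc (x₃ * x₂)).eq, _root_.mul_inv_rev c x₁]
      calc c * (x₃ * x₂) * x₁ * (x₃ * x₂)⁻¹ * (x₁⁻¹ * c⁻¹)
          = c * ((x₃ * x₂) * x₁ * (x₃ * x₂)⁻¹ * x₁⁻¹) * c⁻¹ := by group
        _ = (x₃ * x₂) * x₁ * (x₃ * x₂)⁻¹ * x₁⁻¹ := by rw [(hcc _).eq, mul_inv_cancel_right]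
        _ = _ := by group
    have hk' := hcen x₂ x₁ hB3.2.1 hB3.2.2
    rw [h2, h3, ← (hZ _ hk' x₃).eq, mul_inv_cancel_right] at h1
    have h4 := mul_eq_right.mp h1
    exact (mul_inv_eq_iff_eq_mul.mp (mul_inv_eq_one.mp h4)).trans (by group)
  have e2 : x₂ ^ 3 = 1 := by
    have hk : x₃ ^ 3 ∈ f.ker := by rw [MonoidHom.mem_ker, map_pow, hexp _ hB3.1]
    have hk' := hcen x₂ x₃ hB3.2.1 hB3.1
    have h1 : (x₃ * x₂) ^ 3 = x₃ ^ 3 := by
      rw [← σ3, conj_pow, ← (hZ _ hk y).eq, mul_inv_cancel_right]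
    rw [cube_mul (hZ _ hk') (by group) (k3 _ hk')] at h1
    simpa using h1
  have e1 : x₁ ^ 3 = 1 := by
    have h1 : (x₂ * x₁) ^ 3 = 1 := by rw [← σ2, conj_pow, e2, mul_one, mul_inv_cancel]
    rwa [hu.mul_pow, e2, one_mul] at h1
  refine hc1 ?_
  have h := h333
  simp only [mul_assoc, left_eq_mul] at h
  have e : x₂ * (x₂ * (x₁ * (x₂ * (x₁ * (x₁ * c))))) = x₂ ^ 3 * x₁ ^ 3 * c := by
    rw [← mul_assoc x₁ x₂, ← hu.eq]
    simp [pow_succ, mul_assoc]
  rwa [e, e2, e1, one_mul, one_mul] at h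

/-! ### Automorphisms of a group of order nine -/

/-- Pairs over `ZMod 3` in code: the images of a basis. -/
abbrev Quad := (ZMod 3 × ZMod 3) × (ZMod 3 × ZMod 3)

/-- The linear map given by the images of a basis. -/
def app (q : Quad) (v : ZMod 3 × ZMod 3) : ZMod 3 × ZMod 3 :=
  (v.1 * q.1.1 + v.2 * q.2.1, v.1 * q.1.2 + v.2 * q.2.2)

/-- Composition. -/
def comp (q r : Quad) : Quad := (app q r.1, app q r.2)

/-- The identity. -/
def qid : Quad := ((1, 0), (0, 1))

/-- Powers. -/
def qpow (q : Quad) : ℕ → Quad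
  | 0 => qid
  | n + 1 => comp (qpow q n) q

/-- No power sends the first basis vector to its negative and the order is a two power. -/
def good (q : Quad) : Bool := decide (qpow q 16 = qid) && (List.range 16).all fun n =>
  decide ((qpow q n).1 ≠ (2, 0))

theorem good_check : ∀ q : Quad,
    (!good q || decide (comp q q = qid) && decide (q.1 ≠ (2, 0))) = true := by decide +kernel

theorem good_sq {q : Quad} (h : good q = true) : comp q q = qid ∧ q.1 ≠ (2, 0) := by
  simpa [h] using good_check q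

theorem pair_check : ∀ q r : Quad, (!decide (comp q q = qid) || !decide (comp r r = qid) ||
    !decide (q.1 ≠ (2, 0)) || !decide (r.1 ≠ (2, 0)) || !decide (comp (comp q r) (comp q r) = qid) ||
    !decide ((comp q r).1 ≠ (2, 0)) || decide (q = qid) || decide (r = qid) || decide (q = r)) = true := by
  decide +kernel

theorem good_pair {q r : Quad} (hq : good q = true) (hr : good r = true) (hqr : good (comp q r) = true) :
    q = qid ∨ r = qid ∨ q = r := by
  simpa [good_sq hq, good_sq hr, good_sq hqr, or_assoc] using pair_check q r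

theorem fix_check : ∀ q : Quad, (!decide (comp q q = qid) || !decide (q.1 ≠ (2, 0)) ||
    decide (∃ l : ZMod 3 × ZMod 3, l ≠ 0 ∧
    l.1 * q.1.1 + l.2 * q.1.2 = l.1 ∧ l.1 * q.2.1 + l.2 * q.2.2 = l.2)) = true := by decide +kernel

theorem good_fix {q : Quad} (hq : good q = true) : ∃ l : ZMod 3 × ZMod 3, l ≠ 0 ∧
    l.1 * q.1.1 + l.2 * q.1.2 = l.1 ∧ l.1 * q.2.1 + l.2 * q.2.2 = l.2 := by
  simpa [good_sq hq] using fix_check q

theorem qpow_check : ∀ q : Quad, (!decide (∃ r : Quad, comp r q = qid) ||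
    decide (qpow q 48 = qid)) = true := by decide +kernel

theorem qpow_48 {q : Quad} (h : ∃ r : Quad, comp r q = qid) : qpow q 48 = qid := by
  simpa [h] using qpow_check q

/-- A set of such maps closed under composition fixes a functional. -/
theorem exists_functional (A : Set Quad) (hgood : ∀ q ∈ A, good q = true)
    (hmul : ∀ q ∈ A, ∀ r ∈ A, comp q r ∈ A) : ∃ l : ZMod 3 × ZMod 3, l ≠ 0 ∧
      ∀ q ∈ A, l.1 * q.1.1 + l.2 * q.1.2 = l.1 ∧ l.1 * q.2.1 + l.2 * q.2.2 = l.2 := by
  by_cases h : ∃ q ∈ A, q ≠ qid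
  · obtain ⟨q, hq, hq1⟩ := h
    obtain ⟨l, hl, h1, h2⟩ := good_fix (hgood q hq)
    refine ⟨l, hl, fun r hr => ?_⟩
    rcases good_pair (hgood q hq) (hgood r hr) (hgood _ (hmul q hq r hr)) with h' | h' | h'
    · exact absurd h' hq1
    · subst h'; simp [qid]
    · subst h'; exact ⟨h1, h2⟩
  · push Not at h
    exact ⟨(1, 0), by decide, fun q hq => by rw [h q hq]; simp [qid]⟩

theorem zmod_sq : ∀ j : ZMod 3, j ≠ 0 → j * j = 1 := by decide

theorem exists_value : ∀ l : ZMod 3 × ZMod 3, l ≠ 0 →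
    ∃ v : ZMod 3 × ZMod 3, l.1 * v.1 + l.2 * v.2 ≠ 0 := by decide

variable {G : Type*} [Group G] [Finite G]

/-- If no element of the normalizer sends the coset of `y` to that of its inverse, the normalizer does
not generate the Sylow subgroup by commutators. -/
theorem not_le_commutator_normalizer (P : Sylow 3 G) (y : (P : Subgroup G))
    (hidx : (commutator (P : Subgroup G)).index = 9) (hexp : ∀ p : (P : Subgroup G), p ^ 3 ∈ commutator (P : Subgroup G))
    (hy : y ∉ commutator (P : Subgroup G))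
    (hinv : ∀ g ∈ Subgroup.normalizer ((P : Subgroup G) : Set G), ∀ d : (P : Subgroup G),
      d ∈ commutator (P : Subgroup G) → g * (y : G) * g⁻¹ ≠ (y : G)⁻¹ * d) :
    ¬ (P : Subgroup G) ≤ ⁅Subgroup.normalizer ((P : Subgroup G) : Set G),
      Subgroup.normalizer ((P : Subgroup G) : Set G)⁆ := by
  classical
  haveI : Fact (Nat.Prime 3) := ⟨Nat.prime_three⟩
  set N := Subgroup.normalizer ((P : Subgroup G) : Set G) with hN
  set π := QuotientGroup.mk' (commutator (P : Subgroup G)) with hπ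
  have hV : ∀ v : (P : Subgroup G) ⧸ commutator (P : Subgroup G), v ^ 3 = 1 := by
    intro v
    obtain ⟨p, rfl⟩ := QuotientGroup.mk_surjective v
    rw [← QuotientGroup.mk_pow, QuotientGroup.eq_one_iff]
    exact hexp p
  have hVcomm : ∀ v w : (P : Subgroup G) ⧸ commutator (P : Subgroup G), v * w = w * v :=
    fun v w => mul_comm (G := Abelianization (P : Subgroup G)) v w
  have hVcard : Nat.card ((P : Subgroup G) ⧸ commutator (P : Subgroup G)) = 9 := hidx
  obtain ⟨w, hw⟩ : ∃ w : (P : Subgroup G), π w ∉ Subgroup.zpowers (π y) := by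
    by_contra h
    push Not at h
    have ht : Subgroup.zpowers (π y) = ⊤ := eq_top_iff.mpr fun v _ => by
      obtain ⟨p, rfl⟩ := QuotientGroup.mk'_surjective _ v
      exact h p
    have hc := Nat.card_zpowers (π y)
    rw [ht, Subgroup.card_top, hVcard] at hc
    have := Nat.le_of_dvd (by norm_num) (orderOf_dvd_of_pow_eq_one (hV (π y)))
    omega
  have padd : ∀ (v : (P : Subgroup G) ⧸ commutator (P : Subgroup G)) (i j : ZMod 3),
      v ^ (i + j).val = v ^ i.val * v ^ j.val := fun v i j => by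
    rw [← pow_add, ZMod.val_add, ← pow_eq_pow_mod _ (hV v)]
  have pmul : ∀ (v : (P : Subgroup G) ⧸ commutator (P : Subgroup G)) (i j : ZMod 3),
      v ^ (i * j).val = (v ^ j.val) ^ i.val := fun v i j => by
    rw [← pow_mul, ZMod.val_mul, ← pow_eq_pow_mod _ (hV v), mul_comm]
  -- coordinates
  let ι : ZMod 3 × ZMod 3 → (P : Subgroup G) ⧸ commutator (P : Subgroup G) := fun v =>
    π y ^ v.1.val * π w ^ v.2.val
  have ιadd : ∀ a b, ι (a + b) = ι a * ι b := fun a b => by
    simp only [ι, Prod.fst_add, Prod.snd_add, padd]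
    exact Commute.mul_mul_mul_comm (hVcomm _ _) _ _
  have hinj : Function.Injective ι := by
    intro a b h
    have h0 : ι (a - b) = 1 := by
      have := ιadd (a - b) b
      rw [sub_add_cancel, h] at this
      exact mul_eq_right.mp this.symm
    obtain ⟨⟨i, j⟩, hab⟩ : ∃ v, v = a - b := ⟨_, rfl⟩
    rw [← hab] at h0
    by_cases hj : j = 0
    · have hi : π y ^ i.val = 1 := by simpa [ι, hj] using h0
      have hord : orderOf (π y) = 3 := orderOf_eq_prime (hV _) fun e => hy
        ((QuotientGroup.eq_one_iff y).mp e)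
      have h3 := orderOf_dvd_of_pow_eq_one hi
      rw [hord] at h3
      have hi0 : i = 0 := (ZMod.val_eq_zero i).mp (Nat.eq_zero_of_dvd_of_lt h3 (ZMod.val_lt i))
      refine sub_eq_zero.mp ?_
      rw [← hab, hi0, hj]
      rfl
    · exfalso
      refine hw ?_
      have hk : π w = (π w ^ j.val) ^ j.val := by
        rw [← pmul, show j * j = 1 from zmod_sq j hj, ZMod.val_one,
          pow_one]
      rw [hk]
      refine pow_mem ?_ _
      have : π w ^ j.val = (π y ^ i.val)⁻¹ := eq_inv_of_mul_eq_one_right h0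
      rw [this]
      exact inv_mem (pow_mem (Subgroup.mem_zpowers _) _)
  have hbij : Function.Bijective ι := (Nat.bijective_iff_injective_and_card ι).mpr
    ⟨hinj, by rw [hVcard, Nat.card_prod, Nat.card_zmod]⟩
  let e := Equiv.ofBijective ι hbij
  -- the action
  let act : N → (P : Subgroup G) →* (P : Subgroup G) := fun g =>
    (((MulAut.conj (g : G)).toMonoidHom).comp (P : Subgroup G).subtype).codRestrict (P : Subgroup G)
      fun p => (Subgroup.mem_normalizer_iff.mp g.2 p).mp p.2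
  let actV : N → (P : Subgroup G) ⧸ commutator (P : Subgroup G) →* (P : Subgroup G) ⧸ commutator (P : Subgroup G) :=
    fun g => Abelianization.map (act g)
  have actV_mk : ∀ g p, actV g (π p) = π (act g p) := fun g p => rfl
  let quad : N → Quad := fun g => (e.symm (π (act g y)), e.symm (π (act g w)))
  have hq : ∀ g v, actV g (ι v) = ι (app (quad g) v) := by
    intro g v
    have h1 : ι (quad g).1 = π (act g y) := e.apply_symm_apply _
    have h2 : ι (quad g).2 = π (act g w) := e.apply_symm_apply _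
    show actV g (π y ^ v.1.val * π w ^ v.2.val) = _
    rw [map_mul, map_pow, map_pow, actV_mk, actV_mk, ← h1, ← h2]
    simp only [ι, app, padd, pmul]
    rw [Commute.mul_pow (hVcomm _ _), Commute.mul_pow (hVcomm _ _)]
    exact Commute.mul_mul_mul_comm (hVcomm _ _) _ _
  have hmul : ∀ g h : N, quad (g * h) = comp (quad g) (quad h) := by
    intro g h
    have hz : ∀ z : (P : Subgroup G), π (act (g * h) z) = actV g (π (act h z)) := fun z => by
      rw [actV_mk]
      refine congrArg π (Subtype.ext ?_)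
      show (g : G) * h * z * ((g : G) * h)⁻¹ = g * (h * z * (h : G)⁻¹) * (g : G)⁻¹
      group
    refine Prod.ext (hinj ?_) (hinj ?_) <;>
    · show ι (e.symm _) = ι (app _ (e.symm _))
      rw [← hq]
      exact (e.apply_symm_apply _).trans ((hz _).trans (congrArg _ (e.apply_symm_apply _).symm))
  have hid : ∀ p : (P : Subgroup G), quad ⟨p, Subgroup.le_normalizer p.2⟩ = qid := by
    intro p
    have hz : ∀ z : (P : Subgroup G), π (act ⟨p, Subgroup.le_normalizer p.2⟩ z) = π z := fun z => by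
      have h1 : act ⟨p, Subgroup.le_normalizer p.2⟩ z = p * z * p⁻¹ := Subtype.ext rfl
      rw [h1, map_mul, map_mul, map_inv, hVcomm (π p), mul_inv_cancel_right]
    refine Prod.ext (hinj ?_) (hinj ?_)
    · refine (e.apply_symm_apply _).trans ((hz y).trans ?_)
      simp [ι, qid, ZMod.val_one]
    · refine (e.apply_symm_apply _).trans ((hz w).trans ?_)
      simp [ι, qid, ZMod.val_one]
  have hone : quad 1 = qid := hid 1
  have hpow : ∀ (g : N) n, quad (g ^ n) = qpow (quad g) n := by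
    intro g n
    induction n with
    | zero => rw [pow_zero]; exact hone
    | succ n ih => rw [pow_succ, hmul, ih]; rfl
  set Pn := (P : Subgroup G).subgroupOf N with hPn
  have hcop : Nat.Coprime 3 Pn.index := by
    refine (Nat.prime_three.coprime_iff_not_dvd).mpr fun h => P.not_dvd_index (h.trans ?_)
    exact Subgroup.relIndex_dvd_index_of_le Subgroup.le_normalizer
  haveI hPnn : Pn.Normal := Subgroup.normal_subgroupOf_of_le_normalizer le_rfl
  have hgood : ∀ g : N, good (quad g) = true := by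
    intro g
    have h48 : qpow (quad g) 48 = qid := qpow_48 ⟨quad g⁻¹, by rw [← hmul, inv_mul_cancel, hone]⟩
    have hm : quad (g ^ Pn.index) = qid := hid ⟨_, Pn.pow_index_mem g⟩
    have h16 : qpow (quad g) 16 = qid := by
      obtain ⟨a, b, hab⟩ : ∃ a b : ℕ, 16 + a * Pn.index = b * 48 := by
        obtain ⟨c, hc⟩ := Nat.exists_mul_mod_eq_of_coprime (k := 3) (n := Pn.index) 2 hcop.symm (by norm_num) |>
          fun ⟨c, _, hc⟩ => (⟨c, hc⟩ : ∃ c, Pn.index * c % 3 = 2)
        refine ⟨16 * c, (16 + 16 * c * Pn.index) / 48, ?_⟩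
        have hk := Nat.div_add_mod (Pn.index * c) 3
        have h48' : 48 ∣ 16 + 16 * c * Pn.index := ⟨Pn.index * c / 3 + 1, by rw [mul_assoc 16 c, mul_comm c]; omega⟩
        rw [Nat.div_mul_cancel h48']
      have k1 : ∀ n, quad (g ^ (n * Pn.index)) = qid := fun n => by
        rw [mul_comm, pow_mul]
        induction n with
        | zero => rw [pow_zero]; exact hone
        | succ n ih => rw [pow_succ, hmul, ih, hm]; rfl
      have k2 : quad (g ^ (b * 48)) = qid := by
        rw [mul_comm, pow_mul]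
        clear hab
        induction b with
        | zero => rw [pow_zero]; exact hone
        | succ n ih => rw [pow_succ, hmul, ih, hpow, h48]; rfl
      rw [← hab, pow_add, hmul, k1, hpow] at k2
      have : ∀ q : Quad, comp q qid = q := fun q => by simp [comp, app, qid]
      rwa [this] at k2
    rw [good, Bool.and_eq_true, decide_eq_true_iff, List.all_eq_true]
    refine ⟨h16, fun n _ => decide_eq_true fun h => ?_⟩
    rw [← hpow] at h
    have h1 : π (act (g ^ n) y) = π y⁻¹ := by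
      rw [← e.apply_symm_apply (π (act (g ^ n) y)), show e.symm (π (act (g ^ n) y)) = (2, 0) from h, map_inv]
      refine eq_inv_of_mul_eq_one_left ?_
      show π y ^ (2 : ZMod 3).val * π w ^ (0 : ZMod 3).val * π y = 1
      rw [show (2 : ZMod 3).val = 2 from rfl, ZMod.val_zero, pow_zero, mul_one, ← pow_succ]
      exact hV _
    obtain ⟨d, hd, hd'⟩ : ∃ d ∈ commutator (P : Subgroup G), act (g ^ n) y = y⁻¹ * d :=
      ⟨(y⁻¹)⁻¹ * act (g ^ n) y, QuotientGroup.eq.mp h1.symm, by group⟩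
    exact hinv _ (g ^ n).2 d hd (congrArg Subtype.val hd')
  obtain ⟨l, hl, hfix⟩ := exists_functional (Set.range quad) (by rintro _ ⟨g, rfl⟩; exact hgood g)
    (by rintro _ ⟨g, rfl⟩ _ ⟨h, rfl⟩; exact ⟨g * h, hmul g h⟩)
  -- the functional
  let lam : (P : Subgroup G) →* Multiplicative (ZMod 3) := MonoidHom.mk'
    (fun p => Multiplicative.ofAdd (l.1 * (e.symm (π p)).1 + l.2 * (e.symm (π p)).2)) fun p q => by
      have : e.symm (π (p * q)) = e.symm (π p) + e.symm (π q) := by
        refine e.symm_apply_eq.mpr ?_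
        show π (p * q) = ι _
        rw [ιadd, map_mul]
        exact congrArg₂ _ (e.apply_symm_apply _).symm (e.apply_symm_apply _).symm
      rw [← ofAdd_add, this, Prod.fst_add, Prod.snd_add]
      congr 1
      ring
  have hlam : ∀ (g : N) p, lam (act g p) = lam p := by
    intro g p
    have h1 : e.symm (π (act g p)) = app (quad g) (e.symm (π p)) := by
      refine e.symm_apply_eq.mpr ?_
      show π (act g p) = ι _
      rw [← hq]
      exact (actV_mk g p).symm.trans (congrArg (actV g) (e.apply_symm_apply _).symm)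
    obtain ⟨k1, k2⟩ := hfix _ ⟨g, rfl⟩
    show Multiplicative.ofAdd _ = Multiplicative.ofAdd _
    rw [h1]
    congr 1
    simp only [app]
    linear_combination (e.symm (π p)).1 * k1 + (e.symm (π p)).2 * k2
  -- its extension to the normalizer
  obtain ⟨K, hK⟩ := Subgroup.exists_right_complement'_of_coprime (N := Pn) (by
    rw [Nat.card_congr (Subgroup.subgroupOfEquivOfLe Subgroup.le_normalizer).toEquiv]
    obtain ⟨k, hk⟩ := IsPGroup.iff_card.mp P.isPGroup'
    rw [hk]
    exact hcop.pow_left k)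
  let pr : N → (P : Subgroup G) := fun n => ⟨((hK.equiv n).1.1 : N), (hK.equiv n).1.2⟩
  have hdec : ∀ n : N, (n : G) = (pr n : G) * ((hK.equiv n).2.1 : N) := fun n => by
    exact congrArg Subtype.val (hK.equiv_fst_mul_equiv_snd n).symm
  have hpr : ∀ (p : (P : Subgroup G)) (k : K) (n : N), (n : G) = p * (k.1 : N) → pr n = p := by
    intro p k n h
    have h1 : hK.equiv n = (⟨⟨p, Subgroup.le_normalizer p.2⟩, p.2⟩, k) := by
      refine (Equiv.apply_eq_iff_eq_symm_apply _).mpr (Subtype.ext ?_)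
      exact h
    exact Subtype.ext (by simp only [pr, h1])
  let f : N →* Multiplicative (ZMod 3) := MonoidHom.mk' (fun n => lam (pr n)) fun m n => by
    rw [hpr (pr m * act ((hK.equiv m).2 : N) (pr n)) ((hK.equiv m).2 * (hK.equiv n).2) (m * n) ?_,
      map_mul, hlam]
    show (m : G) * n = (pr m : G) * (((hK.equiv m).2.1 : N) * (pr n : G) * (((hK.equiv m).2.1 : N) : G)⁻¹) *
      ((((hK.equiv m).2.1 : N) : G) * ((hK.equiv n).2.1 : N))
    rw [hdec m, hdec n]
    group
  obtain ⟨p, hp⟩ : ∃ p, lam p ≠ 1 := by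
    obtain ⟨v, hv⟩ := exists_value l hl
    obtain ⟨p, hp⟩ := QuotientGroup.mk'_surjective _ (e v)
    refine ⟨p, fun h => hv ?_⟩
    have h' : Multiplicative.ofAdd (l.1 * (e.symm (π p)).1 + l.2 * (e.symm (π p)).2) = 1 := h
    rw [hp, e.symm_apply_apply, ofAdd_eq_one] at h'
    exact h'
  intro hle
  refine hp ?_
  have hker : (⁅(⊤ : Subgroup N), ⊤⁆ : Subgroup N) ≤ f.ker := Subgroup.commutator_le.mpr fun a _ b _ => by
    rw [MonoidHom.mem_ker, commutatorElement_def, map_mul, map_mul, map_mul, map_inv, map_inv,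
      mul_comm (f a), mul_inv_cancel_right, mul_inv_cancel]
  have hmem := hle p.2
  rw [show ⁅N, N⁆ = (⁅(⊤ : Subgroup N), ⊤⁆ : Subgroup N).map N.subtype by
    rw [Subgroup.map_commutator, ← MonoidHom.range_eq_map, Subgroup.range_subtype]] at hmem
  obtain ⟨n, hn, hnp⟩ := hmem
  have h1 : f n = 1 := hker hn
  rw [show lam p = f n from ?_, h1]
  show lam p = lam (pr n)
  rw [hpr p 1 n]
  simpa using hnp

end ThreeCore

open ThreeCore in
open scoped commutatorElement in
/-- The core: such a Sylow subgroup has order nine and exponent three or is `C₃ ≀ C₃`. -/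
theorem three_core {G : Type*} [Group G] [Finite G] [IsSimpleGroup G] (hna : ¬ IsMulCommutative G)
    (P : Sylow 3 G) {y : G} (hyP : y ∈ P) (hy : orderOf y = 3)
    (hC : Nat.card ↥((P : Subgroup G) ⊓ Subgroup.centralizer ({y} : Set G)) = 9)
    (hinv : ∀ g ∈ Subgroup.normalizer ((P : Subgroup G) : Set G), g * y * g⁻¹ ≠ y⁻¹) :
    (Nat.card P = 9 ∧ ∀ x ∈ (P : Subgroup G), x ^ 3 = 1) ∨
      ∃ T : Sylow 3 (Equiv.Perm (Fin 9)), Nonempty ((P : Subgroup G) ≃* (T : Subgroup (Equiv.Perm (Fin 9)))) := by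
  classical
  haveI : Fact (Nat.Prime 3) := ⟨Nat.prime_three⟩
  set Q := (P : Subgroup G) with hQdef
  have hQ : IsPGroup 3 Q := P.isPGroup'
  set y' : Q := ⟨y, hyP⟩ with hy'def
  have hy3 : y' ^ 3 = 1 := Subtype.ext (hy ▸ pow_orderOf_eq_one y)
  have hy1 : y ≠ 1 := fun h => by rw [h, orderOf_one] at hy; omega
  have hCy : Nat.card (Subgroup.centralizer ({y'} : Set Q)) = 9 := by
    rw [← hC]
    refine Nat.card_congr
      { toFun := fun z => ⟨z.1.1, z.1.2, Subgroup.mem_centralizer_singleton_iff.mpr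
          (congrArg Subtype.val (Subgroup.mem_centralizer_singleton_iff.mp z.2))⟩
        invFun := fun z => ⟨⟨z.1, z.2.1⟩, Subgroup.mem_centralizer_singleton_iff.mpr
          (Subtype.ext (Subgroup.mem_centralizer_singleton_iff.mp z.2.2))⟩
        left_inv := fun z => rfl
        right_inv := fun z => rfl }
  by_cases hab : ∃ a b : Q, a * b ≠ b * a
  swap
  · -- the commutative case
    push Not at hab
    have hcard : Nat.card Q = 9 := by
      rw [← hCy, show Subgroup.centralizer ({y'} : Set Q) = ⊤ from eq_top_iff.mpr fun z _ =>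
        Subgroup.mem_centralizer_singleton_iff.mpr (hab z y'), Subgroup.card_top]
    refine Or.inl ⟨hcard, fun x hx => ?_⟩
    by_contra hx3
    have hord : orderOf x = 9 := by
      have hd : orderOf x ∣ 3 ^ 2 := by
        rw [show 3 ^ 2 = 9 from rfl, ← hcard]; exact Subgroup.orderOf_dvd_natCard Q hx
      obtain ⟨i, hi, hi'⟩ := (Nat.dvd_prime_pow Nat.prime_three).mp hd
      interval_cases i
      · exact absurd (by rw [orderOf_eq_one_iff.mp hi', one_pow]) hx3
      · exact absurd (orderOf_dvd_iff_pow_eq_one.mp (by rw [hi', pow_one])) hx3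
      · simpa using hi'
    have hgen : Subgroup.zpowers x = Q := Subgroup.eq_of_le_of_card_ge (Subgroup.zpowers_le.mpr hx)
      (le_of_eq (by rw [Nat.card_zpowers, hord, hcard]))
    obtain ⟨g, hg, hgx⟩ : ∃ g ∈ Subgroup.normalizer (Q : Set G), g * x * g⁻¹ ≠ x := by
      by_contra h
      push Not at h
      have hP : Subgroup.normalizer (P : Set G) ≤ Subgroup.centralizer (P : Set G) := fun g hg =>
        Subgroup.mem_centralizer_iff.mpr fun z hz => by
          obtain ⟨i, rfl⟩ := Subgroup.mem_zpowers_iff.mp (hgen.ge hz)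
          exact (Commute.zpow_left (show Commute x g from (mul_inv_eq_iff_eq_mul.mp (h g hg)).symm) i).eq
      have hc := MonoidHom.ker_transferSylow_isComplement' P hP
      rcases (inferInstance : (MonoidHom.transferSylow P hP).ker.Normal).eq_bot_or_eq_top with hb | ht
      · rw [hb] at hc
        have htop : (P : Subgroup G) = ⊤ := Subgroup.isComplement'_bot_left.mp hc
        refine hna ⟨⟨fun a b => congrArg Subtype.val (hab ⟨a, ?_⟩ ⟨b, ?_⟩)⟩⟩ <;>
          rw [hQdef, htop] <;> trivial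
      · rw [ht] at hc
        have hbot : (P : Subgroup G) = ⊥ := Subgroup.isComplement'_top_left.mp hc
        exact hy1 (Subgroup.mem_bot.mp (hbot ▸ hyP))
    exfalso
    have hfin : IsOfFinOrder x := isOfFinOrder_of_finite x
    obtain ⟨i, hi⟩ := hfin.mem_powers_iff_mem_zpowers.mpr (hgen.ge ((Subgroup.mem_normalizer_iff.mp hg x).mp hx))
    simp only at hi
    have hconj : ∀ n : ℕ, g ^ n * x * (g ^ n)⁻¹ = x ^ (i ^ n) := by
      intro n
      induction n with
      | zero => simp
      | succ n ih =>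
        rw [show g ^ (n + 1) * x * (g ^ (n + 1))⁻¹ = g ^ n * (g * x * g⁻¹) * (g ^ n)⁻¹ by
          rw [pow_succ]; group, ← hi, ← conj_pow, ih, ← pow_mul, pow_succ]
    obtain ⟨m, hm, hgm⟩ : ∃ m, Nat.Coprime 3 m ∧ g ^ m ∈ Q := by
      refine ⟨(Q.subgroupOf (Subgroup.normalizer (Q : Set G))).index,
        (Nat.prime_three.coprime_iff_not_dvd).mpr fun h => P.not_dvd_index
          (h.trans (Subgroup.relIndex_dvd_index_of_le Subgroup.le_normalizer)), ?_⟩
      haveI : (Q.subgroupOf (Subgroup.normalizer (Q : Set G))).Normal :=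
        Subgroup.normal_subgroupOf_of_le_normalizer le_rfl
      exact (Q.subgroupOf (Subgroup.normalizer (Q : Set G))).pow_index_mem ⟨g, hg⟩
    have him : i ^ m % 9 = 1 := by
      have h1 : x ^ (i ^ m) = x ^ 1 := by
        rw [← hconj m, pow_one]
        exact mul_inv_eq_iff_eq_mul.mpr (congrArg Subtype.val (hab ⟨_, hgm⟩ ⟨x, hx⟩))
      have := pow_eq_pow_iff_modEq.mp h1
      rw [hord] at this
      exact this
    have hi3 : i % 3 = 2 := by
      have hne : i % 3 ≠ 1 := by
        intro h3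
        refine hgx ?_
        rw [← hi]
        have hi9 : i ^ 3 % 9 = 1 := by
          rw [Nat.pow_mod]
          have : i % 9 = 1 ∨ i % 9 = 4 ∨ i % 9 = 7 := by omega
          rcases this with h | h | h <;> rw [h]
        obtain ⟨a, b, hab'⟩ : ∃ a b, a * m = 3 * b + 1 := by
          obtain ⟨a, -, ha⟩ := Nat.exists_mul_mod_eq_of_coprime (k := 3) (n := m) 1 hm.symm (by norm_num)
          exact ⟨a, m * a / 3, by have := Nat.div_add_mod (m * a) 3; rw [mul_comm a m]; omega⟩
        have : i % 9 = 1 := by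
          have h1 : i ^ (a * m) % 9 = 1 := by
            rw [mul_comm a m, pow_mul, Nat.pow_mod, him, one_pow]
            rfl
          rw [hab', pow_succ, pow_mul, Nat.mul_mod, Nat.pow_mod, hi9, one_pow] at h1
          simpa using h1
        rw [← pow_mod_orderOf, hord, this, pow_one]
      have h0 : i % 3 ≠ 0 := fun h3 => by
        have hd : 3 ∣ i ^ m := (Nat.dvd_of_mod_eq_zero h3).trans
          (dvd_pow_self i (by rintro rfl; simp at hm))
        omega
      omega
    obtain ⟨j, hj, hj'⟩ : ∃ j, y = x ^ j ∧ j % 3 = 0 := by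
      obtain ⟨j, hj⟩ := hfin.mem_powers_iff_mem_zpowers.mpr (hgen.ge hyP)
      refine ⟨j, hj.symm, ?_⟩
      have h1 : x ^ (j * 3) = x ^ 0 := by
        rw [pow_zero, pow_mul, show x ^ j = y from hj, ← hy, pow_orderOf_eq_one]
      have := pow_eq_pow_iff_modEq.mp h1
      rw [hord, Nat.ModEq] at this
      omega
    refine hinv g hg ?_
    rw [hj, ← conj_pow, ← hi, ← pow_mul, eq_inv_iff_mul_eq_one, ← pow_add, ← orderOf_dvd_iff_pow_eq_one, hord]
    have e : i * j + j = (i + 1) * j := by ring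
    rw [e]
    exact Nat.mul_dvd_mul (show 3 ∣ i + 1 by omega) (Nat.dvd_of_mod_eq_zero hj')
  obtain ⟨hidx, hcls⟩ := class_coset hQ hab y' hCy.le
  have hexp : ∀ p : Q, p ^ 3 ∈ commutator Q := by
    intro p
    by_contra hp
    have hone : (QuotientGroup.mk' (commutator Q) p) ^ 3 ≠ 1 := fun h => hp
      ((QuotientGroup.eq_one_iff _).mp h)
    have hcard : Nat.card (Q ⧸ commutator Q) = 3 ^ 2 := hidx
    have h9 : orderOf (QuotientGroup.mk' (commutator Q) p) = 9 := by
      obtain ⟨i, hi, hi'⟩ := (Nat.dvd_prime_pow Nat.prime_three).mp (hcard ▸ orderOf_dvd_natCard _)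
      interval_cases i
      · exact absurd (orderOf_dvd_iff_pow_eq_one.mp (by rw [hi', pow_zero]; exact one_dvd _)) hone
      · exact absurd (orderOf_dvd_iff_pow_eq_one.mp (by rw [hi', pow_one])) hone
      · simpa using hi'
    have hcyc : IsCyclic (Q ⧸ commutator Q) := isCyclic_of_orderOf_eq_card _ (h9.trans hcard.symm)
    obtain ⟨a, b, hab'⟩ := hab
    obtain ⟨s, hs⟩ := hcyc.exists_generator
    obtain ⟨s, rfl⟩ := QuotientGroup.mk_surjective s
    have htop : Subgroup.zpowers s = ⊤ := frattini_nongenerating (top_le_iff.mp (by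
      intro z _
      obtain ⟨k, hk⟩ := Subgroup.mem_zpowers_iff.mp (hs (QuotientGroup.mk z))
      have hz : (s ^ k)⁻¹ * z ∈ commutator Q :=
        QuotientGroup.eq.mp ((QuotientGroup.mk_zpow (commutator Q) s k).trans hk)
      rw [show z = s ^ k * ((s ^ k)⁻¹ * z) by group]
      exact mul_mem (Subgroup.mem_sup_left (zpow_mem (Subgroup.mem_zpowers s) k))
        (Subgroup.mem_sup_right ((PSolvable.commutator_le_frattini hQ).1 hz))))
    obtain ⟨u, rfl⟩ : a ∈ Subgroup.zpowers s := htop ▸ Subgroup.mem_top a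
    obtain ⟨v, rfl⟩ : b ∈ Subgroup.zpowers s := htop ▸ Subgroup.mem_top b
    exact hab' (Commute.zpow_zpow_self s u v).eq
  have hyC : y' ∉ commutator Q := fun h => by
    obtain ⟨t, ht⟩ := hcls y'⁻¹ (inv_mem h)
    rw [mul_inv_cancel] at ht
    exact hy1 (congrArg Subtype.val (conj_eq_one_iff.mp ht))
  have hfull : ¬ (P : Subgroup G) ≤ ⁅Subgroup.normalizer ((P : Subgroup G) : Set G),
      Subgroup.normalizer ((P : Subgroup G) : Set G)⁆ := by
    refine not_le_commutator_normalizer P y' hidx hexp hyC fun g hg d hd he => ?_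
    have hd' : y' * d⁻¹ * y'⁻¹ ∈ commutator Q :=
      (inferInstance : (commutator Q).Normal).conj_mem _ (inv_mem hd) y'
    obtain ⟨t, ht⟩ := hcls (d⁻¹) (inv_mem hd)
    obtain ⟨t', ht'⟩ := hcls (y'⁻¹ * d⁻¹ * y') (by
      simpa using (inferInstance : (commutator Q).Normal).conj_mem _ (inv_mem hd) y'⁻¹)
    refine hinv ((t' : G)⁻¹ * g) (mul_mem (inv_mem (Subgroup.le_normalizer t'.2)) hg) ?_
    have h1 : (t' : G) * y * (t' : G)⁻¹ = y * (y⁻¹ * (d : G)⁻¹ * y) := congrArg Subtype.val ht'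
    calc (t' : G)⁻¹ * g * y * ((t' : G)⁻¹ * g)⁻¹ = (t' : G)⁻¹ * (g * y * g⁻¹) * t' := by group
      _ = (t' : G)⁻¹ * ((t' : G) * y * (t' : G)⁻¹)⁻¹ * t' := by
        rw [he, h1, show ((y' : Q) : G) = y from rfl]; group
      _ = y⁻¹ := by group
  have hperf : commutator G = ⊤ := by
    rcases (inferInstance : (commutator G).Normal).eq_bot_or_eq_top with h | h
    · refine absurd ⟨⟨fun a b => ?_⟩⟩ hna
      have := Subgroup.mem_bot.mp (h ▸ Subgroup.commutator_mem_commutator (Subgroup.mem_top a)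
        (Subgroup.mem_top b) : ⁅a, b⁆ ∈ (⊥ : Subgroup G))
      exact commutatorElement_eq_one_iff_mul_comm.mp this
    · exact h
  obtain ⟨T, f, hf⟩ := Cfsg.Agent.S2807.result P (by
    rw [hperf, inf_top_eq]
    exact fun h => hfull (h.trans_le inf_le_right))
  haveI : Finite (T : Subgroup (Equiv.Perm (Fin (3 ^ 2)))) := inferInstance
  obtain ⟨B, hBidx, hB, hBc, hBe⟩ := exists_base T
  haveI : B.Normal := Subgroup.normal_of_index_eq_minFac_card (by
    rw [hBidx, card_sylow_nine T]; exact (Nat.Prime.pow_minFac Nat.prime_three (by norm_num : (4:ℕ) ≠ 0)).symm)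
  have hTna : ∃ a b : (T : Subgroup (Equiv.Perm (Fin (3 ^ 2)))), a * b ≠ b * a := by
    by_contra h
    push Not at h
    have hle : commutator Q ≤ f.ker := Subgroup.commutator_le.mpr fun a _ b _ => by
      rw [MonoidHom.mem_ker, commutatorElement_def, map_mul, map_mul, map_mul, map_inv, map_inv,
        h (f a) (f b)]
      group
    have h1 := Subgroup.index_dvd_of_le hle
    rw [Subgroup.index_ker, MonoidHom.range_eq_top.mpr hf, Subgroup.card_top, hidx] at h1
    have h81 := card_sylow_nine T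
    have := Nat.le_of_dvd (by norm_num) h1
    exact absurd (h81.symm.trans_le this) (by norm_num)
  have h81' : Nat.card (T : Subgroup (Equiv.Perm (Fin (3 ^ 2)))) = 81 := card_sylow_nine T
  have hker : Nat.card f.ker * 81 = Nat.card Q := by
    rw [← h81', ← Subgroup.card_top (G := (T : Subgroup (Equiv.Perm (Fin (3 ^ 2))))),
      ← MonoidHom.range_eq_top.mpr hf, ← Subgroup.index_ker, Subgroup.card_mul_index]
  obtain ⟨i, hi⟩ := IsPGroup.iff_card.mp (hQ.to_subgroup f.ker)
  rcases Nat.eq_zero_or_pos i with rfl | hi0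
  · refine Or.inr ⟨T, ⟨MulEquiv.ofBijective f ⟨(MonoidHom.ker_eq_bot_iff f).mp
      (Subgroup.eq_bot_of_card_eq _ (by rw [hi, pow_zero])), hf⟩⟩⟩
  exfalso
  obtain ⟨M, hMn, hMK, hMc⟩ := CyclicMax.exists_normal_le_card_pow hQ 1 (j := i - 1) f.ker inferInstance
    (by rw [hi, Nat.sub_add_cancel hi0])
  haveI := hMn
  have hMidx : M.index = 243 := by
    have h1 := M.card_mul_index
    rw [← hker, hi, hMc, show 3 ^ i = 3 ^ (i - 1) * 3 by rw [← pow_succ, Nat.sub_add_cancel hi0],
      mul_assoc] at h1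
    exact Nat.eq_of_mul_eq_mul_left (Nat.pow_pos (by norm_num)) h1
  set f' := QuotientGroup.lift M f hMK with hf'
  have hf's : Function.Surjective f' := QuotientGroup.lift_surjective_of_surjective M f hf hMK
  have hRna : ∃ a b : Q ⧸ M, a * b ≠ b * a := by
    obtain ⟨a, b, hab'⟩ := hTna
    obtain ⟨a, rfl⟩ := hf's a
    obtain ⟨b, rfl⟩ := hf's b
    exact ⟨a, b, fun h => hab' (by rw [← map_mul, h, map_mul])⟩
  refine no_extension (hQ.to_quotient M) (QuotientGroup.mk' M y') (by rw [← map_pow, hy3, map_one])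
    (card_cent_image hQ y' hCy.le _ (QuotientGroup.mk'_surjective M) hRna) f' hf's ?_ ?_ B hB hBc hBe
  · have h1 := f'.ker.card_mul_index
    rw [Subgroup.index_ker, MonoidHom.range_eq_top.mpr hf's, Subgroup.card_top] at h1
    have h2 : Nat.card (Q ⧸ M) = 243 := hMidx
    have h81 := card_sylow_nine T
    rw [h2] at h1
    exact Nat.eq_of_mul_eq_mul_right (show 0 < 81 by norm_num) ((congrArg _ h81.symm).trans h1)
  · exact card_cent_image hQ y' hCy.le f hf hTna

end CfsgLib.FixityFour
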