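import Cfsg.Agent.Lib.FixityFour.Base
import Cfsg.Agent.Lib.Transfer.Thompson
import Cfsg.Agent.Lib.TwoRank.Basic
import Cfsg.Agent.S3224
import Cfsg.Prelude.Def_Involutions

/-!
Fixity four, the cases in which involutions fix at most three points
(`notes/s3365_plan.md`).
-/

set_option autoImplicit false
set_option linter.style.haveILetI false
set_option linter.unusedSectionVars false

namespace CfsgLib.FixityFour

open MulAction

variable {G Ω : Type*} [Group G] [MulAction G Ω]

/-- A `2`-group has an orbit of length two when the moved points are not a multiple of four. -/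
theorem exists_index_two [Finite Ω] {S : Subgroup G} (hS : IsPGroup 2 S) [Finite S]
    (h : ¬ 4 ∣ Nat.card Ω - Nat.card (fixedPoints S Ω)) :
    ∃ b : Ω, ((stabilizer G b).subgroupOf S).index = 2 := by
  classical
  haveI : Fact (Nat.Prime 2) := ⟨Nat.prime_two⟩
  by_contra hno
  push Not at hno
  let X : SubMulAction S Ω :=
    { carrier := (fixedPoints S Ω)ᶜ
      smul_mem' := fun s x hx hfx => hx fun r => by
        have h1 := hfx (s⁻¹ * r * s)
        rw [mul_smul, mul_smul, inv_smul_eq_iff, hfx s] at h1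
        have h2 := hfx s
        rw [smul_left_cancel_iff] at h2
        calc r • x = r • s • x := by rw [h2]
          _ = s • x := h1
          _ = x := h2 }
  have hX : Nat.card X = Nat.card Ω - Nat.card (fixedPoints S Ω) := by
    show Nat.card ↥((fixedPoints S Ω)ᶜ : Set Ω) = _
    rw [Nat.card_coe_set_eq, Nat.card_coe_set_eq, Set.ncard_compl]
  have h4 : ∀ x : X, 4 ∣ Nat.card (orbit S x) := by
    intro x
    rw [Nat.card_coe_set_eq, ← MulAction.index_stabilizer, SubMulAction.stabilizer_of_subMul]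
    obtain ⟨k, hk⟩ := hS.index (stabilizer S (x : Ω))
    rw [hk]
    have he : stabilizer S (x : Ω) = (stabilizer G (x : Ω)).subgroupOf S := by ext; rfl
    rcases k with _ | _ | k
    · refine absurd (fun r => ?_) (show (x : Ω) ∉ fixedPoints S Ω from x.2)
      have ht := Subgroup.index_eq_one.mp (hk.trans (pow_zero 2))
      exact (ht ▸ Subgroup.mem_top r : r ∈ stabilizer S (x : Ω))
    · exact absurd (he ▸ hk.trans (pow_one 2)) (hno x)
    · exact ⟨2 ^ k, by ring⟩
  haveI : Fintype (Quotient (orbitRel S X)) := Fintype.ofFinite _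
  refine h (hX ▸ ?_)
  rw [Nat.card_congr (selfEquivSigmaOrbits S X), Nat.card_sigma]
  exact Finset.dvd_sum fun q _ => h4 _

/-- Some power of a nontrivial `2`-element is an involution. -/
theorem exists_invol_pow [Finite G] {S : Subgroup G} (hS : IsPGroup 2 S) {t : G} (ht : t ∈ S)
    (h1 : t ≠ 1) : ∃ k : ℕ, orderOf (t ^ k) = 2 := by
  haveI : Fact (Nat.Prime 2) := ⟨Nat.prime_two⟩
  obtain ⟨k, hk⟩ := IsPGroup.iff_orderOf.mp hS ⟨t, ht⟩
  rw [Subgroup.orderOf_mk] at hk
  rcases k with _ | k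
  · exact absurd (orderOf_eq_one_iff.mp (hk.trans (pow_zero 2))) h1
  · refine ⟨2 ^ k, ?_⟩
    rw [orderOf_pow' t (by positivity), hk, Nat.gcd_eq_right (pow_dvd_pow 2 (Nat.le_succ k)),
      pow_succ]
    exact Nat.mul_div_cancel_left 2 (by positivity)

section Simple

variable [Finite G] [IsSimpleGroup G] [FaithfulSMul G Ω] [Finite Ω] (B : Fixity G Ω)

include B

/-- With at most three fixed points all involutions fix the same number of points. -/
theorem card_fixedBy_invol {f : ℕ} (hf3 : f ≤ 3)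
    (hf : ∀ g : G, orderOf g = 2 → Nat.card (fixedBy Ω g) ≤ f)
    (hf' : ∃ g : G, orderOf g = 2 ∧ Nat.card (fixedBy Ω g) = f) {u : G} (hu : orderOf u = 2) :
    Nat.card (fixedBy Ω u) = f := by
  obtain ⟨g, hg, hgf⟩ := hf'
  have h1 := four_dvd_moved B hu
  have h2 := four_dvd_moved B hg
  have h3 := hf u hu
  have h4 := hf g hg
  have h5 : Nat.card (fixedBy Ω u) ≤ Nat.card Ω := Finite.card_subtype_le _
  have h6 : Nat.card (fixedBy Ω g) ≤ Nat.card Ω := Finite.card_subtype_le _
  omega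

/-- The transfer argument for an element of least order outside a subgroup of index two. -/
theorem exists_conj_mem_half (S : Sylow 2 G) {T : Subgroup G}
    (hidx : (T.subgroupOf (S : Subgroup G)).index = 2) :
    ∃ x ∈ (S : Subgroup G), x ∉ T ∧ ∃ g : G, g * x * g⁻¹ ∈ (S : Subgroup G) ∧ g * x * g⁻¹ ∈ T := by
  classical
  haveI : Fact (Nat.Prime 2) := ⟨Nat.prime_two⟩
  haveI : Fintype (S : Subgroup G) := Fintype.ofFinite _
  obtain ⟨s, hsS, hsT⟩ : ∃ s ∈ (S : Subgroup G), s ∉ T := by
    by_contra h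
    push Not at h
    have := Subgroup.index_eq_one.mpr (Subgroup.subgroupOf_eq_top.mpr (show (S : Subgroup G) ≤ T from h))
    omega
  have hne : (Finset.univ.filter fun x : (S : Subgroup G) => (x : G) ∉ T).Nonempty :=
    ⟨⟨s, hsS⟩, by simpa using hsT⟩
  obtain ⟨x, hx, hmin⟩ := Finset.exists_min_image _ (fun x : (S : Subgroup G) => orderOf (x : G)) hne
  rw [Finset.mem_filter] at hx
  refine ⟨x, x.2, hx.2, ?_⟩
  by_contra hno
  push Not at hno
  set φ := CfsgLib.Transfer.sgnHom (T.subgroupOf (S : Subgroup G)) hidx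
  have hφ : ∀ y : (S : Subgroup G), φ y = 1 ↔ (y : G) ∈ T := fun y =>
    CfsgLib.Transfer.sgnHom_eq_one_iff.trans Subgroup.mem_subgroupOf
  have hneg : ∀ y : (S : Subgroup G), (y : G) ∉ T → φ y = -1 := fun y hy =>
    (Int.units_eq_one_or (φ y)).resolve_left fun h => hy ((hφ y).mp h)
  obtain ⟨j, hj⟩ := IsPGroup.iff_orderOf.mp S.isPGroup' x
  rw [← Subgroup.orderOf_coe] at hj
  have hall : commutator G = ⊤ := top_le_iff.mp fun y _ =>
    (Abelianization.ker_of G) ▸ MonoidHom.mem_ker.mpr (DFunLike.congr_fun (hom_trivial B Abelianization.of) y)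
  refine CfsgLib.Transfer.notMem_commutator_of_controlled φ x.2
    ⟨j, by rw [← hj, pow_orderOf_eq_one]⟩ (fun h => hx.2 ((hφ x).mp h))
    (Nat.prime_two.coprime_iff_not_dvd.mpr S.not_dvd_index) ?_ (hall ▸ Subgroup.mem_top _)
  intro k a h
  show φ ⟨_, h⟩ = φ x ^ k
  rw [hneg x hx.2]
  rcases Nat.even_or_odd k with hk | hk
  · rw [hk.neg_one_pow, hφ]
    by_contra hT
    have h1 := hmin ⟨_, h⟩ (by simpa using hT)
    have h2 : orderOf (a⁻¹ * (x : G) ^ k * a) = orderOf ((x : G) ^ k) := by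
      simpa using CfsgLib.Transfer.orderOf_conj a⁻¹ ((x : G) ^ k)
    obtain ⟨i, rfl⟩ := hk
    rw [show i + i = 2 * i by ring, pow_mul] at h2
    have h3 : orderOf (((x : G) ^ 2) ^ i) ∣ orderOf ((x : G) ^ 2) := orderOf_pow_dvd i
    have h4 : orderOf ((x : G) ^ 2) < orderOf (x : G) := by
      rw [orderOf_pow' _ two_ne_zero, hj]
      rcases j with _ | j
      · exact absurd (orderOf_eq_one_iff.mp (hj.trans (pow_zero 2))) fun h' => hx.2 (h' ▸ one_mem T)
      · rw [Nat.gcd_eq_right (dvd_pow_self 2 (Nat.succ_ne_zero j))]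
        exact Nat.div_lt_self (by positivity) one_lt_two
    have h5 := Nat.le_of_dvd (orderOf_pos _) h3
    change orderOf (x : G) ≤ orderOf (a⁻¹ * (x : G) ^ (i + i) * a) at h1
    rw [show i + i = 2 * i by ring, pow_mul, h2] at h1
    omega
  · rw [hk.neg_one_pow]
    refine hneg _ fun hT => ?_
    obtain ⟨m, hm⟩ := exists_pow_eq_self_of_coprime (x := (x : G)) (n := k)
      (by rw [hj]; exact (Nat.coprime_two_right.mpr hk).pow_right j)
    refine hno a⁻¹ ?_ ?_ <;> rw [inv_inv, ← hm]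
    all_goals rw [show a⁻¹ * ((x : G) ^ k) ^ m * a = (a⁻¹ * (x : G) ^ k * a) ^ m by
      simpa using (conj_pow (i := m) (a := a⁻¹) (b := (x : G) ^ k)).symm]
    · exact pow_mem h m
    · exact pow_mem hT m

omit [IsSimpleGroup G] [FaithfulSMul G Ω] B in
theorem isKleinFour_of_four {S : Type*} [Group S] (h : Nat.card S = 4) (x : S) (hx : orderOf x = 2)
    (T : Subgroup S) (hT : T.index = 2) (hxT : x ∉ T) : IsKleinFour S := by
  haveI : Fact (Nat.Prime 2) := ⟨Nat.prime_two⟩
  haveI : Finite S := Nat.finite_of_card_ne_zero (by omega)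
  have hcomm : IsMulCommutative S := IsPGroup.isMulCommutative_of_card_eq_prime_sq (p := 2) (h.trans (by norm_num))
  have hTc : Nat.card T = 2 := by
    have := T.card_mul_index
    rw [hT, h] at this
    omega
  have hTsq : ∀ y ∈ T, y ^ 2 = 1 := fun y hy => by
    have := pow_card_eq_one' (x := (⟨y, hy⟩ : T))
    rw [hTc] at this
    exact congrArg Subtype.val this
  have hsq : ∀ y : S, y ^ 2 = 1 := fun y => by
    by_cases hy : y ∈ T
    · exact hTsq y hy
    · have hyx := hTsq _ ((Subgroup.mul_mem_iff_of_index_two hT).mpr (iff_of_false hy hxT))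
      rw [Commute.mul_pow (hcomm.is_comm.comm y x), ← hx, pow_orderOf_eq_one, mul_one] at hyx
      rwa [hx] at hyx
  refine ⟨h, ?_⟩
  refine (Nat.dvd_prime Nat.prime_two).mp (Monoid.exponent_dvd_of_forall_pow_eq_one hsq) |>.resolve_left ?_
  intro he
  have : x = 1 := by simpa [he] using Monoid.pow_exponent_eq_one x
  rw [this, orderOf_one] at hx
  omega

/-- A subgroup of index two of a Sylow subgroup fixing a common set. -/
theorem dihedral_of_halves (S : Sylow 2 G) {T : Subgroup G}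
    (hidx : (T.subgroupOf (S : Subgroup G)).index = 2) (F : Set Ω)
    (hT : ∀ t ∈ T, t ≠ 1 → fixedBy Ω t = F)
    (hne : ∀ x ∈ (S : Subgroup G), x ∉ T → fixedBy Ω x ≠ F)
    (hout : ∀ x ∈ (S : Subgroup G), x ∉ T → Nat.card (fixedBy Ω x) = Nat.card F →
      (fixedBy Ω x \ F).ncard ≤ 2) :
    (∃ n : ℕ, Nonempty ((S : Subgroup G) ≃* DihedralGroup n)) ∨
      Cfsg.IsQuasiDihedral (S : Subgroup G) := by
  classical
  haveI : Fact (Nat.Prime 2) := ⟨Nat.prime_two⟩
  obtain ⟨x, hxS, hxT, g, hgS, hg⟩ := exists_conj_mem_half B S hidx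
  have hx1 : x ≠ 1 := fun h => hxT (h ▸ one_mem T)
  have hc1 : g * x * g⁻¹ ≠ 1 := fun h => hx1 (conj_eq_one_iff.mp h)
  have hcard : Nat.card (fixedBy Ω x) = Nat.card F := by rw [← card_fixedBy_conj g x, hT _ hg hc1]
  have hx2 : x ^ 2 = 1 := by
    by_contra h
    have hm : (⟨x, hxS⟩ : (S : Subgroup G)) ^ 2 ∈ T.subgroupOf (S : Subgroup G) :=
      Subgroup.sq_mem_of_index_two hidx _
    have hs := fixedBy_subset_pow (Ω := Ω) x 2
    rw [hT _ (by simpa [Subgroup.mem_subgroupOf] using hm) h] at hs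
    refine hne x hxS hxT (Set.eq_of_subset_of_ncard_le hs ?_ (Set.toFinite _))
    rw [← Nat.card_coe_set_eq, ← Nat.card_coe_set_eq, hcard]
  have ho : orderOf x = 2 := orderOf_eq_prime hx2 hx1
  obtain ⟨d, hd, hdF⟩ : ∃ d ∈ fixedBy Ω x, d ∉ F := by
    by_contra h
    push Not at h
    refine hne x hxS hxT (Set.eq_of_subset_of_ncard_le h ?_ (Set.toFinite _))
    rw [← Nat.card_coe_set_eq, ← Nat.card_coe_set_eq, hcard]
  set x' : (S : Subgroup G) := ⟨x, hxS⟩ with hx'
  set T' := T.subgroupOf (S : Subgroup G) with hT'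
  haveI : T'.Normal := Subgroup.normal_of_index_eq_two hidx
  set C := Subgroup.centralizer ({x'} : Set (S : Subgroup G)) with hC
  have hCT : Nat.card ↥(C ⊓ T') ≤ 2 := by
    refine le_trans ?_ (hout x hxS hxT hcard)
    rw [← Nat.card_coe_set_eq]
    have hmem : ∀ t : ↥(C ⊓ T'), ((t : (S : Subgroup G)) : G) • d ∈ fixedBy Ω x \ F := by
      intro t
      have hc : Commute ((t : (S : Subgroup G)) : G) x :=
        congrArg (Subgroup.subtype (S : Subgroup G)) (Subgroup.mem_centralizer_singleton_iff.mp t.2.1)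
      refine ⟨(mem_setStab_fixedBy hc d).mpr hd, fun hF => hdF ?_⟩
      by_cases h1 : ((t : (S : Subgroup G)) : G) = 1
      · rwa [h1, one_smul] at hF
      · have e := hT _ (Subgroup.mem_subgroupOf.mp t.2.2) h1
        rw [← e, mem_fixedBy, smul_left_cancel_iff] at hF
        exact e ▸ hF
    refine Nat.card_le_card_of_injective (fun t => (⟨_, hmem t⟩ : ↥(fixedBy Ω x \ F))) fun t t' e => ?_
    have e' := congrArg Subtype.val e
    simp only at e'
    apply Subtype.ext
    apply Subtype.ext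
    by_contra hne'
    refine hdF ?_
    rw [← hT (((t' : (S : Subgroup G)) : G)⁻¹ * ((t : (S : Subgroup G)) : G))
      (mul_mem (inv_mem (Subgroup.mem_subgroupOf.mp t'.2.2)) (Subgroup.mem_subgroupOf.mp t.2.2))
      (fun h => hne' (inv_mul_eq_one.mp h).symm), mem_fixedBy, mul_smul, e', inv_smul_smul]
  have hC4 : Nat.card C ≤ 4 := by
    rw [CfsgLib.TwoRank.card_split (QuotientGroup.mk' T') C, QuotientGroup.ker_mk']
    calc _ ≤ 2 * T'.index := Nat.mul_le_mul hCT (Subgroup.card_le_card_group _)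
      _ = 4 := by rw [hidx]
  have hx'2 : orderOf x' = 2 := by rw [hx', Subgroup.orderOf_mk, ho]
  have hxC : x' ∈ C := Subgroup.mem_centralizer_singleton_iff.mpr rfl
  have hC4' : Nat.card C = 4 := by
    obtain ⟨k, hk⟩ := (S.isPGroup'.to_subgroup C).exists_card_eq
    have hdvd := Subgroup.orderOf_dvd_natCard _ hxC
    rw [hx'2] at hdvd
    have hk2 : k ≤ 2 := (Nat.pow_le_pow_iff_right (show 1 < 2 by norm_num)).mp (by rw [← hk]; exact hC4)
    interval_cases k
    · rw [hk] at hdvd; norm_num at hdvd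
    · exfalso
      have hCz : Subgroup.zpowers x' = C := Subgroup.eq_of_le_of_card_ge
        (Subgroup.zpowers_le.mpr hxC) (by rw [Nat.card_zpowers, hx'2, hk]; norm_num)
      have hle : Subgroup.center (S : Subgroup G) ≤ Subgroup.zpowers x' := hCz ▸ fun z hz =>
        Subgroup.mem_centralizer_singleton_iff.mpr ((Subgroup.mem_center_iff.mp hz x').symm)
      haveI : Nontrivial (S : Subgroup G) :=
        ⟨⟨x', 1, fun h => by rw [h, orderOf_one] at hx'2; omega⟩⟩
      obtain ⟨z, hz1⟩ := @exists_ne _ S.isPGroup'.center_nontrivial 1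
      have hzc : Nat.card (Subgroup.center (S : Subgroup G)) ≠ 1 := fun h => hz1 (by
        haveI := (Nat.card_eq_one_iff_unique.mp h).1
        exact Subsingleton.elim _ _)
      have hz2 : 2 ≤ Nat.card (Subgroup.center (S : Subgroup G)) := by
        have : 0 < Nat.card (Subgroup.center (S : Subgroup G)) := Nat.card_pos
        omega
      have heq := Subgroup.eq_of_le_of_card_ge hle (by rw [Nat.card_zpowers, hx'2]; exact hz2)
      have hCtop : C = ⊤ := top_le_iff.mp fun y _ => Subgroup.mem_centralizer_singleton_iff.mpr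
        (Subgroup.mem_center_iff.mp (heq ▸ Subgroup.mem_zpowers x' : x' ∈ Subgroup.center _) y)
      rw [hCtop, Subgroup.card_top] at hk
      have hTc := T'.card_mul_index
      rw [hidx, hk] at hTc
      have hTbot : T' = ⊥ := Subgroup.card_eq_one.mp (by omega)
      have hg' : (⟨g * x * g⁻¹, hgS⟩ : (S : Subgroup G)) ∈ T' := hg
      rw [hTbot, Subgroup.mem_bot] at hg'
      exact hc1 (congrArg Subtype.val hg')
    · exact hk
  rcases Cfsg.Agent.S3224.result S.isPGroup' x' hx'2 hC4' with h | h | h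
  · exact Or.inl h
  · exact Or.inr h
  · haveI := isKleinFour_of_four h x' hx'2 T' hidx fun hm => hxT (Subgroup.mem_subgroupOf.mp hm)
    haveI : IsKleinFour (DihedralGroup 2) := inferInstance
    exact Or.inl ⟨2, IsKleinFour.nonempty_mulEquiv⟩

/-- A point with a setwise stabiliser containing all elements fixing a translate. -/
theorem stronglyEmbedded_of_fixed {F : Set Ω} (h0 : F.Nonempty) (h4 : Nat.card F ≤ 4)
    (heven : Even (Nat.card (setStab (G := G) F)))
    (hF : ∀ u ∈ setStab (G := G) F, orderOf u = 2 → fixedBy Ω u = F) :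
    Cfsg.IsStronglyEmbedded (setStab (G := G) F) := by
  haveI : Fact (Nat.Prime 2) := ⟨Nat.prime_two⟩
  refine ⟨setStab_ne_top B h0 h4, heven, fun g hg => ?_⟩
  by_contra hodd
  rw [Nat.not_odd_iff_even] at hodd
  obtain ⟨⟨u, hu, u', hu', hgu⟩, h2⟩ := exists_prime_orderOf_dvd_card' 2 (even_iff_two_dvd.mp hodd)
  rw [← Subgroup.orderOf_coe] at h2
  have h2 : orderOf u = 2 := h2
  simp only [MulEquiv.coe_toMonoidHom, MulAut.conj_apply] at hgu
  have h1 := hF u hu h2
  have h2' : orderOf u' = 2 := by rw [← CfsgLib.Transfer.orderOf_conj g u', hgu]; exact h2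
  have h3 := hF u' hu' h2'
  rw [← hgu, fixedBy_conj, h3] at h1
  refine hg fun x => ?_
  constructor
  · intro hx
    rw [← h1] at hx
    obtain ⟨y, hy, e⟩ := hx
    rwa [(smul_left_cancel_iff g).mp e] at hy
  · exact fun hx => h1 ▸ ⟨x, hx, rfl⟩

/-- The cases in which involutions fix at most three points. -/
theorem small_f {f : ℕ} (hf1 : 1 ≤ f) (hf3 : f ≤ 3)
    (hf : ∀ g : G, orderOf g = 2 → Nat.card (fixedBy Ω g) ≤ f)
    (hf' : ∃ g : G, orderOf g = 2 ∧ Nat.card (fixedBy Ω g) = f) (S : Sylow 2 G) (a : Ω) :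
    (∃ H : Subgroup G, Cfsg.IsStronglyEmbedded H) ∨
      (∃ n : ℕ, Nonempty ((S : Subgroup G) ≃* DihedralGroup n)) ∨
      Cfsg.IsQuasiDihedral (S : Subgroup G) := by
  classical
  haveI : Fact (Nat.Prime 2) := ⟨Nat.prime_two⟩
  have hinv : ∀ u : G, orderOf u = 2 → Nat.card (fixedBy Ω u) = f := fun u hu =>
    card_fixedBy_invol B hf3 hf hf' hu
  have hn5 := five_le B
  obtain ⟨g₀, hg₀, hg₀f⟩ := hf'
  have hmod := four_dvd_moved B hg₀
  have hle₀ : Nat.card (fixedBy Ω g₀) ≤ Nat.card Ω := Finite.card_subtype_le _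
  rw [hg₀f] at hmod hle₀
  have h2G : 2 ∣ Nat.card G := hg₀ ▸ orderOf_dvd_natCard g₀
  rcases Nat.eq_or_lt_of_le hf1 with rfl | hf2
  · -- one fixed point
    refine Or.inl ⟨stabilizer G a, ?_, ?_, fun g hg => ?_⟩
    · intro h
      have := card_mul_stab B a
      rw [h, Subgroup.card_top] at this
      have hpos : 0 < Nat.card G := Nat.card_pos
      nlinarith
    · rw [← card_mul_stab B a] at h2G
      refine even_iff_two_dvd.mpr ((Nat.prime_two.dvd_mul.mp h2G).resolve_left ?_)
      omega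
    · by_contra hodd
      rw [Nat.not_odd_iff_even] at hodd
      obtain ⟨⟨u, hu, u', hu', hgu⟩, h2⟩ :=
        exists_prime_orderOf_dvd_card' 2 (even_iff_two_dvd.mp hodd)
      rw [← Subgroup.orderOf_coe] at h2
      have h2 : orderOf u = 2 := h2
      simp only [MulEquiv.coe_toMonoidHom, MulAut.conj_apply] at hgu
      have hga : g • a ∈ fixedBy Ω u := by
        rw [← hgu, fixedBy_conj]
        exact ⟨a, hu', rfl⟩
      haveI := (Nat.card_eq_one_iff_unique.mp (hinv u h2)).1
      exact hg (congrArg Subtype.val (Subsingleton.elim (⟨g • a, hga⟩ : fixedBy Ω u) ⟨a, hu⟩))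
  -- at least two
  have hS1 : ∃ u ∈ (S : Subgroup G), orderOf u = 2 := by
    obtain ⟨u, hu⟩ := exists_prime_orderOf_dvd_card' 2 (S.dvd_card_of_dvd_card h2G)
    exact ⟨u, u.2, by rwa [Subgroup.orderOf_coe]⟩
  obtain ⟨u, huS, hu⟩ := hS1
  set F₀ := fixedPoints (S : Subgroup G) Ω with hF₀
  have hF₀u : F₀ ⊆ fixedBy Ω u := fun x hx => hx ⟨u, huS⟩
  have hF₀le : Nat.card F₀ ≤ f := (hinv u hu) ▸ Nat.card_mono (Set.toFinite _) hF₀u
  have hF₀mod : Nat.card Ω ≡ Nat.card F₀ [MOD 2] := S.isPGroup'.card_modEq_card_fixedPoints Ω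
  unfold Nat.ModEq at hF₀mod
  -- no fixed point in the case of two
  have hno2 : f = 2 → Nat.card F₀ = 0 := fun hf => by
    rw [Nat.card_eq_zero]
    refine Or.inl ⟨fun ⟨x, hx⟩ => ?_⟩
    have hle : (S : Subgroup G) ≤ stabilizer G x := fun s hs => hx ⟨s, hs⟩
    have h1 : (stabilizer G x).index ∣ (S : Subgroup G).index := Subgroup.index_dvd_of_le hle
    haveI := B.trans
    rw [MulAction.index_stabilizer_of_transitive G x] at h1
    exact S.not_dvd_index (dvd_trans (by omega) h1)
  by_cases h3 : Nat.card F₀ = 3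
  · refine Or.inl ⟨setStab F₀, ?_⟩
    have hf3' : f = 3 := by omega
    have hne : F₀.Nonempty := Set.nonempty_coe_sort.mp (Nat.card_pos_iff.mp (by omega)).1
    have hSpt : (S : Subgroup G) ≤ ptStab F₀ := fun s hs x hx => hx ⟨s, hs⟩
    have hpt : ptStab (G := G) F₀ ≤ setStab F₀ := ptStab_le_setStab F₀
    refine stronglyEmbedded_of_fixed B hne (by omega) ?_ fun v hv hv2 => ?_
    · exact even_iff_two_dvd.mpr ((S.dvd_card_of_dvd_card h2G).trans
        (Subgroup.card_dvd_of_le (hSpt.trans hpt)))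
    · haveI : ((ptStab (G := G) F₀).subgroupOf (setStab F₀)).Normal :=
        ⟨fun k hk g => conj_mem_ptStab g.2 hk⟩
      have hodd : ¬ 2 ∣ (ptStab (G := G) F₀).relIndex (setStab F₀) := fun h =>
        S.not_dvd_index (h.trans ((Subgroup.relIndex_dvd_of_le_left _ hSpt).trans
          (Subgroup.relIndex_dvd_index_of_le (hSpt.trans hpt))))
      have hmem := Subgroup.pow_index_mem ((ptStab (G := G) F₀).subgroupOf (setStab F₀)) ⟨v, hv⟩
      rw [Subgroup.mem_subgroupOf] at hmem
      change v ^ (ptStab F₀).relIndex (setStab (G := G) F₀) ∈ ptStab F₀ at hmem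
      obtain ⟨k, hk⟩ := (Nat.not_even_iff_odd.mp fun h => hodd (even_iff_two_dvd.mp h))
      rw [hk, pow_succ, pow_mul, ← hv2, pow_orderOf_eq_one, one_pow, one_mul] at hmem
      refine (Set.eq_of_subset_of_ncard_le (mem_ptStab_iff_subset.mp hmem) ?_ (Set.toFinite _)).symm
      rw [← Nat.card_coe_set_eq, ← Nat.card_coe_set_eq, hinv v hv2, hf3', h3]
  -- an orbit of length two
  obtain ⟨b, hb⟩ := exists_index_two (Ω := Ω) S.isPGroup' (by
    show ¬ 4 ∣ Nat.card Ω - Nat.card F₀
    rcases (show f = 2 ∨ f = 3 by omega) with e | e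
    · have := hno2 e; omega
    · omega)
  set T := (S : Subgroup G) ⊓ stabilizer G b with hT
  have hidx : (T.subgroupOf (S : Subgroup G)).index = 2 := by
    refine (congrArg Subgroup.index ?_).trans hb
    ext x
    simp [Subgroup.mem_subgroupOf, hT]
  obtain ⟨s, hsS, hsb⟩ : ∃ s ∈ (S : Subgroup G), s • b ≠ b := by
    by_contra h
    push Not at h
    have := Subgroup.index_eq_one.mpr
      (Subgroup.subgroupOf_eq_top.mpr (show (S : Subgroup G) ≤ stabilizer G b from h))
    omega
  set F : Set Ω := insert b (insert (s • b) F₀) with hF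
  have hbF₀ : b ∉ F₀ := fun h => hsb (h ⟨s, hsS⟩)
  have hcF₀ : s • b ∉ F₀ := fun h => hbF₀ (by
    have e : b = s • b := by simpa using (h ⟨s⁻¹, inv_mem hsS⟩ : s⁻¹ • s • b = s • b)
    rwa [← e] at h)
  have hFf : Nat.card F = f := by
    rw [Nat.card_coe_set_eq, hF, Set.ncard_insert_of_notMem _ (Set.toFinite _),
      Set.ncard_insert_of_notMem hcF₀ (Set.toFinite _), ← Nat.card_coe_set_eq]
    · rcases (show f = 2 ∨ f = 3 by omega) with e | e
      · rw [hno2 e, e]
      · omega
    · rw [Set.mem_insert_iff]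
      rintro (h | h)
      · exact hsb h.symm
      · exact hbF₀ h
  haveI : (T.subgroupOf (S : Subgroup G)).Normal := Subgroup.normal_of_index_eq_two hidx
  refine Or.inr (dihedral_of_halves B S hidx F (fun t ht ht1 => ?_) (fun x hxS hxT h => ?_)
    (fun x hxS _ hx => ?_))
  · have hsub : F ⊆ fixedBy Ω t := by
      rintro y (rfl | rfl | hy)
      · exact ht.2
      · have hc : (⟨s, hsS⟩ : (S : Subgroup G))⁻¹ * ⟨t, ht.1⟩ * ⟨s, hsS⟩ ∈ T.subgroupOf (S : Subgroup G) := by
          simpa using (inferInstance : (T.subgroupOf (S : Subgroup G)).Normal).conj_mem ⟨t, ht.1⟩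
            (Subgroup.mem_subgroupOf.mpr ht) (⟨s, hsS⟩ : (S : Subgroup G))⁻¹
        have h := (Subgroup.mem_subgroupOf.mp hc).2
        simp only [Subgroup.coe_mul, InvMemClass.coe_inv] at h
        have h' : (s⁻¹ * t * s) • b = b := h
        rwa [mul_smul, mul_smul, inv_smul_eq_iff] at h'
      · exact hy ⟨t, ht.1⟩
    refine (Set.eq_of_subset_of_ncard_le hsub ?_ (Set.toFinite _)).symm
    obtain ⟨k, hk⟩ := exists_invol_pow S.isPGroup' ht.1 ht1
    rw [← Nat.card_coe_set_eq, ← Nat.card_coe_set_eq, hFf, ← hinv _ hk]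
    exact Nat.card_mono (Set.toFinite _) (fixedBy_subset_pow t k)
  · exact hxT ⟨hxS, mem_stabilizer_of_fixed (h ▸ Set.mem_insert b _)⟩
  · have hsub : fixedBy Ω x \ F ⊆ fixedBy Ω x \ F₀ :=
      Set.sdiff_subset_sdiff_right ((Set.subset_insert _ _).trans (Set.subset_insert _ _))
    refine (Set.ncard_le_ncard hsub (Set.toFinite _)).trans ?_
    have hF₀x : F₀ ⊆ fixedBy Ω x := fun y hy => hy ⟨x, hxS⟩
    have h2' := Set.ncard_sdiff_add_ncard_of_subset hF₀x (Set.toFinite _)
    simp only [← Nat.card_coe_set_eq] at h2' ⊢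
    rw [hx, hFf] at h2'
    rcases (show f = 2 ∨ f = 3 by omega) with e | e
    · omega
    · omega

end Simple

end CfsgLib.FixityFour
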